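import Mathlib
import Cfsg.Prelude.Def_Transfer
import Cfsg.Agent.Helper23.OddPGroup
import Cfsg.Agent.Helper16.QuatExt
import Cfsg.Agent.Helper14.Frattini

set_option autoImplicit false

namespace Cfsg.Agent.Helper26

open Cfsg
open scoped commutatorElement

section OrderP3

section Frat

variable {P : Type*} [Group P] [Finite P] {p : ℕ} [Fact p.Prime]

theorem p3_quot_coatom_center (hP : IsPGroup p P) (M : Subgroup P) [M.Normal] (hM : IsCoatom M) :
    ∀ x y : P ⧸ M, x * y = y * x := by
  have hnt : Nontrivial (P ⧸ M) := by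
    rw [← not_subsingleton_iff_nontrivial]
    intro hs
    apply hM.1
    rw [eq_top_iff]
    intro x _
    rw [← QuotientGroup.eq_one_iff]
    exact Subsingleton.elim _ _
  have hQ : IsPGroup p (P ⧸ M) := hP.to_quotient M
  have hcn : Nontrivial (Subgroup.center (P ⧸ M)) := hQ.center_nontrivial
  have hle : M ≤ (Subgroup.center (P ⧸ M)).comap (QuotientGroup.mk' M) := by
    intro x hx
    rw [Subgroup.mem_comap]
    have h1 : QuotientGroup.mk' M x = 1 := (QuotientGroup.eq_one_iff x).2 hx
    rw [h1]; exact Subgroup.one_mem _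
  have hne : M ≠ (Subgroup.center (P ⧸ M)).comap (QuotientGroup.mk' M) := by
    intro heq
    obtain ⟨z, hz, hz1⟩ := (Subgroup.nontrivial_iff_exists_ne_one _).1 hcn
    obtain ⟨z', rfl⟩ := QuotientGroup.mk_surjective z
    have h1 : z' ∈ (Subgroup.center (P ⧸ M)).comap (QuotientGroup.mk' M) := hz
    rw [← heq] at h1
    exact hz1 ((QuotientGroup.eq_one_iff z').2 h1)
  have htop := hM.2 _ (lt_of_le_of_ne hle hne)
  intro x y
  obtain ⟨x', rfl⟩ := QuotientGroup.mk_surjective x
  have h1 : x' ∈ (Subgroup.center (P ⧸ M)).comap (QuotientGroup.mk' M) := by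
    rw [htop]; exact Subgroup.mem_top _
  exact ((Subgroup.mem_center_iff.1 h1) y).symm

theorem p3_coatom_normal (hP : IsPGroup p P) (M : Subgroup P) (hM : IsCoatom M) : M.Normal := by
  have hnil : Group.IsNilpotent P := hP.isNilpotent
  exact ((Group.isNilpotent_of_finite_tfae (G := P)).out 0 2 rfl rfl).mp hnil M hM

/-- Commutators lie in the Frattini subgroup of a finite `p`-group. -/
theorem p3_commutator_mem_frattini (hP : IsPGroup p P) (x y : P) : ⁅x, y⁆ ∈ frattini P := by
  simp only [frattini, Order.radical, Subgroup.mem_iInf]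
  intro M hM
  have hMn := p3_coatom_normal hP M hM
  have h1 := p3_quot_coatom_center hP M hM (QuotientGroup.mk x) (QuotientGroup.mk y)
  rw [← QuotientGroup.eq_one_iff]
  show (QuotientGroup.mk' M) ⁅x, y⁆ = 1
  rw [map_commutatorElement, commutatorElement_eq_one_iff_commute]
  exact h1

end Frat

variable {G : Type*} [Group G]

theorem p3_center_card [Finite G] {p : ℕ} [Fact p.Prime] (hcard : Nat.card G = p ^ 3)
    (hnc : ¬ ∀ a b : G, a * b = b * a) : Nat.card (Subgroup.center G) = p := by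
  have hpp : p.Prime := Fact.out
  have hG : IsPGroup p G := IsPGroup.of_card hcard
  haveI : Nontrivial G := (Finite.one_lt_card_iff_nontrivial).mp
    (by rw [hcard]; exact Nat.one_lt_pow (by norm_num) hpp.one_lt)
  obtain ⟨c, hc3, hc⟩ := (Nat.dvd_prime_pow hpp).mp
    (show Nat.card (Subgroup.center G) ∣ p ^ 3 by
      rw [← hcard]; exact Subgroup.card_subgroup_dvd_card _)
  have hlt := hG.bot_lt_center
  interval_cases c
  · exfalso
    have : Subgroup.center G = ⊥ := Subgroup.card_eq_one.mp (by rw [hc, pow_zero])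
    exact hlt.ne' this
  · rw [hc, pow_one]
  · exfalso
    have hidx : (Subgroup.center G).index = p := by
      have h := Subgroup.card_mul_index (Subgroup.center G)
      rw [hc, hcard] at h
      have : p ^ 2 * (Subgroup.center G).index = p ^ 2 * p := by rw [h]; ring
      exact Nat.eq_of_mul_eq_mul_left (pow_pos hpp.pos 2) this
    haveI : IsCyclic (G ⧸ Subgroup.center G) :=
      isCyclic_of_prime_card (p := p) (by rw [← Subgroup.index_eq_card]; exact hidx)
    exact hnc (commutative_of_cyclic_center_quotient (QuotientGroup.mk' (Subgroup.center G))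
      (by rw [QuotientGroup.ker_mk']))
  · exfalso
    have : Subgroup.center G = ⊤ := Subgroup.eq_top_of_card_eq _ (by rw [hc, hcard])
    exact hnc (fun a b => by
      have ha : a ∈ Subgroup.center G := by rw [this]; trivial
      exact (Subgroup.mem_center_iff.mp ha b).symm)

theorem p3_quot [Finite G] {p : ℕ} [Fact p.Prime] (hcard : Nat.card G = p ^ 3)
    (hnc : ¬ ∀ a b : G, a * b = b * a) :
    (∀ x : G, x ^ p ∈ Subgroup.center G) ∧ (∀ a b : G, a * b * a⁻¹ * b⁻¹ ∈ Subgroup.center G) ∧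
      ∀ a b : G, (QuotientGroup.mk' (Subgroup.center G)) a * (QuotientGroup.mk' (Subgroup.center G)) b =
        (QuotientGroup.mk' (Subgroup.center G)) b * (QuotientGroup.mk' (Subgroup.center G)) a := by
  have hpp : p.Prime := Fact.out
  have hZ := p3_center_card hcard hnc
  have hqc : Nat.card (G ⧸ Subgroup.center G) = p ^ 2 := by
    rw [← Subgroup.index_eq_card]
    have h := Subgroup.card_mul_index (Subgroup.center G)
    rw [hZ, hcard] at h
    have : p * (Subgroup.center G).index = p * p ^ 2 := by rw [h]; ring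
    exact Nat.eq_of_mul_eq_mul_left hpp.pos this
  have hqcomm : ∀ a b : G ⧸ Subgroup.center G, a * b = b * a :=
    fun a b => (IsPGroup.isMulCommutative_of_card_eq_prime_sq hqc).is_comm.comm a b
  have hncyc : ¬ IsCyclic (G ⧸ Subgroup.center G) := fun h => hnc (by
    haveI := h
    exact commutative_of_cyclic_center_quotient (QuotientGroup.mk' (Subgroup.center G))
      (by rw [QuotientGroup.ker_mk']))
  refine ⟨?_, ?_, fun a b => hqcomm _ _⟩
  · intro x
    rw [← QuotientGroup.eq_one_iff, QuotientGroup.mk_pow]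
    obtain ⟨q, hq⟩ : ∃ q : G ⧸ Subgroup.center G, q = ↑x := ⟨_, rfl⟩
    rw [← hq]
    have hdvd : orderOf q ∣ p ^ 2 := by rw [← hqc]; exact orderOf_dvd_natCard q
    obtain ⟨j, hj, hj'⟩ := (Nat.dvd_prime_pow hpp).mp hdvd
    interval_cases j
    · have : q = 1 := orderOf_eq_one_iff.mp (by rw [hj', pow_zero])
      rw [this, one_pow]
    · have : orderOf q = p := by rw [hj', pow_one]
      exact orderOf_dvd_iff_pow_eq_one.mp (dvd_of_eq this)
    · exact absurd (isCyclic_of_orderOf_eq_card q (hj'.trans hqc.symm)) hncyc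
  · intro a b
    rw [← QuotientGroup.eq_one_iff]
    have := hqcomm (a : G ⧸ Subgroup.center G) b
    simp only [QuotientGroup.mk_mul, QuotientGroup.mk_inv]
    rw [this, mul_inv_cancel_right, mul_inv_cancel]

theorem p3_extraspecial [Finite G] {p : ℕ} [Fact p.Prime] (hcard : Nat.card G = p ^ 3)
    (hnc : ¬ ∀ a b : G, a * b = b * a) (hexp : ∀ x : G, x ^ p = 1) : IsExtraspecial p G := by
  have hpp : p.Prime := Fact.out
  have hG : IsPGroup p G := IsPGroup.of_card hcard
  have hZ := p3_center_card hcard hnc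
  obtain ⟨hZpow, hZcomm, hqcomm⟩ := p3_quot hcard hnc
  have hcomm_le : commutator G ≤ Subgroup.center G := by
    rw [commutator_def, Subgroup.commutator_le]
    intro a _ b _
    rw [commutatorElement_def]
    exact hZcomm a b
  have hcomm_ne : commutator G ≠ ⊥ := by
    intro h
    apply hnc
    intro a b
    have : ⁅a, b⁆ ∈ commutator G := by
      rw [commutator_def]
      exact Subgroup.commutator_mem_commutator (Subgroup.mem_top a) (Subgroup.mem_top b)
    rw [h, Subgroup.mem_bot, commutatorElement_eq_one_iff_mul_comm] at this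
    exact this
  have hcomm_eq : commutator G = Subgroup.center G := by
    apply Subgroup.eq_of_le_of_card_ge hcomm_le
    rw [hZ]
    have hd : Nat.card (commutator G) ∣ p := by rw [← hZ]; exact Subgroup.card_dvd_of_le hcomm_le
    rcases (Nat.dvd_prime hpp).mp hd with h1 | h1
    · exact absurd (Subgroup.card_eq_one.mp h1) hcomm_ne
    · exact h1.ge
  refine ⟨⟨hG, ?_, hcomm_eq⟩, hZ⟩
  apply le_antisymm
  · have h := Cfsg.Agent.Helper14.frattini_le_ker_of_elementary (p := p)
      (QuotientGroup.mk' (Subgroup.center G)) hqcomm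
      (fun a => by rw [← map_pow, hexp, map_one])
    rwa [QuotientGroup.ker_mk'] at h
  · rw [← hcomm_eq, commutator_def, Subgroup.commutator_le]
    intro a _ b _
    exact p3_commutator_mem_frattini hG a b

theorem p3_abelian [Finite G] {p : ℕ} [Fact p.Prime] (hcard : Nat.card G = p ^ 3)
    (hab : ∀ a b : G, a * b = b * a) (x₀ : G) (hx₀ : x₀ ^ p ≠ 1) :
    ∃ L₁ L₂ : Subgroup G, (∀ β : MulAut G, ∀ x ∈ L₁, β x ∈ L₁) ∧
      (∀ β : MulAut G, ∀ x ∈ L₂, β x ∈ L₂) ∧ L₁ ≤ L₂ ∧ Nat.card L₁ = p ∧ Nat.card L₂ = p ^ 2 := by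
  have hpp : p.Prime := Fact.out
  let φ : G →* G := MonoidHom.mk' (fun x => x ^ p)
    (fun a b => (show Commute a b from hab a b).mul_pow p)
  have hφ : ∀ x, φ x = x ^ p := fun x => rfl
  have hker : ∀ β : MulAut G, ∀ x ∈ φ.ker, β x ∈ φ.ker := fun β x hx => by
    rw [MonoidHom.mem_ker, hφ] at hx ⊢
    rw [← map_pow, hx, map_one]
  have hrange : ∀ β : MulAut G, ∀ x ∈ φ.range, β x ∈ φ.range := fun β x hx => by
    obtain ⟨y, rfl⟩ := hx
    exact ⟨β y, by rw [hφ, hφ, map_pow]⟩
  have hprod : Nat.card φ.ker * Nat.card φ.range = p ^ 3 := by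
    rw [← Subgroup.index_ker, Subgroup.card_mul_index, hcard]
  obtain ⟨a, ha3, ha⟩ := (Nat.dvd_prime_pow hpp).mp
    (show Nat.card φ.ker ∣ p ^ 3 by rw [← hprod]; exact dvd_mul_right _ _)
  obtain ⟨w, hw⟩ := exists_prime_orderOf_dvd_card' (G := G) p
    (by rw [hcard]; exact dvd_pow_self p (by norm_num))
  have hwp : w ^ p = 1 := orderOf_dvd_iff_pow_eq_one.mp (dvd_of_eq hw)
  have hwker : w ∈ φ.ker := by rw [MonoidHom.mem_ker, hφ]; exact hwp
  have hw1 : w ≠ 1 := fun h => by rw [h, orderOf_one] at hw; exact hpp.one_lt.ne hw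
  have ha0 : a ≠ 0 := by
    rintro rfl
    rw [pow_zero] at ha
    have : φ.ker = ⊥ := Subgroup.card_eq_one.mp ha
    rw [this, Subgroup.mem_bot] at hwker
    exact hw1 hwker
  have hx₀r : x₀ ^ p ∈ φ.range := ⟨x₀, rfl⟩
  have ha3' : a ≠ 3 := by
    rintro rfl
    have : Nat.card φ.range = 1 := by
      have h := hprod
      rw [ha] at h
      exact Nat.eq_of_mul_eq_mul_left (pow_pos hpp.pos 3) (by rw [h, mul_one])
    have hb : φ.range = ⊥ := Subgroup.card_eq_one.mp this
    rw [hb, Subgroup.mem_bot] at hx₀r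
    exact hx₀ hx₀r
  have ha12 : a = 1 ∨ a = 2 := by omega
  rcases ha12 with rfl | rfl
  · have hr : Nat.card φ.range = p ^ 2 := by
      have h := hprod
      rw [ha, pow_one] at h
      exact Nat.eq_of_mul_eq_mul_left hpp.pos (by rw [h]; ring)
    refine ⟨φ.ker, φ.range, hker, hrange, ?_, by rw [ha, pow_one], hr⟩
    obtain ⟨v, hv⟩ := exists_prime_orderOf_dvd_card' (G := ↥φ.range) p
      (by rw [hr]; exact dvd_pow_self p (by norm_num))
    have hvp : (v : G) ^ p = 1 := by
      have : v ^ p = 1 := orderOf_dvd_iff_pow_eq_one.mp (dvd_of_eq hv)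
      exact congrArg Subtype.val this
    have hv1 : (v : G) ≠ 1 := fun h => by
      have : v = 1 := Subtype.ext h
      rw [this, orderOf_one] at hv
      exact hpp.one_lt.ne hv
    have hvker : (v : G) ∈ φ.ker := by rw [MonoidHom.mem_ker, hφ]; exact hvp
    have hzk : Subgroup.zpowers (v : G) = φ.ker := by
      apply Subgroup.eq_of_le_of_card_ge (Subgroup.zpowers_le.mpr hvker)
      rw [ha, pow_one, Nat.card_zpowers, orderOf_eq_prime hvp hv1]
    rw [← hzk]
    exact Subgroup.zpowers_le.mpr v.2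
  · have hr : Nat.card φ.range = p := by
      have h := hprod
      rw [ha] at h
      exact Nat.eq_of_mul_eq_mul_left (pow_pos hpp.pos 2) (by rw [h]; ring)
    refine ⟨φ.range, φ.ker, hrange, hker, ?_, hr, ha⟩
    intro y hy
    rw [MonoidHom.mem_ker, hφ]
    have := pow_card_eq_one' (G := ↥φ.range) (x := ⟨y, hy⟩)
    rw [hr] at this
    exact congrArg Subtype.val this

/-- The `D₈` case: a nonabelian group of order `8` with a noncentral involution has a
characteristic chain. -/
theorem p3_dihedral [Finite G] (hcard : Nat.card G = 2 ^ 3) (hnc : ¬ ∀ a b : G, a * b = b * a)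
    (x₀ : G) (hx₀ : x₀ ^ 2 ≠ 1) (huniq : ¬ ∃! x : G, orderOf x = 2) :
    ∃ L₁ L₂ : Subgroup G, (∀ β : MulAut G, ∀ x ∈ L₁, β x ∈ L₁) ∧
      (∀ β : MulAut G, ∀ x ∈ L₂, β x ∈ L₂) ∧ L₁ ≤ L₂ ∧ Nat.card L₁ = 2 ∧ Nat.card L₂ = 2 ^ 2 := by
  have hZ := p3_center_card hcard hnc
  obtain ⟨hZpow, hZcomm, -⟩ := p3_quot hcard hnc
  have hZchar : ∀ β : MulAut G, ∀ x ∈ Subgroup.center G, β x ∈ Subgroup.center G :=
    fun β x hx => by
      rw [Subgroup.mem_center_iff] at hx ⊢
      intro g
      have h2 := congrArg β (hx (β⁻¹ g))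
      rw [map_mul, map_mul, MulAut.apply_inv_self] at h2
      exact h2
  have hZp : ∀ z ∈ Subgroup.center G, z ^ 2 = 1 := fun z hz => by
    have := pow_card_eq_one' (G := ↥(Subgroup.center G)) (x := ⟨z, hz⟩)
    rw [hZ] at this
    exact congrArg Subtype.val this
  have hx₀Z : x₀ ^ 2 ∈ Subgroup.center G := hZpow x₀
  have hx₀4 : x₀ ^ 2 * x₀ ^ 2 = 1 := by rw [← pow_two]; exact hZp _ hx₀Z
  have h4 : x₀ ^ 4 = 1 := by
    rw [show (4 : ℕ) = 2 * 2 from rfl, pow_mul, pow_two (x₀ ^ 2)]; exact hx₀4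
  have hz2 : orderOf (x₀ ^ 2) = 2 := orderOf_eq_prime (hZp _ hx₀Z) hx₀
  have hx₀ord : orderOf x₀ = 4 := by
    have := orderOf_eq_prime_pow (x := x₀) (p := 2) (n := 1) (by rw [pow_one]; exact hx₀)
      (by norm_num; exact h4)
    norm_num at this
    exact this
  obtain ⟨t, ht2, htne⟩ : ∃ t : G, orderOf t = 2 ∧ t ≠ x₀ ^ 2 := by
    by_contra hcon
    apply huniq
    refine ⟨x₀ ^ 2, hz2, fun y hy => ?_⟩
    by_contra hne
    exact hcon ⟨y, hy, hne⟩
  have htt : t * t = 1 := by
    rw [← pow_two]; exact orderOf_dvd_iff_pow_eq_one.mp (dvd_of_eq ht2)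
  have ht1 : t ≠ 1 := fun h => by rw [h, orderOf_one] at ht2; omega
  have tinv : t⁻¹ = t := inv_eq_of_mul_eq_one_left htt
  have hZelts : ∀ w ∈ Subgroup.center G, w = 1 ∨ w = x₀ ^ 2 := by
    intro w hw
    have hle : Subgroup.zpowers (x₀ ^ 2) ≤ Subgroup.center G := Subgroup.zpowers_le.mpr hx₀Z
    have heq : Subgroup.zpowers (x₀ ^ 2) = Subgroup.center G :=
      Subgroup.eq_of_le_of_card_ge hle (by rw [hZ, Nat.card_zpowers, hz2])
    rw [← heq] at hw
    obtain ⟨k, rfl⟩ := Subgroup.mem_zpowers_iff.mp hw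
    rcases Int.even_or_odd' k with ⟨m, hm | hm⟩
    · left; rw [hm, zpow_mul, zpow_two, hx₀4, one_zpow]
    · right; rw [hm, zpow_add, zpow_mul, zpow_two, hx₀4, one_zpow, one_mul, zpow_one]
  have htZ : t ∉ Subgroup.center G := fun h => by
    rcases hZelts t h with h1 | h1
    · exact ht1 h1
    · exact htne h1
  -- the cyclic subgroup
  have hCcard : Nat.card (Subgroup.zpowers x₀) = 4 := by rw [Nat.card_zpowers, hx₀ord]
  have hCidx : (Subgroup.zpowers x₀).index = 2 := by
    have h := Subgroup.card_mul_index (Subgroup.zpowers x₀)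
    rw [hCcard, hcard] at h
    omega
  have htC : t ∉ Subgroup.zpowers x₀ := by
    intro h
    obtain ⟨k, hk⟩ := Subgroup.mem_zpowers_iff.mp h
    have h1 : x₀ ^ (k + k) = 1 := by rw [zpow_add, hk]; exact htt
    have h2 : ((orderOf x₀ : ℕ) : ℤ) ∣ k + k := orderOf_dvd_iff_zpow_eq_one.mpr h1
    rw [hx₀ord] at h2
    obtain ⟨m, hm⟩ : ∃ m : ℤ, k = 2 * m := by
      obtain ⟨c, hc⟩ := h2
      exact ⟨c, by push_cast at hc; omega⟩
    apply htZ
    rw [← hk, hm, zpow_mul, zpow_two, ← pow_two]
    exact Subgroup.zpow_mem _ hx₀Z m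
  have htiC : t⁻¹ ∉ Subgroup.zpowers x₀ := by rw [tinv]; exact htC
  -- t inverts x₀
  have hnc' : t * x₀ ≠ x₀ * t := by
    intro hcom
    have hx₀c : x₀ ∈ Subgroup.center G := by
      rw [Subgroup.mem_center_iff]
      intro g
      by_cases hg : g ∈ Subgroup.zpowers x₀
      · obtain ⟨k, rfl⟩ := Subgroup.mem_zpowers_iff.mp hg
        exact (Commute.zpow_self x₀ k).eq
      · have hc : t⁻¹ * g ∈ Subgroup.zpowers x₀ :=
          (Subgroup.mul_mem_iff_of_index_two hCidx).mpr ⟨fun h => absurd h htiC, fun h => absurd h hg⟩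
        obtain ⟨k, hk⟩ := Subgroup.mem_zpowers_iff.mp hc
        have hg' : g = t * x₀ ^ k := by rw [hk]; group
        rw [hg', mul_assoc, (Commute.zpow_self x₀ k).eq, ← mul_assoc, hcom, mul_assoc]
    rcases hZelts x₀ hx₀c with h1 | h1
    · exact hx₀ (by rw [h1, one_pow])
    · apply hx₀
      have : x₀ = 1 := by
        have h5 : x₀ * 1 = x₀ * x₀ := by rw [mul_one, ← pow_two]; exact h1
        exact (mul_left_cancel h5).symm
      rw [this, one_pow]
  have hinv : t * x₀ * t⁻¹ = x₀⁻¹ := by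
    rcases hZelts _ (hZcomm t x₀) with h1 | h1
    · exfalso
      apply hnc'
      have : t * x₀ = (t * x₀ * t⁻¹ * x₀⁻¹) * x₀ * t := by group
      rw [this, h1, one_mul]
    · have h3 : t * x₀ * t⁻¹ = (t * x₀ * t⁻¹ * x₀⁻¹) * x₀ := by group
      rw [h3, h1]
      have h5 : x₀ ^ 2 * x₀ * x₀ = 1 := by
        rw [mul_assoc, ← pow_two]; exact hx₀4
      exact eq_inv_of_mul_eq_one_left h5
  have hconj : ∀ k : ℤ, t * x₀ ^ k * t = (x₀ ^ k)⁻¹ := by
    intro k
    have := conj_zpow (a := t) (b := x₀) (i := k)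
    rw [hinv, inv_zpow, tinv] at this
    exact this.symm
  -- elements outside the cyclic subgroup are involutions
  have hout : ∀ x : G, x ^ 2 ≠ 1 → x ∈ Subgroup.zpowers x₀ := by
    intro x hx
    by_contra hxC
    apply hx
    have hc : t⁻¹ * x ∈ Subgroup.zpowers x₀ :=
      (Subgroup.mul_mem_iff_of_index_two hCidx).mpr ⟨fun h => absurd h htiC, fun h => absurd h hxC⟩
    obtain ⟨k, hk⟩ := Subgroup.mem_zpowers_iff.mp hc
    have hx' : x = t * x₀ ^ k := by rw [hk]; group
    rw [hx', pow_two]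
    calc t * x₀ ^ k * (t * x₀ ^ k) = (t * x₀ ^ k * t) * x₀ ^ k := by group
      _ = 1 := by rw [hconj k, inv_mul_cancel]
  have hL2 : Subgroup.closure {x : G | x ^ 2 ≠ 1} = Subgroup.zpowers x₀ := by
    apply le_antisymm
    · rw [Subgroup.closure_le]
      intro x hx
      exact hout x hx
    · exact Subgroup.zpowers_le.mpr (Subgroup.subset_closure hx₀)
  refine ⟨Subgroup.center G, Subgroup.closure {x : G | x ^ 2 ≠ 1}, hZchar, ?_, ?_, hZ, ?_⟩
  · intro β x hx
    have hle : Subgroup.closure {x : G | x ^ 2 ≠ 1} ≤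
        (Subgroup.closure {x : G | x ^ 2 ≠ 1}).comap β.toMonoidHom := by
      rw [Subgroup.closure_le]
      intro y hy
      apply Subgroup.subset_closure
      show (β y) ^ 2 ≠ 1
      intro h
      apply hy
      rw [← map_pow] at h
      exact β.injective (h.trans (map_one β).symm)
    exact hle hx
  · rw [hL2]
    intro w hw
    rcases hZelts w hw with h1 | h1
    · rw [h1]; exact Subgroup.one_mem _
    · rw [h1]; exact Subgroup.pow_mem _ (Subgroup.mem_zpowers x₀) 2
  · rw [hL2, hCcard]; norm_num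

theorem order_p3_cases [Finite G] {p : ℕ} [Fact p.Prime] (hcard : Nat.card G = p ^ 3) :
    ((∀ a b : G, a * b = b * a) ∧ ∀ x : G, x ^ p = 1) ∨
    (p ≠ 2 ∧ IsExtraspecial p G ∧ ∀ x : G, x ^ p = 1) ∨
    (p = 2 ∧ Nonempty (G ≃* QuaternionGroup 2)) ∨
    (∃ L₁ L₂ : Subgroup G, (∀ β : MulAut G, ∀ x ∈ L₁, β x ∈ L₁) ∧
      (∀ β : MulAut G, ∀ x ∈ L₂, β x ∈ L₂) ∧ L₁ ≤ L₂ ∧ Nat.card L₁ = p ∧ Nat.card L₂ = p ^ 2) := by
  have hpp : p.Prime := Fact.out
  have hG : IsPGroup p G := IsPGroup.of_card hcard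
  by_cases hab : ∀ a b : G, a * b = b * a
  · by_cases hexp : ∀ x : G, x ^ p = 1
    · exact Or.inl ⟨hab, hexp⟩
    · obtain ⟨x₀, hx₀⟩ := not_forall.mp hexp
      exact Or.inr (Or.inr (Or.inr (p3_abelian hcard hab x₀ hx₀)))
  · have hZ := p3_center_card hcard hab
    obtain ⟨hZpow, hZcomm, -⟩ := p3_quot hcard hab
    have hZchar : ∀ β : MulAut G, ∀ x ∈ Subgroup.center G, β x ∈ Subgroup.center G :=
      fun β x hx => by
        rw [Subgroup.mem_center_iff] at hx ⊢
        intro g
        have h2 := congrArg β (hx (β⁻¹ g))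
        rw [map_mul, map_mul, MulAut.apply_inv_self] at h2
        exact h2
    have hZp : ∀ z ∈ Subgroup.center G, z ^ p = 1 := fun z hz => by
      have := pow_card_eq_one' (G := ↥(Subgroup.center G)) (x := ⟨z, hz⟩)
      rw [hZ] at this
      exact congrArg Subtype.val this
    by_cases hexp : ∀ x : G, x ^ p = 1
    · right; left
      refine ⟨?_, p3_extraspecial hcard hab hexp, hexp⟩
      rintro rfl
      apply hab
      intro a b
      have h1 : a⁻¹ = a := inv_eq_of_mul_eq_one_left (by rw [← pow_two]; exact hexp a)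
      have h2 : b⁻¹ = b := inv_eq_of_mul_eq_one_left (by rw [← pow_two]; exact hexp b)
      have h3 : (a * b)⁻¹ = a * b := inv_eq_of_mul_eq_one_left (by rw [← pow_two]; exact hexp (a * b))
      rw [mul_inv_rev, h1, h2] at h3
      exact h3.symm
    · obtain ⟨x₀, hx₀⟩ := not_forall.mp hexp
      by_cases hp2 : p = 2
      · subst hp2
        by_cases huniq : ∃! x : G, orderOf x = 2
        · right; right; left
          refine ⟨rfl, ?_⟩
          obtain ⟨k, hk1, ⟨e⟩⟩ := Cfsg.Agent.Helper16.QuatExt.exists_quat hG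
            (fun h => hab (fun a b => h.is_comm.comm a b)) huniq
          have hk : k = 1 := by
            haveI : NeZero (2 ^ k) := ⟨pow_ne_zero k (by norm_num)⟩
            have h1 : Nat.card (QuaternionGroup (2 ^ k)) = 4 * 2 ^ k := by
              rw [Nat.card_eq_fintype_card, QuaternionGroup.card]
            have h2 : Nat.card G = Nat.card (QuaternionGroup (2 ^ k)) := Nat.card_congr e.toEquiv
            rw [hcard, h1] at h2
            have h3 : 2 ^ k = 2 ^ 1 := by omega
            exact Nat.pow_right_injective (le_refl 2) h3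
          subst hk
          exact ⟨e⟩
        · exact Or.inr (Or.inr (Or.inr (p3_dihedral hcard hab x₀ hx₀ huniq)))
      · have hmul : ∀ a b : G, (a * b) ^ p = a ^ p * b ^ p := fun a b => by
          have he : b⁻¹ * a⁻¹ * b * a ∈ Subgroup.center G := by
            have := hZcomm b⁻¹ a⁻¹
            simpa using this
          have hec := Subgroup.mem_center_iff.mp he
          exact Cfsg.Agent.Helper23.mul_pow_prime_of_central hpp hp2 (e := b⁻¹ * a⁻¹ * b * a)
            (by group) (show Commute _ a from (hec a).symm) (show Commute _ b from (hec b).symm)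
            (hZp _ he)
        let φ : G →* G := MonoidHom.mk' (fun x => x ^ p) hmul
        have hφ : ∀ x, φ x = x ^ p := fun x => rfl
        have hker : ∀ β : MulAut G, ∀ x ∈ φ.ker, β x ∈ φ.ker := fun β x hx => by
          rw [MonoidHom.mem_ker, hφ] at hx ⊢
          rw [← map_pow, hx, map_one]
        have hrle : φ.range ≤ Subgroup.center G := by
          rintro _ ⟨y, rfl⟩
          exact hZpow y
        have hrne : φ.range ≠ ⊥ := fun h => hx₀ (by
          have : x₀ ^ p ∈ φ.range := ⟨x₀, rfl⟩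
          rwa [h, Subgroup.mem_bot] at this)
        have hr : Nat.card φ.range = p := by
          have hd : Nat.card φ.range ∣ p := by rw [← hZ]; exact Subgroup.card_dvd_of_le hrle
          rcases (Nat.dvd_prime hpp).mp hd with h1 | h1
          · exact absurd (Subgroup.card_eq_one.mp h1) hrne
          · exact h1
        have hk : Nat.card φ.ker = p ^ 2 := by
          have h : Nat.card φ.ker * Nat.card φ.range = p ^ 3 := by
            rw [← Subgroup.index_ker, Subgroup.card_mul_index, hcard]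
          rw [hr] at h
          exact Nat.eq_of_mul_eq_mul_right hpp.pos (by rw [h]; ring)
        exact Or.inr (Or.inr (Or.inr ⟨Subgroup.center G, φ.ker, hZchar, hker,
          fun z hz => by rw [MonoidHom.mem_ker, hφ]; exact hZp z hz, hZ, hk⟩))

end OrderP3

end Cfsg.Agent.Helper26
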