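import Mathlib
import Cfsg.Agent.Helper2.SylU

set_option autoImplicit false

namespace Cfsg.Agent.Helper26.S4349f

open Cfsg.Agent.Helper2.SylU

variable {α : Type*} [Fintype α] [DecidableEq α]

theorem good_of_cycleType (x : Equiv.Perm α) (h1 : Fintype.card α ≤ x.support.card + 2)
    (h2 : x.cycleType.Nodup) : Good x Finset.univ := by
  constructor
  · intro a _ b _ ha hb hcard
    have ha' : a ∈ x.support := Equiv.Perm.mem_support.mpr ha
    have hb' : b ∈ x.support := Equiv.Perm.mem_support.mpr hb
    have hca : x.cycleOf a ∈ x.cycleFactorsFinset :=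
      Equiv.Perm.cycleOf_mem_cycleFactorsFinset_iff.mpr ha'
    have hcb : x.cycleOf b ∈ x.cycleFactorsFinset :=
      Equiv.Perm.cycleOf_mem_cycleFactorsFinset_iff.mpr hb'
    rw [Equiv.Perm.cycleType_def] at h2
    have heq : x.cycleOf a = x.cycleOf b :=
      Multiset.inj_on_of_nodup_map h2 _ hca _ hcb hcard
    have hb2 : b ∈ (x.cycleOf b).support :=
      Equiv.Perm.mem_support_cycleOf_iff.mpr ⟨Equiv.Perm.SameCycle.refl x b, hb'⟩
    rw [← heq] at hb2
    exact (Equiv.Perm.mem_support_cycleOf_iff.mp hb2).1
  · intro a _ b _ c _ ha hb hc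
    by_contra hcon
    push Not at hcon
    obtain ⟨hab, hac, hbc⟩ := hcon
    have hsub : ({a, b, c} : Finset α) ⊆ Finset.univ \ x.support := by
      intro t ht
      simp only [Finset.mem_insert, Finset.mem_singleton] at ht
      rw [Finset.mem_sdiff, Equiv.Perm.mem_support, not_not]
      refine ⟨Finset.mem_univ _, ?_⟩
      rcases ht with rfl | rfl | rfl <;> assumption
    have hc3 : ({a, b, c} : Finset α).card = 3 :=
      Finset.card_eq_three.mpr ⟨a, b, c, hab, hac, hbc, rfl⟩
    have hle := Finset.card_le_card hsub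
    have h4 := Finset.card_sdiff_add_card_eq_card (Finset.subset_univ x.support)
    rw [Finset.card_univ] at h4
    omega

end Cfsg.Agent.Helper26.S4349f
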