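import Mathlib
import Cfsg.Agent.Helper2.SylU

set_option autoImplicit false

namespace Cfsg.Agent.Helper26.S4349g

open Cfsg.Agent.Helper2.SylU

variable {α : Type*} [Fintype α] [DecidableEq α]

theorem exists_half (D : Subgroup (Equiv.Perm α)) (hD : IsPGroup 2 D) (O : Finset α)
    (hO : IsOrb D O) (h2 : 2 ≤ O.card) :
    ∃ B : Finset α, IsHalf D O B ∧ IsOrb (stab D B) B ∧ IsOrb (stab D B) (O \ B) := by
  classical
  obtain ⟨hinv, htr⟩ := hO
  obtain ⟨a, ha, b, hb, hab⟩ : ∃ a ∈ O, ∃ b ∈ O, a ≠ b := Finset.one_lt_card.mp h2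
  obtain ⟨K, hKD, hHK, t, htD, htK, hK2⟩ : ∃ K : Subgroup (Equiv.Perm α), K ≤ D ∧
      (∀ d ∈ D, d a = a → d ∈ K) ∧ ∃ t ∈ D, t ∉ K ∧
      ∀ d ∈ D, ∀ d' ∈ D, (d * d' ∈ K ↔ (d ∈ K ↔ d' ∈ K)) := by
    have : Fact (Nat.Prime 2) := ⟨Nat.prime_two⟩
    obtain ⟨m, hm⟩ := IsPGroup.iff_card.mp hD
    have hH'p : IsPGroup 2 ↥((MulAction.stabilizer (Equiv.Perm α) a).subgroupOf D) :=
      hD.to_subgroup _
    obtain ⟨n, hn⟩ := IsPGroup.iff_card.mp hH'p
    obtain ⟨t0, ht0D, ht0⟩ := htr a ha b hb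
    have hnm : n < m := by
      by_contra hcon
      push Not at hcon
      have h1 : Nat.card ↥D ≤
          Nat.card ↥((MulAction.stabilizer (Equiv.Perm α) a).subgroupOf D) := by
        rw [hm, hn]
        exact Nat.pow_le_pow_right (by norm_num) hcon
      have h3 : (MulAction.stabilizer (Equiv.Perm α) a).subgroupOf D = ⊤ :=
        Subgroup.eq_top_of_le_card _ h1
      have h4 : (⟨t0, ht0D⟩ : ↥D) ∈ (MulAction.stabilizer (Equiv.Perm α) a).subgroupOf D := by
        rw [h3]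
        exact Subgroup.mem_top _
      rw [Subgroup.mem_subgroupOf, MulAction.mem_stabilizer_iff, Equiv.Perm.smul_def] at h4
      exact hab (h4.symm.trans ht0)
    have hdvd : 2 ^ (m - 1) ∣ Nat.card ↥D := by
      rw [hm]
      exact pow_dvd_pow 2 (Nat.sub_le m 1)
    obtain ⟨K', hK'card, hK'le⟩ :=
      Sylow.exists_subgroup_card_pow_prime_le 2 hdvd _ hn (by omega : n ≤ m - 1)
    have hK'idx : K'.index = 2 := by
      have h5 := K'.card_mul_index
      rw [hK'card, hm] at h5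
      have h6 : 2 ^ m = 2 ^ (m - 1) * 2 := by
        rw [← pow_succ]
        congr 1
        omega
      rw [h6] at h5
      exact Nat.eq_of_mul_eq_mul_left (by positivity) h5
    have tr : ∀ (x : Equiv.Perm α) (hx : x ∈ D),
        x ∈ K'.map D.subtype ↔ (⟨x, hx⟩ : ↥D) ∈ K' := by
      intro x hx
      constructor
      · rintro ⟨k, hk, hkx⟩
        have h7 : k = ⟨x, hx⟩ := Subtype.ext hkx
        exact h7 ▸ hk
      · intro h
        exact ⟨⟨x, hx⟩, h, rfl⟩
    refine ⟨K'.map D.subtype, ?_, ?_, ?_⟩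
    · rintro _ ⟨k, _, rfl⟩
      exact k.2
    · intro d hd hda
      rw [tr d hd]
      apply hK'le
      rw [Subgroup.mem_subgroupOf, MulAction.mem_stabilizer_iff, Equiv.Perm.smul_def]
      exact hda
    · obtain ⟨t', ht'⟩ : ∃ t' : ↥D, t' ∉ K' := by
        by_contra hcon
        push Not at hcon
        have h8 : K' = ⊤ := by
          rw [eq_top_iff]
          intro x _
          exact hcon x
        rw [h8, Subgroup.index_top] at hK'idx
        norm_num at hK'idx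
      refine ⟨t', t'.2, ?_, ?_⟩
      · rw [tr (t' : Equiv.Perm α) t'.2]
        exact ht'
      · intro d hd d' hd'
        have key := Subgroup.mul_mem_iff_of_index_two hK'idx (a := ⟨d, hd⟩) (b := ⟨d', hd'⟩)
        rw [tr d hd, tr d' hd', tr (d * d') (D.mul_mem hd hd')]
        exact key
  obtain ⟨B, hB⟩ : ∃ B : Finset α, ∀ c, c ∈ B ↔ ∃ k ∈ K, k a = c :=
    ⟨Finset.univ.filter (fun c => ∃ k ∈ K, k a = c), fun c => by simp⟩
  have F1 : ∀ k ∈ K, ∀ c, c ∈ B ↔ k c ∈ B := by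
    intro k hk c
    rw [hB, hB]
    constructor
    · rintro ⟨k0, hk0, rfl⟩
      exact ⟨k * k0, K.mul_mem hk hk0, rfl⟩
    · rintro ⟨k0, hk0, hk0'⟩
      refine ⟨k⁻¹ * k0, K.mul_mem (K.inv_mem hk) hk0, ?_⟩
      rw [Equiv.Perm.mul_apply, hk0', Equiv.Perm.inv_def, Equiv.symm_apply_apply]
  have F2 : ∀ d ∈ D, d ∉ K → ∀ c ∈ B, d c ∉ B := by
    intro d hd hdK c hc hdc
    rw [hB] at hc hdc
    obtain ⟨k, hk, rfl⟩ := hc
    obtain ⟨k', hk', hk'a⟩ := hdc
    apply hdK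
    have h1 : k'⁻¹ * d * k ∈ K := by
      apply hHK _ (D.mul_mem (D.mul_mem (D.inv_mem (hKD hk')) hd) (hKD hk))
      rw [Equiv.Perm.mul_apply, Equiv.Perm.mul_apply, ← hk'a, Equiv.Perm.inv_def, Equiv.symm_apply_apply]
    have h2 : d = k' * (k'⁻¹ * d * k) * k⁻¹ := by group
    rw [h2]
    exact K.mul_mem (K.mul_mem hk' h1) (K.inv_mem hk)
  have F3 : B ⊆ O := by
    intro c hc
    rw [hB] at hc
    obtain ⟨k, hk, rfl⟩ := hc
    exact hinv k (hKD hk) a ha
  have htinv : t⁻¹ ∉ K := fun h => htK (by simpa using K.inv_mem h)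
  have hOeq : O = B ∪ B.image t := by
    apply Finset.Subset.antisymm
    · intro c hc
      obtain ⟨d, hd, hda⟩ := htr a ha c hc
      by_cases hdK : d ∈ K
      · exact Finset.mem_union_left _ ((hB c).mpr ⟨d, hdK, hda⟩)
      · apply Finset.mem_union_right
        rw [Finset.mem_image]
        have h1 : t⁻¹ * d ∈ K := by
          rw [hK2 _ (D.inv_mem htD) _ hd]
          exact ⟨fun h => absurd h htinv, fun h => absurd h hdK⟩
        refine ⟨(t⁻¹ * d) a, (hB _).mpr ⟨_, h1, rfl⟩, ?_⟩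
        rw [Equiv.Perm.mul_apply, Equiv.Perm.inv_def, Equiv.apply_symm_apply, hda]
    · intro c hc
      rcases Finset.mem_union.mp hc with h | h
      · exact F3 h
      · rw [Finset.mem_image] at h
        obtain ⟨c', hc', rfl⟩ := h
        exact hinv t htD c' (F3 hc')
  have hdisj : Disjoint B (B.image t) := by
    rw [Finset.disjoint_left]
    intro c hc hc'
    rw [Finset.mem_image] at hc'
    obtain ⟨c', hc'B, rfl⟩ := hc'
    exact F2 t htD htK c' hc'B hc
  have hcard : 2 * B.card = O.card := by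
    rw [hOeq, Finset.card_union_of_disjoint hdisj,
      Finset.card_image_of_injective B t.injective]
    ring
  have F7 : ∀ k ∈ K, k ∈ stab D B := fun k hk => (mem_stab D B k).mpr ⟨hKD hk, F1 k hk⟩
  refine ⟨B, ⟨F3, hcard, ?_⟩, ⟨?_, ?_⟩, ⟨?_, ?_⟩⟩
  · intro d hd
    by_cases hdK : d ∈ K
    · left
      intro c hc
      exact (F1 d hdK c).mp hc
    · right
      exact F2 d hd hdK
  · intro d hd c hc
    exact (((mem_stab D B d).mp hd).2 c).mp hc
  · intro c hc c' hc'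
    rw [hB] at hc hc'
    obtain ⟨k, hk, rfl⟩ := hc
    obtain ⟨k', hk', rfl⟩ := hc'
    refine ⟨k' * k⁻¹, F7 _ (K.mul_mem hk' (K.inv_mem hk)), ?_⟩
    rw [Equiv.Perm.mul_apply, Equiv.Perm.inv_def, Equiv.symm_apply_apply]
  · intro d hd c hc
    rw [Finset.mem_sdiff] at hc ⊢
    obtain ⟨hdD, hdB⟩ := (mem_stab D B d).mp hd
    exact ⟨hinv d hdD c hc.1, fun h => hc.2 ((hdB c).mpr h)⟩
  · intro c hc c' hc'
    rw [Finset.mem_sdiff] at hc hc'
    obtain ⟨d, hd, hda⟩ := htr a ha c hc.1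
    obtain ⟨d', hd', hda'⟩ := htr a ha c' hc'.1
    have hdK : d ∉ K := fun h => hc.2 ((hB c).mpr ⟨d, h, hda⟩)
    have hd'K : d' ∉ K := fun h => hc'.2 ((hB c').mpr ⟨d', h, hda'⟩)
    have hdinv : d⁻¹ ∉ K := fun h => hdK (by simpa using K.inv_mem h)
    have h1 : d' * d⁻¹ ∈ K := by
      rw [hK2 _ hd' _ (D.inv_mem hd)]
      exact ⟨fun h => absurd h hd'K, fun h => absurd h hdinv⟩
    refine ⟨d' * d⁻¹, F7 _ h1, ?_⟩
    rw [Equiv.Perm.mul_apply, ← hda, Equiv.Perm.inv_def, Equiv.symm_apply_apply, hda']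

end Cfsg.Agent.Helper26.S4349g
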