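import Mathlib
import Cfsg.Prelude.Def_Transfer
import Cfsg.Agent.Helper14.CoprimeAut
import Cfsg.Agent.Helper23.OddPGroup

/-!
Helper library (helper26): a version of the Isaacs-Navarro coprime automorphism argument for a
conjugation-invariant family `Y` of automorphisms of order prime to `p`, relative to a family `𝒢`
of automorphisms.  If the members of `Y` fix pointwise every `𝒢`-invariant subgroup of `H` of
exponent dividing `e` (`e = p` for odd `p`, `e = 4` for `p = 2`), then they fix `H` pointwise.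
The proof is adapted from `Cfsg.Agent.Helper15.aut_fix_of_fusion`.
-/

set_option autoImplicit false

namespace Cfsg.Agent.Helper26

open scoped commutatorElement

theorem aut_fix_of_invariant {G : Type*} [Group G] [Finite G] {p : ℕ} [hp : Fact p.Prime] (e : ℕ)
    (he : (p ≠ 2 ∧ e = p) ∨ (p = 2 ∧ e = 4))
    (𝒢 Y : Set (MulAut G)) (hY𝒢 : Y ⊆ 𝒢)
    (hYco : ∀ a ∈ Y, Nat.Coprime (orderOf a) p)
    (hYconj : ∀ g ∈ 𝒢, ∀ a ∈ Y, g * a * g⁻¹ ∈ Y) :
    ∀ n : ℕ, ∀ H : Subgroup G, Nat.card H = n → IsPGroup p H → (∀ g ∈ 𝒢, ∀ h ∈ H, g h ∈ H) →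
      (∀ V : Subgroup G, V ≤ H → (∀ g ∈ 𝒢, ∀ x ∈ V, g x ∈ V) → (∀ x ∈ V, x ^ e = 1) →
        ∀ a ∈ Y, ∀ x ∈ V, a x = x) →
      ∀ a ∈ Y, ∀ h ∈ H, a h = h := by
  intro n
  induction n using Nat.strong_induction_on with
  | _ n ih =>
    intro H hn hH hinv hsmall
    have IH : ∀ N : Subgroup G, N ≤ H → N ≠ H → (∀ g ∈ 𝒢, ∀ h ∈ N, g h ∈ N) →
        ∀ a ∈ Y, ∀ h ∈ N, a h = h := by
      intro N hNH hne hNinv
      have hlt : Nat.card N < n := by
        rw [← hn]
        by_contra hcon
        exact hne (Subgroup.eq_of_le_of_card_ge hNH (not_lt.mp hcon))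
      exact ih _ hlt N rfl (hH.to_le hNH) hNinv (fun V hV => hsmall V (hV.trans hNH))
    have hpow : ∀ x ∈ H, ∃ e' : ℕ, x ^ p ^ e' = 1 := by
      intro x hx
      obtain ⟨e', he'⟩ := hH ⟨x, hx⟩
      exact ⟨e', by simpa using congrArg Subtype.val he'⟩
    have hfixelem : ∀ a ∈ Y, ∀ h ∈ H, a (h⁻¹ * a h) = h⁻¹ * a h → a h = h := by
      intro a ha h hh hfix
      obtain ⟨e', he'⟩ := hpow _ (H.mul_mem (H.inv_mem hh) (hinv a (hY𝒢 ha) h hh))
      exact Cfsg.Agent.Helper14.aut_fix_elem (p := p) a (orderOf a) (pow_orderOf_eq_one a)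
        (hYco a ha) h hfix e' he'
    obtain ⟨N₀, hN₀⟩ : ∃ N₀ : Subgroup G,
        N₀ = Subgroup.closure {c | ∃ a ∈ Y, ∃ h ∈ H, c = h⁻¹ * a h} := ⟨_, rfl⟩
    have hgen : ∀ a ∈ Y, ∀ h ∈ H, h⁻¹ * a h ∈ N₀ := by
      intro a ha h hh
      rw [hN₀]
      exact Subgroup.subset_closure ⟨a, ha, h, hh, rfl⟩
    have hN₀H : N₀ ≤ H := by
      rw [hN₀, Subgroup.closure_le]
      rintro c ⟨a, ha, h, hh, rfl⟩
      exact H.mul_mem (H.inv_mem hh) (hinv a (hY𝒢 ha) h hh)
    have hN₀inv : ∀ g ∈ 𝒢, ∀ x ∈ N₀, g x ∈ N₀ := by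
      intro g hg
      have hle : N₀ ≤ N₀.comap g.toMonoidHom := by
        conv_lhs => rw [hN₀]
        rw [Subgroup.closure_le]
        rintro c ⟨a, ha, h, hh, rfl⟩
        show g (h⁻¹ * a h) ∈ N₀
        have e1 : g (h⁻¹ * a h) = (g h)⁻¹ * (g * a * g⁻¹) (g h) := by
          rw [map_mul, map_inv, MulAut.mul_apply, MulAut.mul_apply, MulAut.inv_apply_self]
        rw [e1]
        exact hgen _ (hYconj g hg a ha) (g h) (hinv g hg h hh)
      exact fun x hx => hle hx
    by_cases hcase : N₀ = H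
    swap
    · have hfixN := IH N₀ hN₀H hcase hN₀inv
      intro a ha h hh
      exact hfixelem a ha h hh (hfixN a ha _ (hgen a ha h hh))
    · have hcent : ∀ N : Subgroup G, N ≤ H → N ≠ H → (∀ g ∈ 𝒢, ∀ h ∈ N, g h ∈ N) →
          (∀ x ∈ H, ∀ y ∈ N, x * y * x⁻¹ ∈ N) → ∀ y ∈ N, ∀ x ∈ H, x * y = y * x := by
        intro N hNH hne hNinv hNnorm y hy
        have hfixN := IH N hNH hne hNinv
        have hle : H ≤ Subgroup.centralizer {y} := by
          rw [← hcase, hN₀, Subgroup.closure_le]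
          rintro c ⟨a, ha, h, hh, rfl⟩
          rw [SetLike.mem_coe, Subgroup.mem_centralizer_iff]
          intro y' hy'
          rw [Set.mem_singleton_iff] at hy'
          rw [hy']
          have h1 : a (h * y * h⁻¹) = h * y * h⁻¹ := hfixN a ha _ (hNnorm h hh y hy)
          rw [map_mul, map_mul, map_inv, hfixN a ha y hy] at h1
          calc y * (h⁻¹ * a h) = h⁻¹ * (h * y * h⁻¹) * a h := by group
            _ = h⁻¹ * (a h * y * (a h)⁻¹) * a h := by rw [h1]
            _ = h⁻¹ * a h * y := by group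
        intro x hx
        have hxc := hle hx
        rw [Subgroup.mem_centralizer_iff] at hxc
        exact (hxc y rfl).symm
      intro a ha h hh
      by_cases hbot : H = ⊥
      · rw [hbot, Subgroup.mem_bot] at hh
        rw [hh, map_one]
      have hDH : ⁅H, H⁆ ≤ H := by
        rw [Subgroup.commutator_le]
        intro x hx y hy
        rw [commutatorElement_def]
        exact H.mul_mem (H.mul_mem (H.mul_mem hx hy) (H.inv_mem hx)) (H.inv_mem hy)
      have hDne : ⁅H, H⁆ ≠ H := by
        intro heq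
        have : Nontrivial ↥H := (Subgroup.nontrivial_iff_ne_bot H).mpr hbot
        have : Group.IsNilpotent ↥H := hH.isNilpotent
        have h1 := Group.IsSolvable.commutator_lt_top_of_nontrivial ↥H
        have h2 := Cfsg.Agent.Helper14.map_subtype_commutator H
        rw [heq] at h2
        have h3 : commutator ↥H = ⊤ := by
          rw [eq_top_iff]
          intro z _
          have hz : (z : G) ∈ (commutator ↥H).map H.subtype := by rw [h2]; exact z.2
          obtain ⟨z', hz', hzz⟩ := hz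
          have hzeq : z' = z := Subtype.ext (by simpa using hzz)
          rw [← hzeq]; exact hz'
        exact h1.ne h3
      have hDinv : ∀ b : MulAut G, (∀ x ∈ H, b x ∈ H) → ∀ x ∈ ⁅H, H⁆, b x ∈ ⁅H, H⁆ := by
        intro b hb
        have hle : ⁅H, H⁆ ≤ (⁅H, H⁆ : Subgroup G).comap b.toMonoidHom := by
          rw [Subgroup.commutator_le]
          intro x hx y hy
          show b ⁅x, y⁆ ∈ ⁅H, H⁆
          rw [map_commutatorElement]
          exact Subgroup.commutator_mem_commutator (hb x hx) (hb y hy)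
        exact fun x hx => hle hx
      have hconj : ∀ x ∈ H, ∀ y ∈ H, (MulAut.conj x) y ∈ H := by
        intro x hx y hy
        rw [MulAut.conj_apply]
        exact H.mul_mem (H.mul_mem hx hy) (H.inv_mem hx)
      have hDc : ∀ y ∈ ⁅H, H⁆, ∀ x ∈ H, x * y = y * x := by
        refine hcent ⁅H, H⁆ hDH hDne (fun g hg => hDinv g (hinv g hg)) ?_
        intro x hx y hy
        have h1 := hDinv (MulAut.conj x) (hconj x hx) y hy
        rwa [MulAut.conj_apply] at h1
      obtain ⟨E, hEH, hEne, hEmem⟩ := Cfsg.Agent.Helper14.exists_powSub H hH hbot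
      have hEinv : ∀ b : MulAut G, (∀ x ∈ H, b x ∈ H) → ∀ x ∈ E, b x ∈ E := by
        intro b hb x hx
        obtain ⟨hxH, y, hy, hxy⟩ := (hEmem x).mp hx
        refine (hEmem _).mpr ⟨hb x hxH, b y, hb y hy, ?_⟩
        have h1 := hDinv b hb _ hxy
        rwa [map_mul, map_inv, map_pow] at h1
      have hEc : ∀ y ∈ E, ∀ x ∈ H, x * y = y * x := by
        refine hcent E hEH hEne (fun g hg => hEinv g (hinv g hg)) ?_
        intro x hx y hy
        have h1 := hEinv (MulAut.conj x) (hconj x hx) y hy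
        rwa [MulAut.conj_apply] at h1
      have hEfix := IH E hEH hEne (fun g hg => hEinv g (hinv g hg))
      have hypE : ∀ y ∈ H, y ^ p ∈ E := by
        intro y hy
        exact (hEmem _).mpr ⟨H.pow_mem hy p, y, hy, by rw [inv_mul_cancel]; exact one_mem _⟩
      have hpowmul : ∀ x ∈ H, ∀ y ∈ H, (x * y) ^ e = x ^ e * y ^ e := by
        intro x hx y hy
        have hz : y⁻¹ * x⁻¹ * y * x ∈ ⁅H, H⁆ := by
          have h1 := Subgroup.commutator_mem_commutator (H.inv_mem hy) (H.inv_mem hx)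
          rwa [commutatorElement_def, inv_inv, inv_inv] at h1
        obtain ⟨z, hzdef⟩ : ∃ z, z = y⁻¹ * x⁻¹ * y * x := ⟨_, rfl⟩
        rw [← hzdef] at hz
        have hza : Commute z x := (hDc z hz x hx).symm
        have hzb : Commute z y := (hDc z hz y hy).symm
        have h1 : x⁻¹ * y * x = y * z := by rw [hzdef]; group
        have h2 : (x⁻¹ * y * x) ^ p = y ^ p := by
          have h2' : x⁻¹ * y * x = x⁻¹ * y * x⁻¹⁻¹ := by rw [inv_inv]
          rw [h2', conj_pow, inv_inv]
          have hc := hEc (y ^ p) (hypE y hy) x hx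
          rw [mul_assoc, ← hc, inv_mul_cancel_left]
        have h3 : (y * z) ^ p = y ^ p * z ^ p := (hzb.symm).mul_pow p
        have hzp : z ^ p = 1 := by
          have h4 : y ^ p * z ^ p = y ^ p * 1 := by rw [mul_one, ← h3, ← h1, h2]
          exact mul_left_cancel h4
        rcases he with ⟨hp2, hep⟩ | ⟨hp2, he4⟩
        · rw [hep]
          exact Cfsg.Agent.Helper23.mul_pow_prime_of_central hp.out hp2
            (by rw [hzdef]; group) hza hzb hzp
        · rw [he4]
          rw [hp2] at hzp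
          have hx2E : x ^ 2 ∈ E := by have := hypE x hx; rwa [hp2] at this
          have hy2E : y ^ 2 ∈ E := by have := hypE y hy; rwa [hp2] at this
          have hxy2 : (x * y) ^ 2 = x ^ 2 * y ^ 2 * z := by
            calc (x * y) ^ 2 = x * x * (x⁻¹ * y * x) * y := by rw [pow_two]; group
              _ = x * x * (y * z) * y := by rw [h1]
              _ = x * x * (y * (y * z)) := by
                  rw [mul_assoc (x * x) (y * z) y, mul_assoc y z y, hzb.eq]
              _ = x ^ 2 * y ^ 2 * z := by rw [pow_two, pow_two]; simp only [mul_assoc]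
          have hXY : Commute (x ^ 2) (y ^ 2) :=
            Commute.symm (hEc (x ^ 2) hx2E (y ^ 2) (H.pow_mem hy 2))
          have hzXY : Commute (x ^ 2 * y ^ 2) z :=
            ((hza.pow_right 2).mul_right (hzb.pow_right 2)).symm
          calc (x * y) ^ 4 = ((x * y) ^ 2) ^ 2 := by rw [← pow_mul]
            _ = (x ^ 2 * y ^ 2 * z) ^ 2 := by rw [hxy2]
            _ = (x ^ 2 * y ^ 2) ^ 2 * z ^ 2 := hzXY.mul_pow 2
            _ = (x ^ 2) ^ 2 * (y ^ 2) ^ 2 := by rw [hzp, mul_one, hXY.mul_pow]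
            _ = x ^ 4 * y ^ 4 := by rw [← pow_mul, ← pow_mul]
      have heE : ∀ y ∈ H, y ^ e ∈ E := by
        intro y hy
        rcases he with ⟨_, hep⟩ | ⟨hp2, he4⟩
        · rw [hep]; exact hypE y hy
        · rw [he4]
          have hy2E : y ^ 2 ∈ E := by have := hypE y hy; rwa [hp2] at this
          have e4 : y ^ 4 = (y ^ 2) ^ 2 := by rw [← pow_mul]
          rw [e4]; exact E.pow_mem hy2E 2
      let W : Subgroup G :=
        { carrier := {x | x ∈ H ∧ x ^ e = 1}
          one_mem' := ⟨H.one_mem, one_pow e⟩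
          mul_mem' := by
            rintro x y ⟨hx, hxe⟩ ⟨hy, hye⟩
            exact ⟨H.mul_mem hx hy, by rw [hpowmul x hx y hy, hxe, hye, one_mul]⟩
          inv_mem' := by
            rintro x ⟨hx, hxe⟩
            exact ⟨H.inv_mem hx, by rw [inv_pow, hxe, inv_one]⟩ }
      have hWH : W ≤ H := fun x hx => hx.1
      have hWinv : ∀ g ∈ 𝒢, ∀ x ∈ W, g x ∈ W := by
        intro g hg x hx
        exact ⟨hinv g hg x hx.1, by rw [← map_pow, hx.2, map_one]⟩
      have hWfix := hsmall W hWH hWinv (fun x hx => hx.2)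
      have hah : a h ∈ H := hinv a (hY𝒢 ha) h hh
      have hc1 : (h⁻¹ * a h) ^ e = 1 := by
        rw [hpowmul _ (H.inv_mem hh) _ hah,
          show (a h) ^ e = a (h ^ e) from (map_pow a h e).symm, hEfix a ha _ (heE h hh), inv_pow,
          inv_mul_cancel]
      have hc2 : a (h⁻¹ * a h) = h⁻¹ * a h :=
        hWfix a ha _ ⟨H.mul_mem (H.inv_mem hh) hah, hc1⟩
      exact hfixelem a ha h hh hc2

end Cfsg.Agent.Helper26
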