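import Mathlib
import Cfsg.Prelude.Def_FusionSystem

set_option autoImplicit false

namespace Cfsg.Agent.Helper26

open Cfsg Cfsg.FusionSystem

section AutChain

/-- A normal `p`-subgroup containing all `p`-elements forbids strongly `p`-embedded subgroups in
the quotient by a normal `p`-subgroup. -/
theorem not_stronglyPEmbedded_of_normal {A : Type*} [Group A] [Finite A] {p : ℕ} [Fact p.Prime]
    (N : Subgroup A) [N.Normal] (hN : IsPGroup p N) (Q : Subgroup A) (hQn : Q.Normal)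
    (hQ : IsPGroup p Q) (hall : ∀ x : A, (∃ k : ℕ, x ^ (p ^ k) = 1) → x ∈ Q)
    (E : Subgroup (A ⧸ N)) : ¬ IsStronglyPEmbedded p E := by
  rintro ⟨hdvd, hEtop, P, hP⟩
  have hpp : p.Prime := Fact.out
  apply hEtop
  have hπs : Function.Surjective (QuotientGroup.mk' N) := QuotientGroup.mk'_surjective _
  have hQbn : (Q.map (QuotientGroup.mk' N)).Normal := hQn.map _ hπs
  have hQbp : IsPGroup p (Q.map (QuotientGroup.mk' N)) := hQ.map _
  have hPle : P.toSubgroup ≤ Q.map (QuotientGroup.mk' N) := by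
    intro y hy
    obtain ⟨x, rfl⟩ := hπs y
    obtain ⟨k, hk⟩ := P.isPGroup' ⟨_, hy⟩
    have hk' : (QuotientGroup.mk' N) (x ^ (p ^ k)) = 1 := by
      rw [map_pow]
      exact congrArg Subtype.val hk
    have hxN : x ^ (p ^ k) ∈ N := (QuotientGroup.eq_one_iff _).mp hk'
    obtain ⟨j, hj⟩ := hN ⟨_, hxN⟩
    have hx1 : x ^ (p ^ (k + j)) = 1 := by
      rw [pow_add, pow_mul]
      exact congrArg Subtype.val hj
    exact Subgroup.mem_map_of_mem _ (hall x ⟨k + j, hx1⟩)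
  have hPeq := P.is_maximal' hQbp hPle
  have hPn : P.toSubgroup.Normal := by rw [← hPeq]; exact hQbn
  have hPrank : ¬ PRankLE p (1 - 1) ↥P.toSubgroup := by
    intro hr
    obtain ⟨x, hx⟩ := exists_prime_orderOf_dvd_card' (G := ↥P.toSubgroup) p
      (P.dvd_card_of_dvd_card hdvd)
    have hxp : x ^ p = 1 := orderOf_dvd_iff_pow_eq_one.mp (dvd_of_eq hx)
    have h1 := hr (Subgroup.zpowers x) inferInstance (by
      intro a ha
      obtain ⟨n, rfl⟩ := Subgroup.mem_zpowers_iff.mp ha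
      rw [← zpow_natCast, ← zpow_mul, mul_comm, zpow_mul, zpow_natCast, hxp, one_zpow])
    rw [Nat.card_zpowers, hx] at h1
    have h2 : p ^ (1 - 1) = 1 := by norm_num
    rw [h2] at h1
    have := hpp.two_le
    omega
  rw [eq_top_iff]
  have hle : Subgroup.normalizer (P.toSubgroup : Set _) ≤ kGeneratedCore p 1 P.toSubgroup := by
    unfold kGeneratedCore
    exact le_iSup_of_le ⟨P.toSubgroup, le_rfl, hPrank⟩ le_rfl
  refine le_trans ?_ (hle.trans hP)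
  intro g _
  rw [Subgroup.mem_normalizer_iff]
  intro h
  exact ⟨fun hh => hPn.conj_mem h hh g, fun hh => by
    have := hPn.conj_mem _ hh g⁻¹
    simpa [mul_assoc] using this⟩

variable {G : Type*} [Group G]

/-- automorphisms acting trivially on the cosets of `L` in `M`. -/
def chainStab (L M : Subgroup G) (hL : ∀ β : MulAut G, ∀ x ∈ L, β x ∈ L)
    (hM : ∀ β : MulAut G, ∀ x ∈ M, β x ∈ M) : Subgroup (MulAut G) where
  carrier := {α | ∀ y ∈ M, y⁻¹ * α y ∈ L}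
  one_mem' := fun y _ => by simp
  mul_mem' := by
    intro α β hα hβ y hy
    have h : y⁻¹ * (α * β) y = (y⁻¹ * α y) * α (y⁻¹ * β y) := by
      rw [MulAut.mul_apply, map_mul, map_inv]; group
    rw [h]
    exact L.mul_mem (hα y hy) (hL α _ (hβ y hy))
  inv_mem' := by
    intro α hα y hy
    have h := hα (α⁻¹ y) (hM α⁻¹ y hy)
    rw [MulAut.apply_inv_self] at h
    have h2 := L.inv_mem h
    rwa [mul_inv_rev, inv_inv] at h2

theorem mem_chainStab {L M : Subgroup G} {hL : ∀ β : MulAut G, ∀ x ∈ L, β x ∈ L}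
    {hM : ∀ β : MulAut G, ∀ x ∈ M, β x ∈ M} {α : MulAut G} :
    α ∈ chainStab L M hL hM ↔ ∀ y ∈ M, y⁻¹ * α y ∈ L := Iff.rfl

theorem chainStab_normal (L M : Subgroup G) (hL : ∀ β : MulAut G, ∀ x ∈ L, β x ∈ L)
    (hM : ∀ β : MulAut G, ∀ x ∈ M, β x ∈ M) : (chainStab L M hL hM).Normal := by
  refine ⟨fun α hα β => ?_⟩
  rw [mem_chainStab] at hα ⊢
  intro y hy
  have h : y⁻¹ * (β * α * β⁻¹) y = β ((β⁻¹ y)⁻¹ * α (β⁻¹ y)) := by
    simp [MulAut.mul_apply]
  rw [h]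
  exact hL β _ (hα _ (hM β⁻¹ y hy))

theorem chain_pow_fix {L M : Subgroup G} {α : MulAut G} (hα : ∀ y ∈ M, y⁻¹ * α y ∈ L)
    (hfix : ∀ l ∈ L, α l = l) (e : ℕ) (he : ∀ l ∈ L, l ^ e = 1) : ∀ y ∈ M, (α ^ e) y = y := by
  intro y hy
  obtain ⟨d, hd⟩ : ∃ d, d = y⁻¹ * α y := ⟨_, rfl⟩
  have hdL : d ∈ L := by rw [hd]; exact hα y hy
  have hyd : α y = y * d := by rw [hd]; group
  have key : ∀ n : ℕ, (α ^ n) y = y * d ^ n := by
    intro n
    induction n with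
    | zero => simp
    | succ n ih =>
      rw [pow_succ' α n, MulAut.mul_apply, ih, map_mul, map_pow, hfix d hdL, hyd, pow_succ' d n,
        mul_assoc]
  rw [key e, he d hdL, mul_one]

theorem chain_pElement [Finite G] {p : ℕ} [Fact p.Prime] {L M : Subgroup G}
    (hL : ∀ β : MulAut G, ∀ x ∈ L, β x ∈ L) (hM : ∀ β : MulAut G, ∀ x ∈ M, β x ∈ M) (hLM : L ≤ M)
    (hidx : Nat.card M = p * Nat.card L) (α : MulAut G) (k : ℕ) (hα : α ^ (p ^ k) = 1) :
    ∀ y ∈ M, y⁻¹ * α y ∈ L := by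
  have hpp : p.Prime := Fact.out
  have hLn : ∀ g l : G, l ∈ L → g * l * g⁻¹ ∈ L := fun g l hl => hL (MulAut.conj g) l hl
  letI : MulAction (MulAut G) (↥M ⧸ L.subgroupOf M) :=
    { smul := fun β q => Quotient.map' (fun y : ↥M => (⟨β y, hM β y y.2⟩ : ↥M)) (fun a b hab =>
          QuotientGroup.leftRel_apply.mpr (Subgroup.mem_subgroupOf.mpr (by
            have := hL β _ (Subgroup.mem_subgroupOf.mp (QuotientGroup.leftRel_apply.mp hab))
            simpa using this))) q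
      one_smul := fun q => by induction q using QuotientGroup.induction_on; rfl
      mul_smul := fun β γ q => by induction q using QuotientGroup.induction_on; rfl }
  have hsmul : ∀ (β : MulAut G) (y : ↥M), β • (y : ↥M ⧸ L.subgroupOf M) =
      ((⟨β y, hM β y y.2⟩ : ↥M) : ↥M ⧸ L.subgroupOf M) := fun β y => rfl
  have hpg : IsPGroup p (Subgroup.zpowers α) := by
    rintro ⟨g, hg⟩
    obtain ⟨n, rfl⟩ := Subgroup.mem_zpowers_iff.mp hg
    refine ⟨k, Subtype.ext ?_⟩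
    show (α ^ n) ^ (p ^ k) = 1
    rw [← zpow_natCast, ← zpow_mul, mul_comm, zpow_mul, zpow_natCast, hα, one_zpow]
  have hcK : Nat.card (L.subgroupOf M) = Nat.card L :=
    Nat.card_congr (Subgroup.subgroupOfEquivOfLe hLM).toEquiv
  have hLpos : 0 < Nat.card L := Nat.card_pos
  have hindex : (L.subgroupOf M).index = p := by
    have h := Subgroup.card_mul_index (L.subgroupOf M)
    rw [hcK, hidx, mul_comm] at h
    exact Nat.eq_of_mul_eq_mul_right hLpos h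
  have hdvd : p ∣ Nat.card (↥M ⧸ L.subgroupOf M) := by
    rw [← Subgroup.index_eq_card, hindex]
  obtain ⟨q, hq, hne⟩ := hpg.exists_fixed_point_of_prime_dvd_card_of_fixed_point
    (α := ↥M ⧸ L.subgroupOf M) hdvd (a := ((1 : ↥M) : ↥M ⧸ L.subgroupOf M))
    (fun g => by
      have h1 : (⟨(g : MulAut G) ((1 : ↥M) : G), hM _ _ (1 : ↥M).2⟩ : ↥M) = 1 :=
        Subtype.ext (map_one _)
      show (g : MulAut G) • ((1 : ↥M) : ↥M ⧸ L.subgroupOf M) = _
      rw [hsmul, h1])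
  obtain ⟨y₀, rfl⟩ := QuotientGroup.mk_surjective q
  have hfix := hq ⟨α, Subgroup.mem_zpowers α⟩
  have hfix' : ((⟨α y₀, hM α y₀ y₀.2⟩ : ↥M) : ↥M ⧸ L.subgroupOf M) =
      (y₀ : ↥M ⧸ L.subgroupOf M) := hfix
  rw [QuotientGroup.eq, Subgroup.mem_subgroupOf] at hfix'
  have hy₀ : (y₀ : G)⁻¹ * α y₀ ∈ L := by
    have := L.inv_mem hfix'
    simpa using this
  have hy₀L : (y₀ : G) ∉ L := by
    intro h
    apply hne
    rw [QuotientGroup.eq, Subgroup.mem_subgroupOf]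
    simpa using h
  let T : Subgroup G :=
    { carrier := {y | y ∈ M ∧ y⁻¹ * α y ∈ L}
      one_mem' := ⟨M.one_mem, by simp⟩
      mul_mem' := by
        rintro y y' ⟨hy, hyL⟩ ⟨hy', hyL'⟩
        refine ⟨M.mul_mem hy hy', ?_⟩
        have h : (y * y')⁻¹ * α (y * y') = (y'⁻¹ * (y⁻¹ * α y) * y'⁻¹⁻¹) * (y'⁻¹ * α y') := by
          rw [map_mul]; group
        rw [h]
        exact L.mul_mem (hLn _ _ hyL) hyL'
      inv_mem' := by
        rintro y ⟨hy, hyL⟩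
        refine ⟨M.inv_mem hy, ?_⟩
        have h : y⁻¹⁻¹ * α y⁻¹ = y * (y⁻¹ * α y)⁻¹ * y⁻¹ := by
          rw [map_inv]; group
        rw [h]
        exact hLn _ _ (L.inv_mem hyL) }
  have hLT : L ≤ T := fun y hy => ⟨hLM hy, L.mul_mem (L.inv_mem hy) (hL α y hy)⟩
  have hTM : T ≤ M := fun y hy => hy.1
  have hy₀T : (y₀ : G) ∈ T := ⟨y₀.2, hy₀⟩
  have hTeq : T = M := by
    apply Subgroup.eq_of_le_of_card_ge hTM
    obtain ⟨t, ht⟩ := Subgroup.card_dvd_of_le hLT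
    have h2 : Nat.card T ∣ Nat.card M := Subgroup.card_dvd_of_le hTM
    rw [ht, hidx, mul_comm p, Nat.mul_dvd_mul_iff_left hLpos] at h2
    rcases (Nat.dvd_prime hpp).mp h2 with h1 | h1
    · exfalso
      apply hy₀L
      have : L = T := Subgroup.eq_of_le_of_card_ge hLT (by rw [ht, h1, mul_one])
      rw [this]; exact hy₀T
    · rw [ht, h1, hidx]
      exact le_of_eq (mul_comm _ _)
  intro y hy
  have : y ∈ T := by rw [hTeq]; exact hy
  exact this.2

theorem exists_normal_pSubgroup_of_chain [Finite G] {p : ℕ} [Fact p.Prime] (L₁ L₂ : Subgroup G)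
    (h₁ : ∀ β : MulAut G, ∀ x ∈ L₁, β x ∈ L₁) (h₂ : ∀ β : MulAut G, ∀ x ∈ L₂, β x ∈ L₂)
    (h12 : L₁ ≤ L₂) (hc₁ : Nat.card L₁ = p) (hc₂ : Nat.card L₂ = p ^ 2) (hc : Nat.card G = p ^ 3) :
    ∃ C : Subgroup (MulAut G), C.Normal ∧ IsPGroup p C ∧
      ∀ α : MulAut G, (∃ k : ℕ, α ^ (p ^ k) = 1) → α ∈ C := by
  have hb : ∀ β : MulAut G, ∀ x ∈ (⊥ : Subgroup G), β x ∈ (⊥ : Subgroup G) := fun β x hx => by
    rw [Subgroup.mem_bot] at hx ⊢; rw [hx, map_one]
  have ht : ∀ β : MulAut G, ∀ x ∈ (⊤ : Subgroup G), β x ∈ (⊤ : Subgroup G) :=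
    fun _ _ _ => Subgroup.mem_top _
  haveI n1 := chainStab_normal ⊥ L₁ hb h₁
  haveI n2 := chainStab_normal L₁ L₂ h₁ h₂
  haveI n3 := chainStab_normal L₂ ⊤ h₂ ht
  refine ⟨chainStab ⊥ L₁ hb h₁ ⊓ chainStab L₁ L₂ h₁ h₂ ⊓ chainStab L₂ ⊤ h₂ ht, inferInstance, ?_, ?_⟩
  · rintro ⟨α, hα⟩
    have hα' := hα
    rw [Subgroup.mem_inf, Subgroup.mem_inf] at hα'
    obtain ⟨⟨hα1, hα2⟩, hα3⟩ := hα'
    refine ⟨3, Subtype.ext ?_⟩
    show α ^ p ^ 3 = 1
    have hf1 : ∀ l ∈ L₁, α l = l := fun l hl => by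
      have := hα1 l hl
      rw [Subgroup.mem_bot] at this
      exact (inv_mul_eq_one.mp this).symm
    have he1 : ∀ l ∈ L₁, l ^ p = 1 := fun l hl => by
      have := pow_card_eq_one' (G := ↥L₁) (x := ⟨l, hl⟩)
      rw [hc₁] at this
      exact congrArg Subtype.val this
    have hf2 : ∀ y ∈ L₂, (α ^ p) y = y := chain_pow_fix hα2 hf1 p he1
    have hα3' : α ^ p ∈ chainStab L₂ ⊤ h₂ ht := Subgroup.pow_mem _ hα3 p
    have he2 : ∀ l ∈ L₂, l ^ (p ^ 2) = 1 := fun l hl => by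
      have := pow_card_eq_one' (G := ↥L₂) (x := ⟨l, hl⟩)
      rw [hc₂] at this
      exact congrArg Subtype.val this
    have hf3 : ∀ y ∈ (⊤ : Subgroup G), ((α ^ p) ^ (p ^ 2)) y = y :=
      chain_pow_fix hα3' hf2 (p ^ 2) he2
    apply MulEquiv.ext
    intro g
    have e3 : p ^ 3 = p * p ^ 2 := by ring
    rw [e3, pow_mul]
    exact hf3 g (Subgroup.mem_top g)
  · rintro α ⟨k, hk⟩
    refine ⟨⟨?_, ?_⟩, ?_⟩
    · exact chain_pElement hb h₁ bot_le (by rw [hc₁, Subgroup.card_bot, mul_one]) α k hk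
    · exact chain_pElement h₁ h₂ h12 (by rw [hc₁, hc₂, pow_two]) α k hk
    · exact chain_pElement h₂ ht le_top (by rw [Subgroup.card_top, hc, hc₂]; ring) α k hk

/-- A subgroup of order `p³` with a characteristic chain is not essential. -/
theorem not_essential_of_chain {Ω : Type*} [Group Ω] {S : Subgroup Ω} (p : ℕ) [Fact p.Prime]
    (F : FusionSystem S) (H : Subgroup Ω) (hcard : Nat.card H = p ^ 3) (L₁ L₂ : Subgroup ↥H)
    (h₁ : ∀ β : MulAut ↥H, ∀ x ∈ L₁, β x ∈ L₁) (h₂ : ∀ β : MulAut ↥H, ∀ x ∈ L₂, β x ∈ L₂)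
    (h12 : L₁ ≤ L₂) (hc₁ : Nat.card L₁ = p) (hc₂ : Nat.card L₂ = p ^ 2) :
    ¬ F.IsEssential p H := by
  rintro ⟨hcen, hfn, hN, E, hE⟩
  haveI := hN
  have hpp : p.Prime := Fact.out
  haveI : Finite H := Nat.finite_of_card_ne_zero (by rw [hcard]; exact pow_ne_zero 3 hpp.ne_zero)
  haveI : Finite (MulAut H) :=
    Finite.of_injective (fun e : MulAut H => (e : H → H)) DFunLike.coe_injective
  have hHp : IsPGroup p H := IsPGroup.of_card hcard
  obtain ⟨C, hCn, hCp, hCall⟩ := exists_normal_pSubgroup_of_chain L₁ L₂ h₁ h₂ h12 hc₁ hc₂ hcard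
  have hNp : IsPGroup p ((Inn H).subgroupOf (F.autGroup H)) := by
    rintro ⟨x, hx⟩
    rw [Subgroup.mem_subgroupOf] at hx
    obtain ⟨h, hh⟩ := hx
    obtain ⟨k, hk⟩ := hHp h
    refine ⟨k, Subtype.ext (Subtype.ext ?_)⟩
    show (x : MulAut H) ^ (p ^ k) = 1
    rw [← hh, ← map_pow, hk, map_one]
  exact not_stronglyPEmbedded_of_normal ((Inn H).subgroupOf (F.autGroup H)) hNp
    (C.subgroupOf (F.autGroup H)) (hCn.subgroupOf _) hCp.comap_subtype
    (fun x ⟨k, hk⟩ => Subgroup.mem_subgroupOf.mpr (hCall x ⟨k, congrArg Subtype.val hk⟩)) E hE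

end AutChain

end Cfsg.Agent.Helper26
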