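import Mathlib

set_option autoImplicit false

namespace Cfsg.Agent.Helper26

open scoped commutatorElement

section MaxClass

variable {G : Type*} [Group G]

/-- the index of a term `Z_{i+1}` of the upper central series is never a prime. -/
theorem ucs_succ_index_ne_prime {p : ℕ} [Fact p.Prime] (i : ℕ) :
    (Subgroup.upperCentralSeries G (i + 1)).index ≠ p := by
  intro h
  have hpp : p.Prime := Fact.out
  have hcomap : Subgroup.upperCentralSeries G (i + 1) =
      (Subgroup.center (G ⧸ Subgroup.upperCentralSeries G i)).comap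
        (QuotientGroup.mk' (Subgroup.upperCentralSeries G i)) :=
    Subgroup.upperCentralSeriesStep_eq_comap_center (Subgroup.upperCentralSeries G i)
  rw [hcomap, Subgroup.index_comap_of_surjective _ (QuotientGroup.mk'_surjective _)] at h
  haveI : IsCyclic ((G ⧸ Subgroup.upperCentralSeries G i) ⧸
      Subgroup.center (G ⧸ Subgroup.upperCentralSeries G i)) :=
    isCyclic_of_prime_card (p := p) (by rw [← Subgroup.index_eq_card]; exact h)
  have hcomm := (MonoidHom.isMulCommutative_of_isCyclic_of_ker_le_center
    (QuotientGroup.mk' (Subgroup.center (G ⧸ Subgroup.upperCentralSeries G i)))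
    (by rw [QuotientGroup.ker_mk'])).is_comm.comm
  have htop : Subgroup.center (G ⧸ Subgroup.upperCentralSeries G i) = ⊤ := by
    rw [eq_top_iff]
    intro x _
    rw [Subgroup.mem_center_iff]
    intro g
    exact hcomm g x
  rw [htop, Subgroup.index_top] at h
  exact hpp.one_lt.ne h

theorem ucs_card_step [Finite G] {p : ℕ} [Fact p.Prime] (hG : IsPGroup p G) (i : ℕ)
    (hi : Subgroup.upperCentralSeries G i ≠ ⊤) :
    p * Nat.card (Subgroup.upperCentralSeries G i) ≤
      Nat.card (Subgroup.upperCentralSeries G (i + 1)) := by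
  have hpp : p.Prime := Fact.out
  haveI : Group.IsNilpotent G := hG.isNilpotent
  have hle : Subgroup.upperCentralSeries G i ≤ Subgroup.upperCentralSeries G (i + 1) :=
    Subgroup.upperCentralSeries_mono G (Nat.le_succ i)
  have hne : Subgroup.upperCentralSeries G i ≠ Subgroup.upperCentralSeries G (i + 1) := by
    intro heq
    apply hi
    have h1 := Subgroup.upperCentralSeries.eq_ge_of_eq_succ (G := G) (a := i)
      (b := max i (Group.nilpotencyClass G)) (le_max_left _ _) heq
    rw [h1, eq_top_iff, ← Subgroup.upperCentralSeries_nilpotencyClass (G := G)]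
    exact Subgroup.upperCentralSeries_mono G (le_max_right _ _)
  obtain ⟨a, ha⟩ := IsPGroup.iff_card.mp (hG.to_subgroup (Subgroup.upperCentralSeries G i))
  obtain ⟨b, hb⟩ := IsPGroup.iff_card.mp (hG.to_subgroup (Subgroup.upperCentralSeries G (i + 1)))
  have hdvd := Subgroup.card_dvd_of_le hle
  rw [ha, hb] at hdvd ⊢
  have hab : a ≤ b := (Nat.pow_dvd_pow_iff_le_right hpp.one_lt).mp hdvd
  have hab' : a ≠ b := by
    rintro rfl
    exact hne (Subgroup.eq_of_le_of_card_ge hle (by rw [ha, hb]))
  calc p * p ^ a = p ^ (a + 1) := by ring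
    _ ≤ p ^ b := Nat.pow_le_pow_right hpp.pos (by omega)

/-- A `p`-group of order `p ^ n` (`n ≥ 4`) whose `(n-2)`-nd upper central term is proper
(maximal class) has centre of order `p` and second centre of order `p²`. -/
theorem maxclass_centers [Finite G] {p : ℕ} [Fact p.Prime] (n : ℕ) (hn : Nat.card G = p ^ n)
    (h4 : 4 ≤ n) (hmax : Subgroup.upperCentralSeries G (n - 2) ≠ ⊤) :
    Nat.card (Subgroup.center G) = p ∧ Nat.card (Subgroup.upperCentralSeries G 2) = p ^ 2 := by
  have hpp : p.Prime := Fact.out
  have hG : IsPGroup p G := IsPGroup.of_card hn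
  obtain ⟨m, rfl⟩ : ∃ m, n = m + 2 := ⟨n - 2, by omega⟩
  have hm2 : 2 ≤ m := by omega
  simp only [Nat.add_sub_cancel] at hmax
  have hnt : ∀ i, i ≤ m → Subgroup.upperCentralSeries G i ≠ ⊤ := fun i hi h =>
    hmax (top_le_iff.mp (by rw [← h]; exact Subgroup.upperCentralSeries_mono G hi))
  have hstep : ∀ i, i ≤ m → p * Nat.card (Subgroup.upperCentralSeries G i) ≤
      Nat.card (Subgroup.upperCentralSeries G (i + 1)) :=
    fun i hi => ucs_card_step hG i (hnt i hi)
  have hlow : ∀ i, i ≤ m + 1 → p ^ i ≤ Nat.card (Subgroup.upperCentralSeries G i) := by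
    intro i
    induction i with
    | zero => intro _; simp
    | succ i ih =>
      intro hi
      calc p ^ (i + 1) = p * p ^ i := by ring
        _ ≤ p * Nat.card (Subgroup.upperCentralSeries G i) := Nat.mul_le_mul_left p (ih (by omega))
        _ ≤ _ := hstep i (by omega)
  have hm : Nat.card (Subgroup.upperCentralSeries G m) = p ^ m := by
    obtain ⟨a, ha⟩ := IsPGroup.iff_card.mp (hG.to_subgroup (Subgroup.upperCentralSeries G m))
    have h1 := hlow m (by omega)
    rw [ha] at h1
    have ham : m ≤ a := (Nat.pow_le_pow_iff_right hpp.one_lt).mp h1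
    have hidx := Subgroup.card_mul_index (Subgroup.upperCentralSeries G m)
    rw [ha, hn] at hidx
    have ha2 : a ≤ m + 2 := by
      have : p ^ a ∣ p ^ (m + 2) := Dvd.intro _ hidx
      exact (Nat.pow_dvd_pow_iff_le_right hpp.one_lt).mp this
    have hidx' : (Subgroup.upperCentralSeries G m).index = p ^ (m + 2 - a) := by
      have : p ^ a * (Subgroup.upperCentralSeries G m).index = p ^ a * p ^ (m + 2 - a) := by
        rw [hidx, ← pow_add]; congr 1; omega
      exact Nat.eq_of_mul_eq_mul_left (pow_pos hpp.pos a) this
    have hcases : a = m ∨ a = m + 1 ∨ a = m + 2 := by omega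
    rcases hcases with h | h | h
    · rw [ha, h]
    · exfalso
      obtain ⟨m', rfl⟩ : ∃ m', m = m' + 1 := ⟨m - 1, by omega⟩
      apply ucs_succ_index_ne_prime (G := G) (p := p) m'
      rw [hidx', h]
      have : m' + 1 + 2 - (m' + 1 + 1) = 1 := by omega
      rw [this, pow_one]
    · exfalso
      apply hmax
      apply Subgroup.eq_top_of_card_eq
      rw [ha, hn, h]
  have hup : ∀ j, j ≤ m → Nat.card (Subgroup.upperCentralSeries G (m - j)) * p ^ j ≤ p ^ m := by
    intro j
    induction j with
    | zero => intro _; simp [hm]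
    | succ j ih =>
      intro hj
      have h1 := hstep (m - (j + 1)) (by omega)
      have e : m - (j + 1) + 1 = m - j := by omega
      rw [e] at h1
      calc Nat.card (Subgroup.upperCentralSeries G (m - (j + 1))) * p ^ (j + 1)
          = (p * Nat.card (Subgroup.upperCentralSeries G (m - (j + 1)))) * p ^ j := by ring
        _ ≤ Nat.card (Subgroup.upperCentralSeries G (m - j)) * p ^ j := Nat.mul_le_mul_right _ h1
        _ ≤ p ^ m := ih (by omega)
  have hexact : ∀ i, i ≤ m → Nat.card (Subgroup.upperCentralSeries G i) = p ^ i := by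
    intro i hi
    apply le_antisymm _ (hlow i (by omega))
    have h1 := hup (m - i) (by omega)
    have e : m - (m - i) = i := by omega
    rw [e] at h1
    have h2 : p ^ m = p ^ i * p ^ (m - i) := by rw [← pow_add]; congr 1; omega
    rw [h2] at h1
    exact Nat.le_of_mul_le_mul_right h1 (pow_pos hpp.pos _)
  refine ⟨?_, hexact 2 hm2⟩
  have := hexact 1 (by omega)
  rwa [Subgroup.upperCentralSeries_one, pow_one] at this

/-- With centre of order `p` and second centre of order `p²`, the centralizer of the second
centre has index `p`, and the second centre is commutative. -/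
theorem maxclass_centralizer_card [Finite G] {p : ℕ} [Fact p.Prime]
    (h1 : Nat.card (Subgroup.center G) = p)
    (h2 : Nat.card (Subgroup.upperCentralSeries G 2) = p ^ 2) :
    Nat.card G = p * Nat.card (Subgroup.centralizer (Subgroup.upperCentralSeries G 2 : Set G)) ∧
    (∀ a ∈ Subgroup.upperCentralSeries G 2, ∀ b ∈ Subgroup.upperCentralSeries G 2,
      a * b = b * a) := by
  have hpp : p.Prime := Fact.out
  have hZ12 : Subgroup.center G ≤ Subgroup.upperCentralSeries G 2 := by
    rw [← Subgroup.upperCentralSeries_one]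
    exact Subgroup.upperCentralSeries_mono G (by norm_num)
  obtain ⟨w, hw2, hw1⟩ : ∃ w ∈ Subgroup.upperCentralSeries G 2, w ∉ Subgroup.center G := by
    by_contra hcon
    push Not at hcon
    have : Subgroup.upperCentralSeries G 2 = Subgroup.center G := le_antisymm hcon hZ12
    rw [this, h1] at h2
    have h3 : p ^ 1 = p ^ 2 := by rw [pow_one]; exact h2
    have := Nat.pow_right_injective hpp.two_le h3
    omega
  have hcen : ∀ g : G, ⁅w, g⁆ ∈ Subgroup.center G := fun g => by
    rw [← Subgroup.upperCentralSeries_one]
    exact Subgroup.mem_upperCentralSeries_succ_iff.mp hw2 g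
  let c : G →* G := MonoidHom.mk' (fun g => ⁅w, g⁆) (fun g h => by
    have hc := Subgroup.mem_center_iff.mp (hcen h) g⁻¹
    simp only [commutatorElement_def] at hc ⊢
    calc w * (g * h) * w⁻¹ * (g * h)⁻¹
        = w * g * w⁻¹ * ((w * h * w⁻¹ * h⁻¹) * g⁻¹) := by group
      _ = w * g * w⁻¹ * (g⁻¹ * (w * h * w⁻¹ * h⁻¹)) := by rw [← hc]
      _ = w * g * w⁻¹ * g⁻¹ * (w * h * w⁻¹ * h⁻¹) := by group)
  have hcdef : ∀ g, c g = ⁅w, g⁆ := fun g => rfl
  have hker : ∀ g, g ∈ c.ker ↔ w * g = g * w := fun g => by
    rw [MonoidHom.mem_ker, hcdef, commutatorElement_eq_one_iff_mul_comm]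
  have hrle : c.range ≤ Subgroup.center G := by
    rintro _ ⟨g, rfl⟩
    exact hcen g
  have hrne : c.range ≠ ⊥ := by
    intro h
    apply hw1
    rw [Subgroup.mem_center_iff]
    intro g
    have : c g ∈ c.range := ⟨g, rfl⟩
    rw [h, Subgroup.mem_bot, hcdef, commutatorElement_eq_one_iff_mul_comm] at this
    exact this.symm
  have hr : Nat.card c.range = p := by
    have hd : Nat.card c.range ∣ p := by rw [← h1]; exact Subgroup.card_dvd_of_le hrle
    rcases (Nat.dvd_prime hpp).mp hd with h | h
    · exact absurd (Subgroup.card_eq_one.mp h) hrne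
    · exact h
  have hkcard : Nat.card G = p * Nat.card c.ker := by
    have h := Subgroup.card_mul_index c.ker
    rw [Subgroup.index_ker, hr] at h
    rw [← h, mul_comm]
  have hK : Subgroup.zpowers w ⊔ Subgroup.center G = Subgroup.upperCentralSeries G 2 := by
    have hle : Subgroup.zpowers w ⊔ Subgroup.center G ≤ Subgroup.upperCentralSeries G 2 :=
      sup_le (Subgroup.zpowers_le.mpr hw2) hZ12
    apply Subgroup.eq_of_le_of_card_ge hle
    rw [h2]
    obtain ⟨a, ha2, ha⟩ := (Nat.dvd_prime_pow hpp).mp
      (show Nat.card ↥(Subgroup.zpowers w ⊔ Subgroup.center G) ∣ p ^ 2 by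
        rw [← h2]; exact Subgroup.card_dvd_of_le hle)
    have hlt : p < Nat.card ↥(Subgroup.zpowers w ⊔ Subgroup.center G) := by
      by_contra hnlt
      push Not at hnlt
      have : Subgroup.center G = Subgroup.zpowers w ⊔ Subgroup.center G :=
        Subgroup.eq_of_le_of_card_ge le_sup_right (by rw [h1]; exact hnlt)
      apply hw1
      rw [this]
      exact (le_sup_left : Subgroup.zpowers w ≤ _) (Subgroup.mem_zpowers w)
    rw [ha] at hlt ⊢
    interval_cases a
    · exfalso
      rw [pow_zero] at hlt
      have := hpp.pos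
      omega
    · exfalso
      rw [pow_one] at hlt
      exact lt_irrefl _ hlt
    · exact le_rfl
  have hcent : Subgroup.centralizer (Subgroup.upperCentralSeries G 2 : Set G) = c.ker := by
    ext g
    rw [hker, Subgroup.mem_centralizer_iff]
    constructor
    · intro h
      exact h w hw2
    · intro h v hv
      have hle : Subgroup.zpowers w ⊔ Subgroup.center G ≤ Subgroup.centralizer ({g} : Set G) := by
        apply sup_le
        · rw [Subgroup.zpowers_le, Subgroup.mem_centralizer_iff]
          intro x hx
          rw [Set.mem_singleton_iff] at hx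
          rw [hx]
          exact h.symm
        · intro z hz
          rw [Subgroup.mem_centralizer_iff]
          intro x hx
          rw [Set.mem_singleton_iff] at hx
          rw [hx]
          exact Subgroup.mem_center_iff.mp hz g
      have hv' : v ∈ Subgroup.zpowers w ⊔ Subgroup.center G := by rw [hK]; exact hv
      have := hle hv'
      rw [Subgroup.mem_centralizer_iff] at this
      exact (this g rfl).symm
  refine ⟨by rw [hcent]; exact hkcard, ?_⟩
  intro a ha b hb
  have hle : Subgroup.zpowers w ⊔ Subgroup.center G ≤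
      Subgroup.centralizer (Subgroup.upperCentralSeries G 2 : Set G) := by
    apply sup_le
    · rw [Subgroup.zpowers_le, hcent, hker]
    · intro z hz
      rw [Subgroup.mem_centralizer_iff]
      intro x _
      exact Subgroup.mem_center_iff.mp hz x
  have hb' : b ∈ Subgroup.zpowers w ⊔ Subgroup.center G := by rw [hK]; exact hb
  have := hle hb'
  rw [Subgroup.mem_centralizer_iff] at this
  exact this a ha

end MaxClass

end Cfsg.Agent.Helper26
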