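import Mathlib
import Cfsg.Prelude.Def_FusionSystem
import Cfsg.Prelude.Def_Transfer
import Cfsg.Agent.Helper23.OddPGroup
import Cfsg.Agent.Helper14.Frattini
import Cfsg.Agent.Helper26.AutChain
import Cfsg.Agent.Helper26.OrderP3
import Cfsg.Agent.Helper26.MaxClass

set_option autoImplicit false

namespace Cfsg.Agent.Helper26

open Cfsg Cfsg.FusionSystem
open scoped commutatorElement

section OrderP4

/-- a characteristic chain of subgroups of orders `p`, `p²`, `p³`. -/
def P4Chain (G : Type*) [Group G] (p : ℕ) : Prop :=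
  ∃ L₁ L₂ L₃ : Subgroup G, (∀ β : MulAut G, ∀ x ∈ L₁, β x ∈ L₁) ∧
    (∀ β : MulAut G, ∀ x ∈ L₂, β x ∈ L₂) ∧ (∀ β : MulAut G, ∀ x ∈ L₃, β x ∈ L₃) ∧
    L₁ ≤ L₂ ∧ L₂ ≤ L₃ ∧ Nat.card L₁ = p ∧ Nat.card L₂ = p ^ 2 ∧ Nat.card L₃ = p ^ 3

variable {G : Type*} [Group G]

theorem p4_pow_mod {x : G} {n : ℕ} (h : x ^ n = 1) (k : ℕ) : x ^ (k % n) = x ^ k := by
  conv_rhs => rw [← Nat.mod_add_div k n, pow_add, pow_mul, h, one_pow, mul_one]

theorem p4_char_center (β : MulAut G) (x : G) (hx : x ∈ Subgroup.center G) :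
    β x ∈ Subgroup.center G := by
  rw [Subgroup.mem_center_iff] at hx ⊢
  intro g
  have h := congrArg β (hx (β⁻¹ g))
  rw [map_mul, map_mul, MulAut.apply_inv_self] at h
  exact h

theorem p4_char_centralizer' (A : Set G) (hA : ∀ β : MulAut G, ∀ x ∈ A, β x ∈ A) (β : MulAut G)
    (x : G) (hx : x ∈ Subgroup.centralizer A) : β x ∈ Subgroup.centralizer A := by
  rw [Subgroup.mem_centralizer_iff] at hx ⊢
  intro l hl
  have h := congrArg β (hx (β⁻¹ l) (hA β⁻¹ l hl))
  rw [map_mul, map_mul, MulAut.apply_inv_self] at h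
  exact h

theorem p4_char_of (L : Subgroup G) [hL : L.Characteristic] :
    ∀ β : MulAut G, ∀ x ∈ L, β x ∈ L :=
  fun β _ hx => Subgroup.characteristic_iff_le_comap.mp hL β hx

theorem exists_normal_pSubgroup_of_chain4 [Finite G] {p : ℕ} [Fact p.Prime]
    (L₁ L₂ L₃ : Subgroup G)
    (h₁ : ∀ β : MulAut G, ∀ x ∈ L₁, β x ∈ L₁) (h₂ : ∀ β : MulAut G, ∀ x ∈ L₂, β x ∈ L₂)
    (h₃ : ∀ β : MulAut G, ∀ x ∈ L₃, β x ∈ L₃)
    (h12 : L₁ ≤ L₂) (h23 : L₂ ≤ L₃) (hc₁ : Nat.card L₁ = p) (hc₂ : Nat.card L₂ = p ^ 2)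
    (hc₃ : Nat.card L₃ = p ^ 3) (hc : Nat.card G = p ^ 4) :
    ∃ C : Subgroup (MulAut G), C.Normal ∧ IsPGroup p C ∧
      ∀ α : MulAut G, (∃ k : ℕ, α ^ (p ^ k) = 1) → α ∈ C := by
  have hb : ∀ β : MulAut G, ∀ x ∈ (⊥ : Subgroup G), β x ∈ (⊥ : Subgroup G) := fun β x hx => by
    rw [Subgroup.mem_bot] at hx ⊢; rw [hx, map_one]
  have ht : ∀ β : MulAut G, ∀ x ∈ (⊤ : Subgroup G), β x ∈ (⊤ : Subgroup G) :=
    fun _ _ _ => Subgroup.mem_top _
  haveI n1 := chainStab_normal ⊥ L₁ hb h₁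
  haveI n2 := chainStab_normal L₁ L₂ h₁ h₂
  haveI n3 := chainStab_normal L₂ L₃ h₂ h₃
  haveI n4 := chainStab_normal L₃ ⊤ h₃ ht
  refine ⟨chainStab ⊥ L₁ hb h₁ ⊓ chainStab L₁ L₂ h₁ h₂ ⊓ chainStab L₂ L₃ h₂ h₃ ⊓
    chainStab L₃ ⊤ h₃ ht, inferInstance, ?_, ?_⟩
  · rintro ⟨α, hα⟩
    have hα' := hα
    rw [Subgroup.mem_inf, Subgroup.mem_inf, Subgroup.mem_inf] at hα'
    obtain ⟨⟨⟨hα1, hα2⟩, hα3⟩, hα4⟩ := hα'
    refine ⟨6, Subtype.ext ?_⟩
    show α ^ p ^ 6 = 1
    have hf1 : ∀ l ∈ L₁, α l = l := fun l hl => by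
      have := hα1 l hl
      rw [Subgroup.mem_bot] at this
      exact (inv_mul_eq_one.mp this).symm
    have he1 : ∀ l ∈ L₁, l ^ p = 1 := fun l hl => by
      have := pow_card_eq_one' (G := ↥L₁) (x := ⟨l, hl⟩)
      rw [hc₁] at this
      exact congrArg Subtype.val this
    have hf2 : ∀ y ∈ L₂, (α ^ p) y = y := chain_pow_fix hα2 hf1 p he1
    have hα3' : α ^ p ∈ chainStab L₂ L₃ h₂ h₃ := Subgroup.pow_mem _ hα3 p
    have he2 : ∀ l ∈ L₂, l ^ (p ^ 2) = 1 := fun l hl => by
      have := pow_card_eq_one' (G := ↥L₂) (x := ⟨l, hl⟩)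
      rw [hc₂] at this
      exact congrArg Subtype.val this
    have hf3 : ∀ y ∈ L₃, ((α ^ p) ^ (p ^ 2)) y = y := chain_pow_fix hα3' hf2 (p ^ 2) he2
    have hα4' : (α ^ p) ^ (p ^ 2) ∈ chainStab L₃ ⊤ h₃ ht :=
      Subgroup.pow_mem _ (Subgroup.pow_mem _ hα4 p) _
    have he3 : ∀ l ∈ L₃, l ^ (p ^ 3) = 1 := fun l hl => by
      have := pow_card_eq_one' (G := ↥L₃) (x := ⟨l, hl⟩)
      rw [hc₃] at this
      exact congrArg Subtype.val this
    have hf4 : ∀ y ∈ (⊤ : Subgroup G), (((α ^ p) ^ (p ^ 2)) ^ (p ^ 3)) y = y :=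
      chain_pow_fix hα4' hf3 (p ^ 3) he3
    apply MulEquiv.ext
    intro g
    have e3 : p ^ 6 = p * p ^ 2 * p ^ 3 := by ring
    rw [e3, pow_mul, pow_mul]
    exact hf4 g (Subgroup.mem_top g)
  · rintro α ⟨k, hk⟩
    refine ⟨⟨⟨?_, ?_⟩, ?_⟩, ?_⟩
    · exact chain_pElement hb h₁ bot_le (by rw [hc₁, Subgroup.card_bot, mul_one]) α k hk
    · exact chain_pElement h₁ h₂ h12 (by rw [hc₁, hc₂, pow_two]) α k hk
    · exact chain_pElement h₂ h₃ h23 (by rw [hc₂, hc₃]; ring) α k hk
    · exact chain_pElement h₃ ht le_top (by rw [Subgroup.card_top, hc, hc₃]; ring) α k hk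

/-- A subgroup of order `p⁴` with a characteristic chain is not essential. -/
theorem not_essential_of_chain4 {Ω : Type*} [Group Ω] {S : Subgroup Ω} (p : ℕ) [Fact p.Prime]
    (F : FusionSystem S) (H : Subgroup Ω) (hcard : Nat.card H = p ^ 4) (hch : P4Chain ↥H p) :
    ¬ F.IsEssential p H := by
  obtain ⟨L₁, L₂, L₃, h₁, h₂, h₃, h12, h23, hc₁, hc₂, hc₃⟩ := hch
  rintro ⟨hcen, hfn, hN, E, hE⟩
  haveI := hN
  have hpp : p.Prime := Fact.out
  haveI : Finite H := Nat.finite_of_card_ne_zero (by rw [hcard]; exact pow_ne_zero 4 hpp.ne_zero)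
  haveI : Finite (MulAut H) :=
    Finite.of_injective (fun e : MulAut H => (e : H → H)) DFunLike.coe_injective
  have hHp : IsPGroup p H := IsPGroup.of_card hcard
  obtain ⟨C, hCn, hCp, hCall⟩ :=
    exists_normal_pSubgroup_of_chain4 L₁ L₂ L₃ h₁ h₂ h₃ h12 h23 hc₁ hc₂ hc₃ hcard
  have hNp : IsPGroup p ((Inn H).subgroupOf (F.autGroup H)) := by
    rintro ⟨x, hx⟩
    rw [Subgroup.mem_subgroupOf] at hx
    obtain ⟨h, hh⟩ := hx
    obtain ⟨k, hk⟩ := hHp h
    refine ⟨k, Subtype.ext (Subtype.ext ?_)⟩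
    show (x : MulAut H) ^ (p ^ k) = 1
    rw [← hh, ← map_pow, hk, map_one]
  exact not_stronglyPEmbedded_of_normal ((Inn H).subgroupOf (F.autGroup H)) hNp
    (C.subgroupOf (F.autGroup H)) (hCn.subgroupOf _) hCp.comap_subtype
    (fun x ⟨k, hk⟩ => Subgroup.mem_subgroupOf.mpr (hCall x ⟨k, congrArg Subtype.val hk⟩)) E hE

/-- commutation with `x` as a homomorphism when all commutators with `x` are central. -/
theorem p4_comm_hom (x : G) (hx : ∀ b : G, x * b * x⁻¹ * b⁻¹ ∈ Subgroup.center G) :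
    ∃ f : G →* ↥(Subgroup.center G), ∀ b : G, (f b : G) = x * b * x⁻¹ * b⁻¹ := by
  refine ⟨{ toFun := fun b => ⟨x * b * x⁻¹ * b⁻¹, hx b⟩
            map_one' := Subtype.ext (by simp)
            map_mul' := fun a b => Subtype.ext ?_ }, fun b => rfl⟩
  show x * (a * b) * x⁻¹ * (a * b)⁻¹ = (x * a * x⁻¹ * a⁻¹) * (x * b * x⁻¹ * b⁻¹)
  have h := Subgroup.mem_center_iff.mp (hx b) a⁻¹
  calc x * (a * b) * x⁻¹ * (a * b)⁻¹ = x * a * x⁻¹ * ((x * b * x⁻¹ * b⁻¹) * a⁻¹) := by group
    _ = x * a * x⁻¹ * (a⁻¹ * (x * b * x⁻¹ * b⁻¹)) := by rw [← h]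
    _ = _ := by group

theorem p4_comm_hom_ker (x : G) (f : G →* ↥(Subgroup.center G))
    (hf : ∀ b : G, (f b : G) = x * b * x⁻¹ * b⁻¹) :
    f.ker = Subgroup.centralizer ({x} : Set G) := by
  ext b
  rw [MonoidHom.mem_ker, Subgroup.mem_centralizer_singleton_iff]
  constructor
  · intro h
    have h1 : x * b * x⁻¹ * b⁻¹ = 1 := by
      have h2 := congrArg Subtype.val h
      rw [hf] at h2
      exact h2
    calc b * x = (x * b * x⁻¹ * b⁻¹)⁻¹ * (x * b) := by group
      _ = x * b := by rw [h1, inv_one, one_mul]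
  · intro h
    apply Subtype.ext
    rw [hf]
    show x * b * x⁻¹ * b⁻¹ = 1
    rw [← h]; group

theorem p4_centralizer_index_dvd [Finite G] (x : G)
    (hx : ∀ b : G, x * b * x⁻¹ * b⁻¹ ∈ Subgroup.center G) :
    (Subgroup.centralizer ({x} : Set G)).index ∣ Nat.card (Subgroup.center G) := by
  obtain ⟨f, hf⟩ := p4_comm_hom x hx
  rw [← p4_comm_hom_ker x f hf, Subgroup.index_ker]
  exact Subgroup.card_subgroup_dvd_card _

theorem p4_comm_mem_zpowers [Finite G] {p : ℕ} [Fact p.Prime] (a : G)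
    (ha : ∀ b : G, a * b * a⁻¹ * b⁻¹ ∈ Subgroup.center G)
    (hidx : (Subgroup.centralizer ({a} : Set G)).index = p) (b₀ : G)
    (hb₀ : a * b₀ * a⁻¹ * b₀⁻¹ ≠ 1) (b : G) :
    a * b * a⁻¹ * b⁻¹ ∈ Subgroup.zpowers (a * b₀ * a⁻¹ * b₀⁻¹) := by
  obtain ⟨f, hf⟩ := p4_comm_hom a ha
  have hc : Nat.card f.range = p := by
    rw [← Subgroup.index_ker, p4_comm_hom_ker a f hf]; exact hidx
  have hne : (⟨f b₀, ⟨b₀, rfl⟩⟩ : f.range) ≠ 1 := by
    intro h
    apply hb₀
    have h2 : f b₀ = 1 := congrArg Subtype.val h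
    have h3 := congrArg Subtype.val h2
    rw [hf] at h3
    exact h3
  have hmem : (⟨f b, ⟨b, rfl⟩⟩ : f.range) ∈ Subgroup.zpowers (⟨f b₀, ⟨b₀, rfl⟩⟩ : f.range) :=
    mem_zpowers_of_prime_card hc hne
  obtain ⟨k, hk⟩ := Subgroup.mem_zpowers_iff.mp hmem
  rw [Subgroup.mem_zpowers_iff]
  refine ⟨k, ?_⟩
  have h5 : (f b₀) ^ k = f b := congrArg Subtype.val hk
  have h6 := congrArg Subtype.val h5
  rw [Subgroup.coe_zpow, hf, hf] at h6
  exact h6

theorem p4_centralizer_abelian [Finite G] {p : ℕ} [Fact p.Prime] (x : G)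
    (hx : x ∉ Subgroup.center G)
    (hC : Nat.card (Subgroup.centralizer ({x} : Set G)) = p ^ 3)
    (hZ : p ≤ Nat.card (Subgroup.center G)) :
    ∀ a ∈ Subgroup.centralizer ({x} : Set G), ∀ b ∈ Subgroup.centralizer ({x} : Set G),
      a * b = b * a := by
  by_contra hnab'
  have hnab : ¬ ∀ a b : ↥(Subgroup.centralizer ({x} : Set G)), a * b = b * a := by
    intro h
    apply hnab'
    intro a ha b hb
    exact congrArg Subtype.val (h ⟨a, ha⟩ ⟨b, hb⟩)
  have hZc := p3_center_card hC hnab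
  have hZC : Subgroup.center G ≤ Subgroup.centralizer ({x} : Set G) :=
    Subgroup.center_le_centralizer _
  have hle : (Subgroup.center G).subgroupOf (Subgroup.centralizer ({x} : Set G)) ≤
      Subgroup.center ↥(Subgroup.centralizer ({x} : Set G)) := by
    intro z hz
    rw [Subgroup.mem_subgroupOf] at hz
    rw [Subgroup.mem_center_iff]
    intro g
    apply Subtype.ext
    exact Subgroup.mem_center_iff.mp hz (g : G)
  have hc1 : Nat.card ((Subgroup.center G).subgroupOf (Subgroup.centralizer ({x} : Set G))) =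
      Nat.card (Subgroup.center G) :=
    Nat.card_congr (Subgroup.subgroupOfEquivOfLe hZC).toEquiv
  have heq : (Subgroup.center G).subgroupOf (Subgroup.centralizer ({x} : Set G)) =
      Subgroup.center ↥(Subgroup.centralizer ({x} : Set G)) :=
    Subgroup.eq_of_le_of_card_ge hle (by rw [hc1, hZc]; exact hZ)
  have hxC : x ∈ Subgroup.centralizer ({x} : Set G) :=
    Subgroup.mem_centralizer_singleton_iff.mpr rfl
  have hxc : (⟨x, hxC⟩ : ↥(Subgroup.centralizer ({x} : Set G))) ∈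
      Subgroup.center ↥(Subgroup.centralizer ({x} : Set G)) := by
    rw [Subgroup.mem_center_iff]
    intro g
    apply Subtype.ext
    exact Subgroup.mem_centralizer_singleton_iff.mp g.2
  rw [← heq, Subgroup.mem_subgroupOf] at hxc
  exact hx hxc

/-- the case of a centre of order `p`. -/
theorem p4_center_p_chain [Finite G] {p : ℕ} [Fact p.Prime] (hcard : Nat.card G = p ^ 4)
    (hZ : Nat.card (Subgroup.center G) = p) : P4Chain G p := by
  have hpp : p.Prime := Fact.out
  have hmax : Subgroup.upperCentralSeries G (4 - 2) ≠ ⊤ := by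
    intro htop
    have hcc : ∀ a b : G, a * b * a⁻¹ * b⁻¹ ∈ Subgroup.center G := by
      intro a b
      have ha : a ∈ Subgroup.upperCentralSeries G (1 + 1) := by
        have : a ∈ Subgroup.upperCentralSeries G (4 - 2) := by
          rw [htop]; exact Subgroup.mem_top _
        exact this
      rw [Subgroup.mem_upperCentralSeries_succ_iff] at ha
      have h := ha b
      rwa [Subgroup.upperCentralSeries_one] at h
    have hcent : ∀ x : G, x ∉ Subgroup.center G →
        Nat.card (Subgroup.centralizer ({x} : Set G)) = p ^ 3 := by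
      intro x hx
      have hdvd := p4_centralizer_index_dvd x (hcc x)
      rw [hZ] at hdvd
      rcases (Nat.dvd_prime hpp).mp hdvd with h1 | h1
      · exfalso
        apply hx
        have htop' : Subgroup.centralizer ({x} : Set G) = ⊤ := Subgroup.index_eq_one.mp h1
        rw [Subgroup.mem_center_iff]
        intro g
        have hg : g ∈ Subgroup.centralizer ({x} : Set G) := by
          rw [htop']; exact Subgroup.mem_top _
        exact Subgroup.mem_centralizer_singleton_iff.mp hg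
      · have h := Subgroup.card_mul_index (Subgroup.centralizer ({x} : Set G))
        rw [h1, hcard] at h
        exact Nat.eq_of_mul_eq_mul_right hpp.pos (by rw [h]; ring)
    obtain ⟨x, hx⟩ : ∃ x : G, x ∉ Subgroup.center G := by
      by_contra hall
      push Not at hall
      have h1 : Subgroup.center G = ⊤ := by rw [eq_top_iff]; intro g _; exact hall g
      rw [h1, Subgroup.card_top, hcard] at hZ
      have h2 : p ^ 4 = p ^ 1 := by rw [hZ, pow_one]
      have := Nat.pow_right_injective hpp.two_le h2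
      omega
    have hCcard := hcent x hx
    have hCab := p4_centralizer_abelian x hx hCcard hZ.ge
    obtain ⟨w, hw⟩ : ∃ w : G, w ∉ Subgroup.centralizer ({x} : Set G) := by
      by_contra hall
      push Not at hall
      apply hx
      rw [Subgroup.mem_center_iff]
      intro g
      exact Subgroup.mem_centralizer_singleton_iff.mp (hall g)
    have hwZ : w ∉ Subgroup.center G := fun h => hw (Subgroup.center_le_centralizer _ h)
    have hDZ : Subgroup.centralizer ({w} : Set G) ⊓ Subgroup.centralizer ({x} : Set G) ≤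
        Subgroup.center G := by
      intro d hd
      obtain ⟨hd1, hd2⟩ := Subgroup.mem_inf.mp hd
      by_contra hdZ
      have hCd : Subgroup.centralizer ({x} : Set G) ≤ Subgroup.centralizer ({d} : Set G) := by
        intro g hg
        rw [Subgroup.mem_centralizer_singleton_iff]
        exact hCab g hg d hd2
      have heq : Subgroup.centralizer ({x} : Set G) = Subgroup.centralizer ({d} : Set G) :=
        Subgroup.eq_of_le_of_card_ge hCd (by rw [hcent d hdZ, hCcard])
      apply hw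
      rw [heq, Subgroup.mem_centralizer_singleton_iff]
      exact (Subgroup.mem_centralizer_singleton_iff.mp hd1).symm
    have hi : ∀ y : G, y ∉ Subgroup.center G →
        (Subgroup.centralizer ({y} : Set G)).index = p := by
      intro y hy
      have h := Subgroup.card_mul_index (Subgroup.centralizer ({y} : Set G))
      rw [hcent y hy, hcard] at h
      exact Nat.eq_of_mul_eq_mul_left (pow_pos hpp.pos 3) (by rw [h]; ring)
    have hDidx : (Subgroup.centralizer ({w} : Set G) ⊓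
        Subgroup.centralizer ({x} : Set G)).index ≤ p * p := by
      have h1 := Subgroup.index_inf_le (H := Subgroup.centralizer ({w} : Set G))
        (K := Subgroup.centralizer ({x} : Set G))
      rwa [hi w hwZ, hi x hx] at h1
    have hDle := Subgroup.card_le_of_le hDZ
    rw [hZ] at hDle
    have h := Subgroup.card_mul_index
      (Subgroup.centralizer ({w} : Set G) ⊓ Subgroup.centralizer ({x} : Set G))
    rw [hcard] at h
    have h5 : p ^ 4 ≤ p * (p * p) := by
      rw [← h]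
      exact Nat.mul_le_mul hDle hDidx
    have h6 : p * (p * p) = p ^ 3 := by ring
    rw [h6] at h5
    have := (Nat.pow_le_pow_iff_right hpp.one_lt).mp h5
    omega
  obtain ⟨h1, h2⟩ := maxclass_centers 4 hcard (le_refl 4) hmax
  obtain ⟨h3, h4⟩ := maxclass_centralizer_card h1 h2
  have hc3 : Nat.card (Subgroup.centralizer (Subgroup.upperCentralSeries G 2 : Set G)) =
      p ^ 3 := by
    rw [hcard] at h3
    exact Nat.eq_of_mul_eq_mul_left hpp.pos (by rw [← h3]; ring)
  refine ⟨Subgroup.center G, Subgroup.upperCentralSeries G 2,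
    Subgroup.centralizer (Subgroup.upperCentralSeries G 2 : Set G), p4_char_center,
    p4_char_of _, p4_char_of _, ?_, ?_, h1, h2, hc3⟩
  · rw [← Subgroup.upperCentralSeries_one]
    exact Subgroup.upperCentralSeries_mono G (show 1 ≤ 2 by norm_num)
  · intro a ha
    rw [Subgroup.mem_centralizer_iff]
    intro b hb
    exact h4 b hb a ha

theorem p4_sq_basic [Finite G] {p : ℕ} [Fact p.Prime] (hcard : Nat.card G = p ^ 4)
    (hnc : ¬ ∀ a b : G, a * b = b * a) (hZ : Nat.card (Subgroup.center G) = p ^ 2) :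
    (∀ x : G, x ^ p ∈ Subgroup.center G) ∧
      (∀ a b : G, a * b * a⁻¹ * b⁻¹ ∈ Subgroup.center G) := by
  have hpp : p.Prime := Fact.out
  have hqc : Nat.card (G ⧸ Subgroup.center G) = p ^ 2 := by
    rw [← Subgroup.index_eq_card]
    have h := Subgroup.card_mul_index (Subgroup.center G)
    rw [hZ, hcard] at h
    exact Nat.eq_of_mul_eq_mul_left (pow_pos hpp.pos 2) (by rw [h]; ring)
  have hqcomm : ∀ a b : G ⧸ Subgroup.center G, a * b = b * a :=
    fun a b => (IsPGroup.isMulCommutative_of_card_eq_prime_sq hqc).is_comm.comm a b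
  have hncyc : ¬ IsCyclic (G ⧸ Subgroup.center G) := fun h => hnc (by
    haveI := h
    exact commutative_of_cyclic_center_quotient (QuotientGroup.mk' (Subgroup.center G))
      (by rw [QuotientGroup.ker_mk']))
  refine ⟨?_, ?_⟩
  · intro x
    rw [← QuotientGroup.eq_one_iff, QuotientGroup.mk_pow]
    obtain ⟨q, hq⟩ : ∃ q : G ⧸ Subgroup.center G, q = ↑x := ⟨_, rfl⟩
    rw [← hq]
    have hdvd : orderOf q ∣ p ^ 2 := by rw [← hqc]; exact orderOf_dvd_natCard q
    obtain ⟨j, hj, hj'⟩ := (Nat.dvd_prime_pow hpp).mp hdvd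
    interval_cases j
    · have : q = 1 := orderOf_eq_one_iff.mp (by rw [hj', pow_zero])
      rw [this, one_pow]
    · have : orderOf q = p := by rw [hj', pow_one]
      exact orderOf_dvd_iff_pow_eq_one.mp (dvd_of_eq this)
    · exact absurd (isCyclic_of_orderOf_eq_card q (hj'.trans hqc.symm)) hncyc
  · intro a b
    rw [← QuotientGroup.eq_one_iff]
    have := hqcomm (a : G ⧸ Subgroup.center G) b
    simp only [QuotientGroup.mk_mul, QuotientGroup.mk_inv]
    rw [this, mul_inv_cancel_right, mul_inv_cancel]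

theorem p4_sq_centralizer [Finite G] {p : ℕ} [Fact p.Prime] (hcard : Nat.card G = p ^ 4)
    (hZ : Nat.card (Subgroup.center G) = p ^ 2) (x : G) (hx : x ∉ Subgroup.center G) :
    Nat.card (Subgroup.centralizer ({x} : Set G)) = p ^ 3 := by
  have hpp : p.Prime := Fact.out
  have hZC : Subgroup.center G ≤ Subgroup.centralizer ({x} : Set G) :=
    Subgroup.center_le_centralizer _
  have hxC : x ∈ Subgroup.centralizer ({x} : Set G) :=
    Subgroup.mem_centralizer_singleton_iff.mpr rfl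
  obtain ⟨j, hj4, hj⟩ := (Nat.dvd_prime_pow hpp).mp
    (show Nat.card (Subgroup.centralizer ({x} : Set G)) ∣ p ^ 4 by
      rw [← hcard]; exact Subgroup.card_subgroup_dvd_card _)
  have h2 : p ^ 2 ≤ p ^ j := by rw [← hj, ← hZ]; exact Subgroup.card_le_of_le hZC
  have hj2 : 2 ≤ j := (Nat.pow_le_pow_iff_right hpp.one_lt).mp h2
  have hj2' : j ≠ 2 := by
    intro h
    apply hx
    have : Subgroup.center G = Subgroup.centralizer ({x} : Set G) :=
      Subgroup.eq_of_le_of_card_ge hZC (by rw [hj, h, hZ])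
    rw [this]; exact hxC
  have hj4' : j ≠ 4 := by
    intro h
    apply hx
    have htop : Subgroup.centralizer ({x} : Set G) = ⊤ :=
      Subgroup.eq_top_of_card_eq _ (by rw [hj, h, hcard])
    rw [Subgroup.mem_center_iff]
    intro g
    have hg : g ∈ Subgroup.centralizer ({x} : Set G) := by rw [htop]; exact Subgroup.mem_top g
    exact Subgroup.mem_centralizer_singleton_iff.mp hg
  have hj3 : j = 3 := by omega
  rw [hj, hj3]

/-- the commutator subgroup has order `p` when the centre has order `p²`. -/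
theorem p4_sq_derived [Finite G] {p : ℕ} [Fact p.Prime] (hcard : Nat.card G = p ^ 4)
    (hnc : ¬ ∀ a b : G, a * b = b * a) (hZ : Nat.card (Subgroup.center G) = p ^ 2) :
    ∃ c : G, (∃ x w : G, c = x * w * x⁻¹ * w⁻¹) ∧ c ≠ 1 ∧ c ∈ Subgroup.center G ∧ c ^ p = 1 ∧
      (∀ β : MulAut G, ∀ y ∈ Subgroup.zpowers c, β y ∈ Subgroup.zpowers c) ∧
      Nat.card (Subgroup.zpowers c) = p ∧
      ∀ a b : G, a * b * a⁻¹ * b⁻¹ ∈ Subgroup.zpowers c := by
  have hpp : p.Prime := Fact.out
  obtain ⟨hpow, hcc⟩ := p4_sq_basic hcard hnc hZ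
  obtain ⟨x, w, hxw⟩ : ∃ x w : G, x * w ≠ w * x := by
    by_contra h; push Not at h; exact hnc h
  have hidx : ∀ a : G, a ∉ Subgroup.center G →
      (Subgroup.centralizer ({a} : Set G)).index = p := by
    intro a ha
    have h := Subgroup.card_mul_index (Subgroup.centralizer ({a} : Set G))
    rw [p4_sq_centralizer hcard hZ a ha, hcard] at h
    exact Nat.eq_of_mul_eq_mul_left (pow_pos hpp.pos 3) (by rw [h]; ring)
  have hncZ : ∀ a b : G, a * b ≠ b * a → a ∉ Subgroup.center G := by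
    intro a b hab ha
    exact hab ((Subgroup.mem_center_iff.mp ha b).symm)
  have hne : ∀ a b : G, a * b ≠ b * a → a * b * a⁻¹ * b⁻¹ ≠ 1 := by
    intro a b hab h
    apply hab
    calc a * b = (a * b * a⁻¹ * b⁻¹) * (b * a) := by group
      _ = b * a := by rw [h, one_mul]
  obtain ⟨c, hcdef⟩ : ∃ c : G, c = x * w * x⁻¹ * w⁻¹ := ⟨_, rfl⟩
  have hc1 : c ≠ 1 := by rw [hcdef]; exact hne x w hxw
  have hcZ : c ∈ Subgroup.center G := by rw [hcdef]; exact hcc x w
  have h1 : ∀ b : G, x * b * x⁻¹ * b⁻¹ ∈ Subgroup.zpowers c := by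
    intro b
    rw [hcdef]
    exact p4_comm_mem_zpowers x (hcc x) (hidx x (hncZ x w hxw)) w (hne x w hxw) b
  have h2 : ∀ a : G, x * a ≠ a * x → ∀ b : G, a * b * a⁻¹ * b⁻¹ ∈ Subgroup.zpowers c := by
    intro a hxa b
    have hax : a * x ≠ x * a := fun h => hxa h.symm
    have hm := p4_comm_mem_zpowers a (hcc a) (hidx a (hncZ a x hax)) x (hne a x hax) b
    have hle : Subgroup.zpowers (a * x * a⁻¹ * x⁻¹) ≤ Subgroup.zpowers c := by
      rw [Subgroup.zpowers_le]
      have h3 := Subgroup.inv_mem _ (h1 a)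
      have e : (x * a * x⁻¹ * a⁻¹)⁻¹ = a * x * a⁻¹ * x⁻¹ := by group
      rwa [e] at h3
    exact hle hm
  have hcp : c ^ p = 1 := by
    obtain ⟨f, hf⟩ := p4_comm_hom x (hcc x)
    have h3 : f (w ^ p) = 1 := by
      apply Subtype.ext
      rw [hf]
      have h4 := Subgroup.mem_center_iff.mp (hpow w) x
      show x * w ^ p * x⁻¹ * (w ^ p)⁻¹ = 1
      rw [h4]; group
    rw [map_pow] at h3
    have h5 := congrArg Subtype.val h3
    rw [Subgroup.coe_pow, hf] at h5
    rw [hcdef]; exact h5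
  have hall : ∀ a b : G, a * b * a⁻¹ * b⁻¹ ∈ Subgroup.zpowers c := by
    intro a b
    by_cases hxa : x * a = a * x
    · have hxaw : x * (a * w) ≠ (a * w) * x := by
        intro h
        apply hxw
        have h' : a * (x * w) = a * (w * x) := by
          calc a * (x * w) = x * a * w := by rw [← mul_assoc, ← hxa]
            _ = x * (a * w) := mul_assoc _ _ _
            _ = a * w * x := h
            _ = a * (w * x) := mul_assoc _ _ _
        exact mul_left_cancel h'
      have hA := h2 (a * w) hxaw b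
      have hW := h2 w hxw b
      have hcen := Subgroup.mem_center_iff.mp (hcc w b)
      have e : a * b * a⁻¹ * b⁻¹ =
          (w * b * w⁻¹ * b⁻¹)⁻¹ * ((a * w) * b * (a * w)⁻¹ * b⁻¹) := by
        have h5 : (a * w) * b * (a * w)⁻¹ * b⁻¹ =
            a * (w * b * w⁻¹ * b⁻¹) * (b * a⁻¹ * b⁻¹) := by group
        rw [h5, hcen a]
        group
      rw [e]
      exact Subgroup.mul_mem _ (Subgroup.inv_mem _ hW) hA
    · exact h2 a hxa b
  have hKchar : ∀ β : MulAut G, ∀ y ∈ Subgroup.zpowers c, β y ∈ Subgroup.zpowers c := by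
    intro β y hy
    obtain ⟨k, rfl⟩ := Subgroup.mem_zpowers_iff.mp hy
    rw [map_zpow]
    apply Subgroup.zpow_mem
    have hβc : β c = β x * β w * (β x)⁻¹ * (β w)⁻¹ := by
      rw [hcdef, map_mul, map_mul, map_mul, map_inv, map_inv]
    rw [hβc]
    exact hall (β x) (β w)
  refine ⟨c, ⟨x, w, hcdef⟩, hc1, hcZ, hcp, hKchar, ?_, hall⟩
  rw [Nat.card_zpowers]
  exact orderOf_eq_prime hcp hc1

theorem p4_cancel_aux (X Y : G) : (X * Y)⁻¹ * X = Y⁻¹ := by group

/-- the subgroup of elements whose `p`-th power lies in the commutator subgroup. -/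
theorem p4_pow_ker [Finite G] {p : ℕ} [Fact p.Prime]
    (hZ : Nat.card (Subgroup.center G) = p ^ 2)
    (hpow : ∀ g : G, g ^ p ∈ Subgroup.center G)
    (c : G) (hcZ : c ∈ Subgroup.center G) (hKcard : Nat.card (Subgroup.zpowers c) = p)
    (hK : ∀ a b : G, a * b * a⁻¹ * b⁻¹ ∈ Subgroup.zpowers c) :
    ∃ T : Subgroup G, (∀ g : G, g ∈ T ↔ g ^ p ∈ Subgroup.zpowers c) ∧
      (T.index = 1 ∨ T.index = p) ∧ ∀ z ∈ Subgroup.center G, z ^ p ∈ Subgroup.zpowers c := by
  classical
  have hpp : p.Prime := Fact.out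
  have hKZ : Subgroup.zpowers c ≤ Subgroup.center G := by
    rw [Subgroup.zpowers_le]; exact hcZ
  haveI hNn : ((Subgroup.zpowers c).subgroupOf (Subgroup.center G)).Normal := ⟨fun n hn g => by
    have h1 : g * n * g⁻¹ = n := by
      apply Subtype.ext
      have h2 := Subgroup.mem_center_iff.mp n.2 (g : G)
      show (g : G) * (n : G) * (g : G)⁻¹ = (n : G)
      rw [h2, mul_inv_cancel_right]
    rw [h1]; exact hn⟩
  have hmulp : ∀ a b : G, ((a * b) ^ p)⁻¹ * (a ^ p * b ^ p) ∈ Subgroup.zpowers c := by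
    intro a b
    have he : b⁻¹ * a⁻¹ * b * a ∈ Subgroup.zpowers c := by
      have e : b⁻¹ * a⁻¹ * b⁻¹⁻¹ * a⁻¹⁻¹ = b⁻¹ * a⁻¹ * b * a := by rw [inv_inv, inv_inv]
      rw [← e]; exact hK b⁻¹ a⁻¹
    have hec := Subgroup.mem_center_iff.mp (hKZ he)
    have h2 := Cfsg.Agent.Helper23.mul_pow_central (e := b⁻¹ * a⁻¹ * b * a) (a := a) (b := b)
      (by group) (show Commute _ a from (hec a).symm) (show Commute _ b from (hec b).symm) p
    rw [h2, p4_cancel_aux]
    exact Subgroup.inv_mem _ (Subgroup.pow_mem _ he _)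
  let f : G →* (↥(Subgroup.center G) ⧸ (Subgroup.zpowers c).subgroupOf (Subgroup.center G)) :=
    { toFun := fun g => QuotientGroup.mk ⟨g ^ p, hpow g⟩
      map_one' := (QuotientGroup.eq_one_iff _).mpr (Subgroup.mem_subgroupOf.mpr
        (show (1 : G) ^ p ∈ Subgroup.zpowers c by rw [one_pow]; exact Subgroup.one_mem _))
      map_mul' := fun a b => by
        show (QuotientGroup.mk (⟨(a * b) ^ p, hpow (a * b)⟩ : ↥(Subgroup.center G)) :
            ↥(Subgroup.center G) ⧸ (Subgroup.zpowers c).subgroupOf (Subgroup.center G)) =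
          QuotientGroup.mk ⟨a ^ p, hpow a⟩ * QuotientGroup.mk ⟨b ^ p, hpow b⟩
        rw [← QuotientGroup.mk_mul, QuotientGroup.eq]
        exact Subgroup.mem_subgroupOf.mpr (hmulp a b) }
  have hf : ∀ g, f g = QuotientGroup.mk ⟨g ^ p, hpow g⟩ := fun g => rfl
  have hker : ∀ g : G, g ∈ f.ker ↔ g ^ p ∈ Subgroup.zpowers c := by
    intro g
    rw [MonoidHom.mem_ker, hf, QuotientGroup.eq_one_iff]
    exact Subgroup.mem_subgroupOf
  have hQ : Nat.card (↥(Subgroup.center G) ⧸
      (Subgroup.zpowers c).subgroupOf (Subgroup.center G)) = p := by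
    rw [← Subgroup.index_eq_card]
    have h := Subgroup.card_mul_index ((Subgroup.zpowers c).subgroupOf (Subgroup.center G))
    rw [Nat.card_congr (Subgroup.subgroupOfEquivOfLe hKZ).toEquiv, hKcard, hZ] at h
    exact Nat.eq_of_mul_eq_mul_left hpp.pos (by rw [h]; ring)
  have hdvd : f.ker.index ∣ p := by
    rw [Subgroup.index_ker, ← hQ]
    exact Subgroup.card_subgroup_dvd_card _
  refine ⟨f.ker, hker, (Nat.dvd_prime hpp).mp hdvd, ?_⟩
  intro z hz
  have h1 := pow_card_eq_one' (G := ↥(Subgroup.center G) ⧸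
    (Subgroup.zpowers c).subgroupOf (Subgroup.center G)) (x := QuotientGroup.mk ⟨z, hz⟩)
  rw [hQ, ← QuotientGroup.mk_pow, QuotientGroup.eq_one_iff] at h1
  exact Subgroup.mem_subgroupOf.mp h1

end OrderP4

end Cfsg.Agent.Helper26
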