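import Mathlib
import Cfsg.Agent.Helper26.OrderP4

set_option autoImplicit false

namespace Cfsg.Agent.Helper26

open Cfsg
open scoped commutatorElement

section CI1

variable {G : Type*} [Group G]

theorem ci_index [Finite G] {p : ℕ} [Fact p.Prime] (hG : IsPGroup p G)
    (hnc : ¬ ∀ a b : G, a * b = b * a) (hZ : (Subgroup.center G).index ≤ p ^ 2) :
    (Subgroup.center G).index = p ^ 2 := by
  have hpp : p.Prime := Fact.out
  obtain ⟨k, hk⟩ := hG.index (Subgroup.center G)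
  have hk2 : k ≤ 2 := by
    rw [hk] at hZ
    exact (Nat.pow_le_pow_iff_right hpp.one_lt).mp hZ
  interval_cases k
  · exfalso
    apply hnc
    have htop : Subgroup.center G = ⊤ := Subgroup.index_eq_one.mp (by rw [hk, pow_zero])
    intro a b
    have ha : a ∈ Subgroup.center G := by rw [htop]; trivial
    exact (Subgroup.mem_center_iff.mp ha b).symm
  · exfalso
    haveI : IsCyclic (G ⧸ Subgroup.center G) :=
      isCyclic_of_prime_card (p := p) (by rw [← Subgroup.index_eq_card, hk, pow_one])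
    exact hnc (commutative_of_cyclic_center_quotient (QuotientGroup.mk' (Subgroup.center G))
      (by rw [QuotientGroup.ker_mk']))
  · exact hk

theorem ci_basic [Finite G] {p : ℕ} [Fact p.Prime] (hnc : ¬ ∀ a b : G, a * b = b * a)
    (hZ : (Subgroup.center G).index = p ^ 2) :
    (∀ x : G, x ^ p ∈ Subgroup.center G) ∧
      (∀ a b : G, a * b * a⁻¹ * b⁻¹ ∈ Subgroup.center G) ∧
      ∀ a b : G, (QuotientGroup.mk' (Subgroup.center G)) a *
        (QuotientGroup.mk' (Subgroup.center G)) b =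
        (QuotientGroup.mk' (Subgroup.center G)) b * (QuotientGroup.mk' (Subgroup.center G)) a := by
  have hpp : p.Prime := Fact.out
  have hqc : Nat.card (G ⧸ Subgroup.center G) = p ^ 2 := by
    rw [← Subgroup.index_eq_card]; exact hZ
  have hqcomm : ∀ a b : G ⧸ Subgroup.center G, a * b = b * a :=
    fun a b => (IsPGroup.isMulCommutative_of_card_eq_prime_sq hqc).is_comm.comm a b
  have hncyc : ¬ IsCyclic (G ⧸ Subgroup.center G) := fun h => hnc (by
    haveI := h
    exact commutative_of_cyclic_center_quotient (QuotientGroup.mk' (Subgroup.center G))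
      (by rw [QuotientGroup.ker_mk']))
  refine ⟨?_, ?_, fun a b => hqcomm _ _⟩
  · intro x
    rw [← QuotientGroup.eq_one_iff, QuotientGroup.mk_pow]
    obtain ⟨q, hq⟩ : ∃ q : G ⧸ Subgroup.center G, q = ↑x := ⟨_, rfl⟩
    rw [← hq]
    have hdvd : orderOf q ∣ p ^ 2 := by rw [← hqc]; exact orderOf_dvd_natCard q
    obtain ⟨j, hj, hj'⟩ := (Nat.dvd_prime_pow hpp).mp hdvd
    interval_cases j
    · have : q = 1 := orderOf_eq_one_iff.mp (by rw [hj', pow_zero])
      rw [this, one_pow]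
    · have : orderOf q = p := by rw [hj', pow_one]
      exact orderOf_dvd_iff_pow_eq_one.mp (dvd_of_eq this)
    · exact absurd (isCyclic_of_orderOf_eq_card q (hj'.trans hqc.symm)) hncyc
  · intro a b
    rw [← QuotientGroup.eq_one_iff]
    have := hqcomm (a : G ⧸ Subgroup.center G) b
    simp only [QuotientGroup.mk_mul, QuotientGroup.mk_inv]
    rw [this, mul_inv_cancel_right, mul_inv_cancel]

theorem ci_centralizer_index [Finite G] {p : ℕ} [Fact p.Prime]
    (hZ : (Subgroup.center G).index = p ^ 2) (a : G) (ha : a ∉ Subgroup.center G) :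
    (Subgroup.centralizer ({a} : Set G)).index = p := by
  have hpp : p.Prime := Fact.out
  have hZC : Subgroup.center G ≤ Subgroup.centralizer ({a} : Set G) :=
    Subgroup.center_le_centralizer _
  have haC : a ∈ Subgroup.centralizer ({a} : Set G) :=
    Subgroup.mem_centralizer_singleton_iff.mpr rfl
  have h1 := Subgroup.relIndex_mul_index hZC
  rw [hZ] at h1
  have hr1 : (Subgroup.center G).relIndex (Subgroup.centralizer ({a} : Set G)) ≠ 1 := by
    intro h
    exact ha (Subgroup.relIndex_eq_one.mp h haC)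
  have hi1 : (Subgroup.centralizer ({a} : Set G)).index ≠ 1 := by
    intro h
    apply ha
    have htop := Subgroup.index_eq_one.mp h
    rw [Subgroup.mem_center_iff]
    intro g
    have hg : g ∈ Subgroup.centralizer ({a} : Set G) := by rw [htop]; trivial
    exact Subgroup.mem_centralizer_singleton_iff.mp hg
  obtain ⟨j, hj2, hj⟩ := (Nat.dvd_prime_pow hpp).mp (Dvd.intro_left _ h1)
  interval_cases j
  · exact absurd (by rw [hj, pow_zero]) hi1
  · rw [hj, pow_one]
  · exfalso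
    rw [hj] at h1
    apply hr1
    have h2 : (Subgroup.center G).relIndex (Subgroup.centralizer ({a} : Set G)) * p ^ 2
        = 1 * p ^ 2 := by rw [h1, one_mul]
    exact Nat.eq_of_mul_eq_mul_right (pow_pos hpp.pos 2) h2

theorem ci_derived [Finite G] {p : ℕ} [Fact p.Prime] (hnc : ¬ ∀ a b : G, a * b = b * a)
    (hZ : (Subgroup.center G).index = p ^ 2) :
    ∃ c : G, (∃ x w : G, c = x * w * x⁻¹ * w⁻¹) ∧ c ≠ 1 ∧ c ∈ Subgroup.center G ∧ c ^ p = 1 ∧
      ∀ a b : G, a * b * a⁻¹ * b⁻¹ ∈ Subgroup.zpowers c := by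
  have hpp : p.Prime := Fact.out
  obtain ⟨hpow, hcc, -⟩ := ci_basic hnc hZ
  obtain ⟨x, w, hxw⟩ : ∃ x w : G, x * w ≠ w * x := by
    by_contra h; push Not at h; exact hnc h
  have hidx : ∀ a : G, a ∉ Subgroup.center G →
      (Subgroup.centralizer ({a} : Set G)).index = p := fun a ha => ci_centralizer_index hZ a ha
  have hncZ : ∀ a b : G, a * b ≠ b * a → a ∉ Subgroup.center G := by
    intro a b hab ha
    exact hab ((Subgroup.mem_center_iff.mp ha b).symm)
  have hne : ∀ a b : G, a * b ≠ b * a → a * b * a⁻¹ * b⁻¹ ≠ 1 := by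
    intro a b hab h
    apply hab
    calc a * b = (a * b * a⁻¹ * b⁻¹) * (b * a) := by group
      _ = b * a := by rw [h, one_mul]
  obtain ⟨c, hcdef⟩ : ∃ c : G, c = x * w * x⁻¹ * w⁻¹ := ⟨_, rfl⟩
  have hc1 : c ≠ 1 := by rw [hcdef]; exact hne x w hxw
  have hcZ : c ∈ Subgroup.center G := by rw [hcdef]; exact hcc x w
  have h1 : ∀ b : G, x * b * x⁻¹ * b⁻¹ ∈ Subgroup.zpowers c := by
    intro b
    rw [hcdef]
    exact p4_comm_mem_zpowers x (hcc x) (hidx x (hncZ x w hxw)) w (hne x w hxw) b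
  have h2 : ∀ a : G, x * a ≠ a * x → ∀ b : G, a * b * a⁻¹ * b⁻¹ ∈ Subgroup.zpowers c := by
    intro a hxa b
    have hax : a * x ≠ x * a := fun h => hxa h.symm
    have hm := p4_comm_mem_zpowers a (hcc a) (hidx a (hncZ a x hax)) x (hne a x hax) b
    have hle : Subgroup.zpowers (a * x * a⁻¹ * x⁻¹) ≤ Subgroup.zpowers c := by
      rw [Subgroup.zpowers_le]
      have h3 := Subgroup.inv_mem _ (h1 a)
      have e : (x * a * x⁻¹ * a⁻¹)⁻¹ = a * x * a⁻¹ * x⁻¹ := by group
      rwa [e] at h3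
    exact hle hm
  have hcp : c ^ p = 1 := by
    obtain ⟨f, hf⟩ := p4_comm_hom x (hcc x)
    have h3 : f (w ^ p) = 1 := by
      apply Subtype.ext
      rw [hf]
      have h4 := Subgroup.mem_center_iff.mp (hpow w) x
      show x * w ^ p * x⁻¹ * (w ^ p)⁻¹ = 1
      rw [h4]; group
    rw [map_pow] at h3
    have h5 := congrArg Subtype.val h3
    rw [Subgroup.coe_pow, hf] at h5
    rw [hcdef]; exact h5
  have hall : ∀ a b : G, a * b * a⁻¹ * b⁻¹ ∈ Subgroup.zpowers c := by
    intro a b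
    by_cases hxa : x * a = a * x
    · have hxaw : x * (a * w) ≠ (a * w) * x := by
        intro h
        apply hxw
        have h' : a * (x * w) = a * (w * x) := by
          calc a * (x * w) = x * a * w := by rw [← mul_assoc, ← hxa]
            _ = x * (a * w) := mul_assoc _ _ _
            _ = a * w * x := h
            _ = a * (w * x) := mul_assoc _ _ _
        exact mul_left_cancel h'
      have hA := h2 (a * w) hxaw b
      have hW := h2 w hxw b
      have hcen := Subgroup.mem_center_iff.mp (hcc w b)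
      have e : a * b * a⁻¹ * b⁻¹ =
          (w * b * w⁻¹ * b⁻¹)⁻¹ * ((a * w) * b * (a * w)⁻¹ * b⁻¹) := by
        have h5 : (a * w) * b * (a * w)⁻¹ * b⁻¹ =
            a * (w * b * w⁻¹ * b⁻¹) * (b * a⁻¹ * b⁻¹) := by group
        rw [h5, hcen a]
        group
      rw [e]
      exact Subgroup.mul_mem _ (Subgroup.inv_mem _ hW) hA
    · exact h2 a hxa b
  exact ⟨c, ⟨x, w, hcdef⟩, hc1, hcZ, hcp, hall⟩

theorem ci_cent [Finite G] {p : ℕ} [Fact p.Prime] (hnc : ¬ ∀ a b : G, a * b = b * a)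
    (hZ : (Subgroup.center G).index = p ^ 2) (a : G) (ha : a ∉ Subgroup.center G) (b : G)
    (hb : b * a = a * b) : ∃ k : ℕ, ∃ z ∈ Subgroup.center G, b = a ^ k * z := by
  have hpp : p.Prime := Fact.out
  obtain ⟨hpow, -, -⟩ := ci_basic hnc hZ
  have hqc : Nat.card (G ⧸ Subgroup.center G) = p ^ 2 := by
    rw [← Subgroup.index_eq_card]; exact hZ
  obtain ⟨π, hπ⟩ : ∃ π : G →* G ⧸ Subgroup.center G, π = QuotientGroup.mk' (Subgroup.center G) :=
    ⟨_, rfl⟩
  have hker : π.ker = Subgroup.center G := by rw [hπ, QuotientGroup.ker_mk']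
  have hsurj : Function.Surjective π := by rw [hπ]; exact QuotientGroup.mk'_surjective _
  have h1 : ∀ x : G, π x = 1 ↔ x ∈ Subgroup.center G := by
    intro x
    have h2 : x ∈ π.ker ↔ x ∈ Subgroup.center G := by rw [hker]
    exact (MonoidHom.mem_ker).symm.trans h2
  have hCidx : ((Subgroup.centralizer ({a} : Set G)).map π).index = p := by
    rw [Subgroup.index_map, hker, sup_of_le_left (Subgroup.center_le_centralizer _),
      MonoidHom.range_eq_top.mpr hsurj, Subgroup.index_top, mul_one]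
    exact ci_centralizer_index hZ a ha
  have hCcard : Nat.card ((Subgroup.centralizer ({a} : Set G)).map π) = p := by
    have h := Subgroup.card_mul_index ((Subgroup.centralizer ({a} : Set G)).map π)
    rw [hCidx, hqc] at h
    exact Nat.eq_of_mul_eq_mul_right hpp.pos (h.trans (sq p))
  have hane : π a ≠ 1 := fun h => ha ((h1 a).mp h)
  have hap : (π a) ^ p = 1 := by
    rw [← map_pow]; exact (h1 _).mpr (hpow a)
  have hord : orderOf (π a) = p := orderOf_eq_prime hap hane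
  have hle : Subgroup.zpowers (π a) ≤ (Subgroup.centralizer ({a} : Set G)).map π := by
    rw [Subgroup.zpowers_le]
    exact Subgroup.mem_map_of_mem _ (Subgroup.mem_centralizer_singleton_iff.mpr rfl)
  have heq := Subgroup.eq_of_le_of_card_ge hle (by rw [hCcard, Nat.card_zpowers, hord])
  have hbm : π b ∈ Subgroup.zpowers (π a) := by
    rw [heq]
    exact Subgroup.mem_map_of_mem _ (Subgroup.mem_centralizer_singleton_iff.mpr hb)
  obtain ⟨k, hk⟩ := (Submonoid.mem_powers_iff _ _).mp (mem_powers_iff_mem_zpowers.mpr hbm)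
  refine ⟨k, (a ^ k)⁻¹ * b, ?_, by group⟩
  rw [← h1, map_mul, map_inv, map_pow, hk, inv_mul_cancel]

theorem ci_central [Finite G] {p : ℕ} [Fact p.Prime] (hnc : ¬ ∀ a b : G, a * b = b * a)
    (hZ : (Subgroup.center G).index = p ^ 2) (a s u : G) (has : s * a ≠ a * s)
    (hua : u * a = a * u) (hus : u * s = s * u) : u ∈ Subgroup.center G := by
  by_contra hu
  obtain ⟨k, z, hz, hk⟩ := ci_cent hnc hZ u hu a hua.symm
  obtain ⟨l, w, hw, hl⟩ := ci_cent hnc hZ u hu s hus.symm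
  apply has
  have hz' := Subgroup.mem_center_iff.mp hz
  have hw' := Subgroup.mem_center_iff.mp hw
  have c1 : Commute (u ^ l) (u ^ k) := Commute.pow_pow_self u l k
  have c2 : Commute (u ^ l) (u ^ k * z) := c1.mul_right (hz' _)
  have c3 : Commute w (u ^ k * z) := (show Commute (u ^ k * z) w from hw' _).symm
  rw [hk, hl]
  exact (c2.mul_left c3).eq

theorem ci_gen [Finite G] {p : ℕ} [Fact p.Prime] (hnc : ¬ ∀ a b : G, a * b = b * a)
    (hZ : (Subgroup.center G).index = p ^ 2) (a s : G) (has : s * a ≠ a * s) (t : G) :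
    ∃ i j : ℕ, ∃ z ∈ Subgroup.center G, t = s ^ i * a ^ j * z := by
  obtain ⟨hpow, hcc, -⟩ := ci_basic hnc hZ
  have ha : a ∉ Subgroup.center G := fun h => has (Subgroup.mem_center_iff.mp h s)
  have hne : a * s * a⁻¹ * s⁻¹ ≠ 1 := by
    intro h
    apply has
    calc s * a = (a * s * a⁻¹ * s⁻¹)⁻¹ * (a * s) := by group
      _ = a * s := by rw [h, inv_one, one_mul]
  have hm := p4_comm_mem_zpowers a (hcc a) (ci_centralizer_index hZ a ha) s hne t
  obtain ⟨i, hi⟩ := (Submonoid.mem_powers_iff _ _).mp (mem_powers_iff_mem_zpowers.mpr hm)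
  obtain ⟨f, hf⟩ := p4_comm_hom a (hcc a)
  have hker : (s ^ i)⁻¹ * t ∈ f.ker := by
    rw [MonoidHom.mem_ker, map_mul, map_inv, map_pow]
    apply Subtype.ext
    rw [Subgroup.coe_mul, Subgroup.coe_inv, Subgroup.coe_pow, hf, hf, hi, inv_mul_cancel]
    rfl
  rw [p4_comm_hom_ker a f hf, Subgroup.mem_centralizer_singleton_iff] at hker
  obtain ⟨j, z, hz, hj⟩ := ci_cent hnc hZ a ha _ hker
  exact ⟨i, j, z, hz, by rw [mul_assoc, ← hj, mul_inv_cancel_left]⟩

theorem g16_aut_pow (c z a₁ a₂ : G)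
    (hZ : ∀ w ∈ Subgroup.center G, w = 1 ∨ w = c ∨ w = z ∨ w = c * z)
    (hcZ : c ∈ Subgroup.center G) (hzZ : z ∈ Subgroup.center G)
    (hc2 : c * c = 1) (hz2 : z * z = 1) (hc1 : c ≠ 1) (hz1 : z ≠ 1) (hzc : z ≠ c)
    (ha1 : a₁ * a₁ = 1) (ha2 : a₂ * a₂ = 1) (hcomm : a₂ * a₁ * a₂⁻¹ * a₁⁻¹ = c)
    (hcall : ∀ g h : G, g * h * g⁻¹ * h⁻¹ = 1 ∨ g * h * g⁻¹ * h⁻¹ = c)
    (hgen : ∀ g : G, ∃ i j : ℕ, ∃ w ∈ Subgroup.center G, g = a₂ ^ i * a₁ ^ j * w)
    (α : MulAut G) : α ^ 4 = 1 := by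
  have hcc := Subgroup.mem_center_iff.mp hcZ
  have ha1i : a₁⁻¹ = a₁ := inv_eq_of_mul_eq_one_right ha1
  have ha2i : a₂⁻¹ = a₂ := inv_eq_of_mul_eq_one_right ha2
  have hsq : a₂ * a₁ * (a₂ * a₁) = c := by
    rw [← hcomm, ha1i, ha2i]; group
  have hw2 : ∀ w ∈ Subgroup.center G, w * w = 1 := by
    intro w hw
    rcases hZ w hw with h | h | h | h
    · rw [h, one_mul]
    · rw [h]; exact hc2
    · rw [h]; exact hz2
    · rw [h]
      calc c * z * (c * z) = c * (z * c) * z := by group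
        _ = c * (c * z) * z := by rw [hcc z]
        _ = (c * c) * (z * z) := by group
        _ = 1 := by rw [hc2, hz2, one_mul]
  have ha1Z : a₁ ∉ Subgroup.center G := by
    intro h
    apply hc1
    rw [← hcomm, Subgroup.mem_center_iff.mp h a₂]
    group
  have ha2Z : a₂ ∉ Subgroup.center G := by
    intro h
    apply hc1
    rw [← hcomm, ← Subgroup.mem_center_iff.mp h a₁]
    group
  have hpw1 : ∀ i : ℕ, a₁ ^ i = 1 ∨ a₁ ^ i = a₁ := by
    intro i
    have h2 : a₁ ^ 2 = 1 := by rw [pow_two]; exact ha1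
    rw [← p4_pow_mod h2 i]
    rcases Nat.mod_two_eq_zero_or_one i with h | h
    · left; rw [h, pow_zero]
    · right; rw [h, pow_one]
  have hpw2 : ∀ i : ℕ, a₂ ^ i = 1 ∨ a₂ ^ i = a₂ := by
    intro i
    have h2 : a₂ ^ 2 = 1 := by rw [pow_two]; exact ha2
    rw [← p4_pow_mod h2 i]
    rcases Nat.mod_two_eq_zero_or_one i with h | h
    · left; rw [h, pow_zero]
    · right; rw [h, pow_one]
  have hcls : ∀ g : G, g * g = 1 → g ∉ Subgroup.center G →
      (∃ w ∈ Subgroup.center G, g = a₁ * w) ∨ (∃ w ∈ Subgroup.center G, g = a₂ * w) := by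
    intro g hg2 hgZ
    obtain ⟨i, j, w, hw, hg⟩ := hgen g
    have hwc := Subgroup.mem_center_iff.mp hw
    rcases hpw2 i with h2 | h2 <;> rcases hpw1 j with h1 | h1
    · exfalso; apply hgZ; rw [hg, h2, h1, one_mul, one_mul]; exact hw
    · left; exact ⟨w, hw, by rw [hg, h2, h1, one_mul]⟩
    · right; exact ⟨w, hw, by rw [hg, h2, h1, mul_one]⟩
    · exfalso
      apply hc1
      rw [hg, h2, h1] at hg2
      have h3 : a₂ * a₁ * w * (a₂ * a₁ * w) = c := by
        calc a₂ * a₁ * w * (a₂ * a₁ * w) = a₂ * a₁ * (w * (a₂ * a₁)) * w := by group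
          _ = a₂ * a₁ * ((a₂ * a₁) * w) * w := by rw [← hwc (a₂ * a₁)]
          _ = (a₂ * a₁ * (a₂ * a₁)) * (w * w) := by group
          _ = c := by rw [hsq, hw2 w hw, mul_one]
      rw [← h3]; exact hg2
  have hαZ : ∀ (β : MulAut G) (w : G), w ∈ Subgroup.center G → β w ∈ Subgroup.center G :=
    fun β w hw => p4_char_center β w hw
  have hαc : ∀ β : MulAut G, β c = c := by
    intro β
    have h1 : β c = β a₂ * β a₁ * (β a₂)⁻¹ * (β a₁)⁻¹ := by
      rw [← hcomm]; simp only [map_mul, map_inv]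
    rcases hcall (β a₂) (β a₁) with h | h
    · exfalso
      apply hc1
      have h2 : β c = 1 := by rw [h1, h]
      exact β.injective (by rw [h2, map_one])
    · rw [h1, h]
  have hαz : ∀ β : MulAut G, β z = z ∨ β z = c * z := by
    intro β
    rcases hZ (β z) (hαZ β z hzZ) with h | h | h | h
    · exfalso; apply hz1; exact β.injective (by rw [h, map_one])
    · exfalso; apply hzc; exact β.injective (by rw [h, hαc β])
    · left; exact h
    · right; exact h
  have hαnZ : ∀ (β : MulAut G) (g : G), g ∉ Subgroup.center G → β g ∉ Subgroup.center G := by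
    intro β g hg h
    apply hg
    have h2 := hαZ β⁻¹ (β g) h
    rwa [MulAut.inv_apply_self] at h2
  have hα1 := hcls (α a₁) (by rw [← map_mul, ha1, map_one]) (hαnZ α a₁ ha1Z)
  have hα2 := hcls (α a₂) (by rw [← map_mul, ha2, map_one]) (hαnZ α a₂ ha2Z)
  have hbad : ∀ u : G, u ∈ Subgroup.center G → a₂ = a₁ * u → False := by
    intro u hu h
    apply hc1
    have h3 := Subgroup.mem_center_iff.mp hu a₁
    rw [← hcomm, h]
    calc a₁ * u * a₁ * (a₁ * u)⁻¹ * a₁⁻¹ = a₁ * (u * a₁) * (a₁ * u)⁻¹ * a₁⁻¹ := by group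
      _ = a₁ * (a₁ * u) * (a₁ * u)⁻¹ * a₁⁻¹ := by rw [← h3]
      _ = 1 := by group
  have hcen : ∀ g : G, α g ∈ Subgroup.center G → g ∈ Subgroup.center G := by
    intro g h
    by_contra hg
    exact hαnZ α g hg h
  have hββ : ∃ w₁ ∈ Subgroup.center G, ∃ w₂ ∈ Subgroup.center G,
      α (α a₁) = a₁ * w₁ ∧ α (α a₂) = a₂ * w₂ := by
    rcases hα1 with ⟨w₁, hw₁, h1⟩ | ⟨w₁, hw₁, h1⟩ <;>
      rcases hα2 with ⟨w₂, hw₂, h2⟩ | ⟨w₂, hw₂, h2⟩
    · exfalso
      have h3 : α (a₁⁻¹ * a₂) ∈ Subgroup.center G := by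
        rw [map_mul, map_inv, h1, h2]
        have e : (a₁ * w₁)⁻¹ * (a₁ * w₂) = w₁⁻¹ * w₂ := by group
        rw [e]; exact mul_mem (inv_mem hw₁) hw₂
      exact hbad _ (hcen _ h3) (by group)
    · exact ⟨w₁ * α w₁, mul_mem hw₁ (hαZ α w₁ hw₁), w₂ * α w₂, mul_mem hw₂ (hαZ α w₂ hw₂),
        by rw [h1, map_mul, h1, mul_assoc], by rw [h2, map_mul, h2, mul_assoc]⟩
    · exact ⟨w₂ * α w₁, mul_mem hw₂ (hαZ α w₁ hw₁), w₁ * α w₂, mul_mem hw₁ (hαZ α w₂ hw₂),
        by rw [h1, map_mul, h2, mul_assoc], by rw [h2, map_mul, h1, mul_assoc]⟩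
    · exfalso
      have h3 : α (a₁⁻¹ * a₂) ∈ Subgroup.center G := by
        rw [map_mul, map_inv, h1, h2]
        have e : (a₂ * w₁)⁻¹ * (a₂ * w₂) = w₁⁻¹ * w₂ := by group
        rw [e]; exact mul_mem (inv_mem hw₁) hw₂
      exact hbad _ (hcen _ h3) (by group)
  have hβZ : ∀ w ∈ Subgroup.center G, α (α w) = w := by
    intro w hw
    have hβz : α (α z) = z := by
      rcases hαz α with h | h
      · rw [h, h]
      · rw [h, map_mul, hαc, h, ← mul_assoc, hc2, one_mul]
    rcases hZ w hw with h | h | h | h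
    · rw [h, map_one, map_one]
    · rw [h, hαc, hαc]
    · rw [h, hβz]
    · rw [h, map_mul, map_mul, hαc, hαc, hβz]
  obtain ⟨w₁, hw₁, w₂, hw₂, hb1, hb2⟩ := hββ
  have h4 : ∀ g : G, α (α (α (α g))) = g := by
    intro g
    obtain ⟨i, j, w, hw, hg⟩ := hgen g
    have e1 : α (α (α (α a₁))) = a₁ := by
      rw [hb1, map_mul, map_mul, hb1, hβZ w₁ hw₁, mul_assoc, hw2 w₁ hw₁, mul_one]
    have e2 : α (α (α (α a₂))) = a₂ := by
      rw [hb2, map_mul, map_mul, hb2, hβZ w₂ hw₂, mul_assoc, hw2 w₂ hw₂, mul_one]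
    have e3 : α (α (α (α w))) = w := by rw [hβZ w hw, hβZ w hw]
    rw [hg]
    simp only [map_mul, map_pow]
    rw [e1, e2, e3]
  ext g
  have e : α ^ 4 = α * α * (α * α) := by
    rw [show (4 : ℕ) = 2 + 2 from rfl, pow_add, pow_two]
  rw [e]
  exact h4 g

theorem d8_iso [Finite G] (hcard : Nat.card G = 8) (a₁ a₂ : G) (ha1 : a₁ * a₁ = 1)
    (ha2 : a₂ * a₂ = 1) (hρ4 : (a₂ * a₁) ^ 4 = 1)
    (hgen : ∀ g : G, g ∈ Subgroup.closure ({a₁, a₂} : Set G)) :
    Nonempty (G ≃* DihedralGroup 4) := by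
  have ha1i : a₁⁻¹ = a₁ := inv_eq_of_mul_eq_one_right ha1
  have ha2i : a₂⁻¹ = a₂ := inv_eq_of_mul_eq_one_right ha2
  obtain ⟨ρ, hρdef⟩ : ∃ ρ : G, ρ = a₂ * a₁ := ⟨_, rfl⟩
  rw [← hρdef] at hρ4
  have hρσ : ρ * a₁ = a₁ * ρ⁻¹ := by
    rw [hρdef, mul_inv_rev, ha1i, ha2i, mul_assoc, ha1, mul_one, ← mul_assoc, ha1, one_mul]
  have hM : ∀ k : ℕ, ρ ^ k * a₁ = a₁ * (ρ ^ k)⁻¹ := by
    intro k
    induction k with
    | zero => simp
    | succ k ih =>
      calc ρ ^ (k + 1) * a₁ = ρ ^ k * (ρ * a₁) := by rw [pow_succ, mul_assoc]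
        _ = ρ ^ k * a₁ * ρ⁻¹ := by rw [hρσ, mul_assoc]
        _ = a₁ * (ρ ^ k)⁻¹ * ρ⁻¹ := by rw [ih]
        _ = a₁ * (ρ ^ (k + 1))⁻¹ := by rw [pow_succ', mul_inv_rev, mul_assoc]
  have hL : ∀ i j : ZMod 4, ρ ^ (i + j).val = ρ ^ i.val * ρ ^ j.val := by
    intro i j
    rw [ZMod.val_add, ← pow_add]
    exact p4_pow_mod hρ4 _
  have hsub : ∀ i j : ZMod 4, (ρ ^ i.val)⁻¹ * ρ ^ j.val = ρ ^ (j - i).val := by
    intro i j
    have h := hL i (j - i)
    rw [add_sub_cancel] at h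
    rw [h, inv_mul_cancel_left]
  let f : DihedralGroup 4 → G := fun d =>
    match d with
    | DihedralGroup.r i => ρ ^ i.val
    | DihedralGroup.sr i => a₁ * ρ ^ i.val
  have hf : ∀ x y : DihedralGroup 4, f (x * y) = f x * f y := by
    intro x y
    rcases x with i | i <;> rcases y with j | j
    · show ρ ^ (i + j).val = ρ ^ i.val * ρ ^ j.val
      exact hL i j
    · show a₁ * ρ ^ (j - i).val = ρ ^ i.val * (a₁ * ρ ^ j.val)
      rw [← mul_assoc, hM, mul_assoc, hsub]
    · show a₁ * ρ ^ (i + j).val = a₁ * ρ ^ i.val * ρ ^ j.val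
      rw [hL, mul_assoc]
    · show ρ ^ (j - i).val = a₁ * ρ ^ i.val * (a₁ * ρ ^ j.val)
      rw [mul_assoc, ← mul_assoc (ρ ^ i.val), hM, mul_assoc, hsub, ← mul_assoc, ha1, one_mul]
  let φ : DihedralGroup 4 →* G := MonoidHom.mk' f hf
  have hsurj : Function.Surjective φ := by
    intro g
    have hle : Subgroup.closure ({a₁, a₂} : Set G) ≤ φ.range := by
      rw [Subgroup.closure_le]
      intro x hx
      rcases hx with hx | hx
      · refine ⟨DihedralGroup.sr 0, ?_⟩
        show a₁ * ρ ^ (0 : ZMod 4).val = x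
        rw [ZMod.val_zero, pow_zero, mul_one, hx]
      · have hx' : x = a₂ := hx
        have h1 : (1 : ZMod 4).val = 1 := rfl
        have e : x = φ (DihedralGroup.r 1) * φ (DihedralGroup.sr 0) := by
          show x = ρ ^ (1 : ZMod 4).val * (a₁ * ρ ^ (0 : ZMod 4).val)
          rw [ZMod.val_zero, pow_zero, mul_one, h1, pow_one, hρdef, mul_assoc, ha1, mul_one, hx']
        rw [e]
        exact φ.range.mul_mem ⟨_, rfl⟩ ⟨_, rfl⟩
    exact hle (hgen g)
  have hbij : Function.Bijective φ :=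
    (Nat.bijective_iff_surjective_and_card φ).mpr
      ⟨hsurj, by rw [DihedralGroup.nat_card, hcard]⟩
  exact ⟨(MulEquiv.ofBijective φ hbij).symm⟩

theorem ci_extraspecial [Finite G] {p : ℕ} [Fact p.Prime] (hG : IsPGroup p G)
    (hnc : ¬ ∀ a b : G, a * b = b * a) (hZ : (Subgroup.center G).index = p ^ 2)
    (c : G) (hc : Subgroup.center G = Subgroup.zpowers c) (hcp : c ^ p = 1) (hc1 : c ≠ 1)
    (hcc : ∃ x w : G, c = x * w * x⁻¹ * w⁻¹) :
    IsExtraspecial p G ∧ Nat.card G = p ^ 3 := by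
  obtain ⟨hpow, hcomm, hqcomm⟩ := ci_basic hnc hZ
  have hZcard : Nat.card (Subgroup.center G) = p := by
    rw [hc, Nat.card_zpowers]; exact orderOf_eq_prime hcp hc1
  obtain ⟨x, w, hxw⟩ := hcc
  have hcF : c ∈ frattini G := by
    have h := p3_commutator_mem_frattini hG x w
    rw [commutatorElement_def] at h
    rw [hxw]; exact h
  have hcC : c ∈ commutator G := by
    rw [commutator_def, hxw, ← commutatorElement_def]
    exact Subgroup.commutator_mem_commutator (Subgroup.mem_top x) (Subgroup.mem_top w)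
  refine ⟨⟨⟨hG, ?_, ?_⟩, hZcard⟩, ?_⟩
  · apply le_antisymm
    · have h := Cfsg.Agent.Helper14.frattini_le_ker_of_elementary (p := p)
        (QuotientGroup.mk' (Subgroup.center G)) hqcomm
        (fun a => by
          rw [← map_pow]
          exact (QuotientGroup.eq_one_iff _).mpr (hpow a))
      rwa [QuotientGroup.ker_mk'] at h
    · rw [hc, Subgroup.zpowers_le]; exact hcF
  · apply le_antisymm
    · rw [commutator_def, Subgroup.commutator_le]
      intro a _ b _
      rw [commutatorElement_def]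
      exact hcomm a b
    · rw [hc, Subgroup.zpowers_le]; exact hcC
  · have h := Subgroup.card_mul_index (Subgroup.center G)
    rw [hZcard, hZ] at h
    rw [← h]; ring

theorem ci_exp_odd [Finite G] {p : ℕ} [Fact p.Prime] (hp2 : p ≠ 2)
    (hnc : ¬ ∀ a b : G, a * b = b * a) (hZ : (Subgroup.center G).index = p ^ 2)
    (hZp : ∀ z ∈ Subgroup.center G, z ^ p = 1) (a₁ a₂ : G) (h1 : a₁ ^ p = 1) (h2 : a₂ ^ p = 1)
    (hne : a₂ * a₁ ≠ a₁ * a₂) (g : G) : g ^ p = 1 := by
  have hpp : p.Prime := Fact.out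
  obtain ⟨hpow, hcomm, -⟩ := ci_basic hnc hZ
  obtain ⟨i, j, z, hz, hg⟩ := ci_gen hnc hZ a₁ a₂ hne g
  have hz' := Subgroup.mem_center_iff.mp hz
  have hmul : ∀ a b : G, (a * b) ^ p = a ^ p * b ^ p := fun a b => by
    have he : b⁻¹ * a⁻¹ * b * a ∈ Subgroup.center G := by
      have e : b⁻¹ * a⁻¹ * b⁻¹⁻¹ * a⁻¹⁻¹ = b⁻¹ * a⁻¹ * b * a := by rw [inv_inv, inv_inv]
      rw [← e]; exact hcomm b⁻¹ a⁻¹
    have hec := Subgroup.mem_center_iff.mp he
    exact Cfsg.Agent.Helper23.mul_pow_prime_of_central hpp hp2 (e := b⁻¹ * a⁻¹ * b * a)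
      (by group) (show Commute _ a from (hec a).symm) (show Commute _ b from (hec b).symm)
      (hZp _ he)
  rw [hg, hmul, hmul, hZp z hz, mul_one, ← pow_mul, ← pow_mul, mul_comm i p, mul_comm j p,
    pow_mul, pow_mul, h1, h2, one_pow, one_pow, one_mul]

end CI1

end Cfsg.Agent.Helper26
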