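import Mathlib
import Cfsg.Agent.Helper26.FusNormal
import Cfsg.Agent.Helper26.OrderP4

set_option autoImplicit false

namespace Cfsg.Agent.Helper26

open Cfsg

section CI2

variable {P : Type*} [Group P]

/-- the stabiliser of a three-step chain `1 ≤ A ≤ B ≤ P`. -/
def stab3 (A B : Subgroup P) (hAB : A ≤ B) : Subgroup (MulAut P) where
  carrier := {w | (∀ x ∈ A, w x = x) ∧ (∀ x ∈ B, x⁻¹ * w x ∈ A) ∧ ∀ x : P, x⁻¹ * w x ∈ B}
  one_mem' := ⟨fun x _ => rfl, fun x _ => by simp, fun x => by simp⟩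
  mul_mem' := by
    rintro u v ⟨hu1, hu2, hu3⟩ ⟨hv1, hv2, hv3⟩
    refine ⟨fun x hx => ?_, fun x hx => ?_, fun x => ?_⟩
    · show u (v x) = x
      rw [hv1 x hx, hu1 x hx]
    · have hvx : v x ∈ B := by
        have e : v x = x * (x⁻¹ * v x) := by group
        rw [e]; exact B.mul_mem hx (hAB (hv2 x hx))
      have e : x⁻¹ * (u * v) x = (x⁻¹ * v x) * ((v x)⁻¹ * u (v x)) := by
        show x⁻¹ * u (v x) = _
        group
      rw [e]; exact A.mul_mem (hv2 x hx) (hu2 _ hvx)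
    · have e : x⁻¹ * (u * v) x = (x⁻¹ * v x) * ((v x)⁻¹ * u (v x)) := by
        show x⁻¹ * u (v x) = _
        group
      rw [e]; exact B.mul_mem (hv3 x) (hu3 _)
  inv_mem' := by
    rintro u ⟨hu1, hu2, hu3⟩
    have h1 : ∀ x ∈ A, u⁻¹ x = x := by
      intro x hx
      have h : u⁻¹ (u x) = u⁻¹ x := congrArg (fun z => u⁻¹ z) (hu1 x hx)
      rw [MulAut.inv_apply_self] at h
      exact h.symm
    have h2 : ∀ x ∈ B, u⁻¹ x = x * (x⁻¹ * u x)⁻¹ := by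
      intro x hx
      have ha := hu2 x hx
      have e : u (x * (x⁻¹ * u x)⁻¹) = x := by
        rw [map_mul, map_inv, hu1 _ ha]; group
      have h : u⁻¹ (u (x * (x⁻¹ * u x)⁻¹)) = u⁻¹ x := congrArg (fun z => u⁻¹ z) e
      rw [MulAut.inv_apply_self] at h
      exact h.symm
    refine ⟨h1, fun x hx => ?_, fun x => ?_⟩
    · rw [h2 x hx]
      have e : x⁻¹ * (x * (x⁻¹ * u x)⁻¹) = (x⁻¹ * u x)⁻¹ := by group
      rw [e]; exact A.inv_mem (hu2 x hx)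
    · have hb := hu3 x
      have hb1 : u⁻¹ ((x⁻¹ * u x)⁻¹) ∈ B := by
        rw [h2 _ (B.inv_mem hb)]
        exact B.mul_mem (B.inv_mem hb) (B.inv_mem (hAB (hu2 _ (B.inv_mem hb))))
      have e : u (x * u⁻¹ ((x⁻¹ * u x)⁻¹)) = x := by
        rw [map_mul, MulAut.apply_inv_self]; group
      have h3 : u⁻¹ (u (x * u⁻¹ ((x⁻¹ * u x)⁻¹))) = u⁻¹ x := congrArg (fun z => u⁻¹ z) e
      rw [MulAut.inv_apply_self] at h3
      rw [← h3]
      have e2 : x⁻¹ * (x * u⁻¹ ((x⁻¹ * u x)⁻¹)) = u⁻¹ ((x⁻¹ * u x)⁻¹) := by group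
      rw [e2]; exact hb1

theorem mem_stab3 {A B : Subgroup P} {hAB : A ≤ B} {w : MulAut P} :
    w ∈ stab3 A B hAB ↔
      (∀ x ∈ A, w x = x) ∧ (∀ x ∈ B, x⁻¹ * w x ∈ A) ∧ ∀ x : P, x⁻¹ * w x ∈ B := Iff.rfl

theorem stab3_isPGroup [Finite P] {p : ℕ} [Fact p.Prime] (hP : IsPGroup p P) (A B : Subgroup P)
    (hAB : A ≤ B) : IsPGroup p (stab3 A B hAB) := by
  obtain ⟨n, hn⟩ := IsPGroup.iff_card.mp hP
  rintro ⟨w, hw⟩
  have hw0 := mem_stab3.mp hw
  refine ⟨n + n, Subtype.ext ?_⟩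
  rw [Subgroup.coe_pow]
  show w ^ (p ^ (n + n)) = 1
  have hcard : ∀ x : P, x ^ (p ^ n) = 1 := fun x => by rw [← hn]; exact pow_card_eq_one'
  have h1 : ∀ x ∈ B, (w ^ (p ^ n)) x = x := by
    intro x hx
    have h := aut_pow_apply_of_fixed w x (x⁻¹ * w x) (by group) (hw0.1 _ (hw0.2.1 x hx)) (p ^ n)
    rw [h, hcard, mul_one]
  have hw' := mem_stab3.mp ((stab3 A B hAB).pow_mem hw (p ^ n))
  have h2 : (w ^ (p ^ n)) ^ (p ^ n) = 1 := by
    ext x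
    have h := aut_pow_apply_of_fixed (w ^ (p ^ n)) x (x⁻¹ * (w ^ (p ^ n)) x) (by group)
      (h1 _ (hw'.2.2 x)) (p ^ n)
    rw [h, hcard, mul_one]; rfl
  rw [pow_add, pow_mul]; exact h2

/-- "transvection with centre `w`". -/
def Trv (u : MulAut P) (w : P) : Prop := (∀ a : P, ∃ k : ℕ, u a = a * w ^ k) ∧ u w = w

theorem trv_fix_pow {u : MulAut P} {w : P} (h : Trv u w) (k : ℕ) : u (w ^ k) = w ^ k := by
  rw [map_pow, h.2]

theorem trv_pow {u : MulAut P} {w : P} (h : Trv u w) (n : ℕ) : Trv (u ^ n) w := by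
  refine ⟨fun a => ?_, ?_⟩
  · obtain ⟨k, hk⟩ := h.1 a
    refine ⟨k * n, ?_⟩
    rw [aut_pow_apply_of_fixed u a (w ^ k) hk (trv_fix_pow h k) n, pow_mul]
  · have h1 := aut_pow_apply_of_fixed u w 1 (by rw [mul_one]; exact h.2) (map_one u) n
    rw [h1, one_pow, mul_one]

theorem trv_conj {u : MulAut P} {w : P} (h : Trv u w) (g : MulAut P) :
    Trv (g * u * g⁻¹) (g w) := by
  refine ⟨fun a => ?_, ?_⟩
  · obtain ⟨k, hk⟩ := h.1 (g⁻¹ a)
    refine ⟨k, ?_⟩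
    show g (u (g⁻¹ a)) = a * g w ^ k
    rw [hk, map_mul, map_pow, MulAut.apply_inv_self]
  · show g (u (g⁻¹ (g w))) = g w
    rw [MulAut.inv_apply_self, h.2]

theorem fix_pow_of_fix {u : MulAut P} {b : P} (h : u b = b) (n : ℕ) : (u ^ n) b = b := by
  have h1 := aut_pow_apply_of_fixed u b 1 (by rw [mul_one]; exact h) (map_one u) n
  rw [h1, one_pow, mul_one]

theorem fix_inv_of_fix {u : MulAut P} {b : P} (h : u b = b) : u⁻¹ b = b := by
  have h1 : u⁻¹ (u b) = u⁻¹ b := congrArg (fun z => u⁻¹ z) h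
  rw [MulAut.inv_apply_self] at h1
  exact h1.symm

/-- fixed points of an automorphism. -/
def fixOf (u : MulAut P) : Subgroup P where
  carrier := {b | u b = b}
  one_mem' := map_one u
  mul_mem' := fun {a b} ha hb => by
    have ha' : u a = a := ha
    have hb' : u b = b := hb
    show u (a * b) = a * b
    rw [map_mul, ha', hb']
  inv_mem' := fun {a} ha => by
    have ha' : u a = a := ha
    show u a⁻¹ = a⁻¹
    rw [map_inv, ha']

theorem mem_fixOf {u : MulAut P} {b : P} : b ∈ fixOf u ↔ u b = b := Iff.rfl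

/-- automorphisms fixing a point. -/
def fixAt (b : P) : Subgroup (MulAut P) where
  carrier := {u | u b = b}
  one_mem' := rfl
  mul_mem' := fun {u v} hu hv => by
    have hu' : u b = b := hu
    have hv' : v b = b := hv
    show u (v b) = b
    rw [hv', hu']
  inv_mem' := fun {u} hu => fix_inv_of_fix hu

theorem mem_fixAt {u : MulAut P} {b : P} : u ∈ fixAt b ↔ u b = b := Iff.rfl

theorem trv_key {G : Subgroup (MulAut P)}
    (H : ∀ (A B : Subgroup P) (hAB : A ≤ B) (u v : MulAut P), u ∈ G → v ∈ G →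
        u ∈ stab3 A B hAB → v ∈ stab3 A B hAB → u ≠ 1 → v ∈ Subgroup.zpowers u)
    {u v : MulAut P} {w w' : P} (hu : Trv u w) (hv : Trv v w') (hvw : v w = w) (huG : u ∈ G)
    (hvG : v ∈ G) :
    (u ≠ 1 → v ∈ Subgroup.zpowers u) ∧ (v ≠ 1 → u ∈ Subgroup.zpowers v) := by
  have hAB : Subgroup.zpowers w ≤ Subgroup.zpowers w ⊔ Subgroup.zpowers w' := le_sup_left
  have h1 : u ∈ stab3 (Subgroup.zpowers w) (Subgroup.zpowers w ⊔ Subgroup.zpowers w') hAB := by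
    rw [mem_stab3]
    refine ⟨fun x hx => ?_, fun x _ => ?_, fun x => ?_⟩
    · obtain ⟨n, rfl⟩ := Subgroup.mem_zpowers_iff.mp hx
      rw [map_zpow, hu.2]
    · obtain ⟨k, hk⟩ := hu.1 x
      rw [hk, inv_mul_cancel_left]
      exact Subgroup.pow_mem _ (Subgroup.mem_zpowers w) k
    · obtain ⟨k, hk⟩ := hu.1 x
      rw [hk, inv_mul_cancel_left]
      exact hAB (Subgroup.pow_mem _ (Subgroup.mem_zpowers w) k)
  have h2 : v ∈ stab3 (Subgroup.zpowers w) (Subgroup.zpowers w ⊔ Subgroup.zpowers w') hAB := by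
    have hfix : Subgroup.zpowers w ⊔ Subgroup.zpowers w' ≤ fixOf v :=
      sup_le (by rw [Subgroup.zpowers_le]; exact hvw) (by rw [Subgroup.zpowers_le]; exact hv.2)
    rw [mem_stab3]
    refine ⟨fun x hx => mem_fixOf.mp (hfix (hAB hx)), fun x hx => ?_, fun x => ?_⟩
    · have h3 : v x = x := mem_fixOf.mp (hfix hx)
      rw [h3, inv_mul_cancel]; exact Subgroup.one_mem _
    · obtain ⟨k, hk⟩ := hv.1 x
      rw [hk, inv_mul_cancel_left]
      exact (le_sup_right : Subgroup.zpowers w' ≤ _)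
        (Subgroup.pow_mem _ (Subgroup.mem_zpowers w') k)
  exact ⟨fun hne => H _ _ hAB u v huG hvG h1 h2 hne, fun hne => H _ _ hAB v u hvG huG h2 h1 hne⟩

theorem pow_solve {p : ℕ} [Fact p.Prime] {w : P} (hw : w ^ p = 1) {i : ℕ} (hi : w ^ i ≠ 1)
    (j : ℕ) : ∃ n : ℕ, (w ^ i) ^ n = w ^ j := by
  have hpp : p.Prime := Fact.out
  have hcop : Nat.Coprime i p := by
    rw [Nat.coprime_comm, hpp.coprime_iff_not_dvd]
    rintro ⟨m, rfl⟩
    apply hi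
    rw [pow_mul, hw, one_pow]
  obtain ⟨m, -, hm⟩ := Nat.exists_mul_mod_eq_one_of_coprime hcop hpp.one_lt
  refine ⟨m * j, ?_⟩
  rw [← pow_mul, ← mul_assoc, pow_mul, ← p4_pow_mod hw (i * m), hm, pow_one]

theorem trv_main [Finite P] (hcomm : ∀ a b : P, a * b = b * a) {p : ℕ} [Fact p.Prime]
    (G : Subgroup (MulAut P)) (x : MulAut P) (hxG : x ∈ G) (c : P) (hcp : c ^ p = 1)
    (hx : Trv x c)
    (H : ∀ (A B : Subgroup P) (hAB : A ≤ B) (u v : MulAut P), u ∈ G → v ∈ G →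
        u ∈ stab3 A B hAB → v ∈ stab3 A B hAB → u ≠ 1 → v ∈ Subgroup.zpowers u)
    (g : MulAut P) (hg : g ∈ G) (hgx : g * x * g⁻¹ ∉ Subgroup.zpowers x) :
    ∃ c' : P, c' ^ p = 1 ∧ x c' ≠ c' ∧
      (∀ a : P, x a = a → ∃ k : ℕ, ∀ h ∈ G, x (h (a * c ^ k)) = h (a * c ^ k)) ∧
      (∀ k : ℕ, (∀ h ∈ G, x (h (c ^ k)) = h (c ^ k)) → c ^ k = 1) ∧
      (∀ a : P, ∃ i j : ℕ, ∀ h ∈ G, x (h (a * c ^ i * c' ^ j)) = h (a * c ^ i * c' ^ j)) ∧
      (∀ h ∈ G, (∃ i j : ℕ, h c = c ^ i * c' ^ j) ∧ ∃ i j : ℕ, h c' = c ^ i * c' ^ j) ∧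
      (∃ d ∈ G, d * x = x * d ∧ d c = c⁻¹ ∧ ∀ b : P, (∀ h ∈ G, x (h b) = h b) → d b = b) := by
  have hpp : p.Prime := Fact.out
  haveI : Std.Commutative (α := P) (· * ·) := ⟨hcomm⟩
  have mp : ∀ (a b : P) (n : ℕ), (a * b) ^ n = a ^ n * b ^ n :=
    fun a b n => Commute.mul_pow (hcomm a b) n
  obtain ⟨q, hq⟩ : ∃ q, p = q + 1 := ⟨p - 1, (Nat.sub_add_cancel hpp.pos).symm⟩
  have hinv : ∀ w : P, w ^ p = 1 → ∀ n : ℕ, w ^ n * w ^ (q * n) = 1 := by
    intro w hw n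
    rw [← pow_add, show n + q * n = (q + 1) * n by ring, ← hq, pow_mul, hw, one_pow]
  have hpw : ∀ (w : P), w ^ p = 1 → ∀ k : ℕ, (w ^ k) ^ p = 1 := by
    intro w hw k
    rw [← pow_mul, mul_comm, pow_mul, hw, one_pow]
  obtain ⟨y, hy⟩ : ∃ y : MulAut P, y = g * x * g⁻¹ := ⟨_, rfl⟩
  obtain ⟨c', hc'⟩ : ∃ c' : P, c' = g c := ⟨_, rfl⟩
  have hyG : y ∈ G := by rw [hy]; exact G.mul_mem (G.mul_mem hg hxG) (G.inv_mem hg)
  have hTy : Trv y c' := by rw [hy, hc']; exact trv_conj hx g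
  have hc'p : c' ^ p = 1 := by rw [hc', ← map_pow, hcp, map_one]
  have hynx : y ∉ Subgroup.zpowers x := by rw [hy]; exact hgx
  have hx1 : x ≠ 1 := by
    intro h
    apply hynx
    rw [hy, h, mul_one, mul_inv_cancel]
    exact Subgroup.one_mem _
  have hy1 : y ≠ 1 := fun h => hynx (by rw [h]; exact Subgroup.one_mem _)
  have hxc' : x c' ≠ c' := by
    intro h
    exact hynx ((trv_key H hTy hx h hyG hxG).2 hx1)
  have hyc : y c ≠ c := by
    intro h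
    exact hynx ((trv_key H hx hTy h hxG hyG).1 hx1)
  obtain ⟨i₀, hi₀⟩ := hx.1 c'
  have hci : c ^ i₀ ≠ 1 := by
    intro h; apply hxc'; rw [hi₀, h, mul_one]
  obtain ⟨j₀, hj₀⟩ := hTy.1 c
  have hcj : c' ^ j₀ ≠ 1 := by
    intro h; apply hyc; rw [hj₀, h, mul_one]
  have hconj : ∀ h ∈ G, (∀ b : P, x b = b → y b = b → (h * x * h⁻¹) b = b) ∧
      ∀ a : P, ∃ i j : ℕ, (h * x * h⁻¹) a = a * c ^ i * c' ^ j := by
    intro h hh
    obtain ⟨x₃, hx₃⟩ : ∃ x₃ : MulAut P, x₃ = h * x * h⁻¹ := ⟨_, rfl⟩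
    obtain ⟨c₃, hc₃⟩ : ∃ c₃ : P, c₃ = h c := ⟨_, rfl⟩
    have hx₃G : x₃ ∈ G := by rw [hx₃]; exact G.mul_mem (G.mul_mem hh hxG) (G.inv_mem hh)
    have hT₃ : Trv x₃ c₃ := by rw [hx₃, hc₃]; exact trv_conj hx h
    have hc₃p : c₃ ^ p = 1 := by rw [hc₃, ← map_pow, hcp, map_one]
    rw [← hx₃]
    obtain ⟨k₁, hk₁⟩ := hT₃.1 c
    obtain ⟨k₂, hk₂⟩ := hT₃.1 c'
    by_cases hcase : c₃ ^ k₁ = 1
    · have hx₃c : x₃ c = c := by rw [hk₁, hcase, mul_one]
      have hmem := (trv_key H hx hT₃ hx₃c hxG hx₃G).1 hx1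
      obtain ⟨n, hn⟩ := (Submonoid.mem_powers_iff _ _).mp (mem_powers_iff_mem_zpowers.mpr hmem)
      have hTn : Trv x₃ c := by rw [← hn]; exact trv_pow hx n
      refine ⟨fun b hxb _ => ?_, fun a => ?_⟩
      · rw [← hn]; exact fix_pow_of_fix hxb n
      · obtain ⟨k, hk⟩ := hTn.1 a
        exact ⟨k, 0, by rw [hk, pow_zero, mul_one]⟩
    · obtain ⟨n, hn⟩ := pow_solve hc₃p hcase k₂
      obtain ⟨m, hm⟩ := pow_solve hcp hci (q * n)
      obtain ⟨w, hw⟩ : ∃ w : P, w = c' * c ^ (q * n) := ⟨_, rfl⟩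
      have hxm : (x ^ m) c' = w := by
        rw [aut_pow_apply_of_fixed x c' (c ^ i₀) hi₀ (trv_fix_pow hx i₀) m, hm, hw]
      obtain ⟨t, ht⟩ : ∃ t : MulAut P, t = x ^ m * y * (x ^ m)⁻¹ := ⟨_, rfl⟩
      have htG : t ∈ G := by
        rw [ht]
        exact G.mul_mem (G.mul_mem (G.pow_mem hxG m) hyG) (G.inv_mem (G.pow_mem hxG m))
      have hTt : Trv t w := by
        rw [ht, ← hxm]; exact trv_conj hTy (x ^ m)
      have ht1 : t ≠ 1 := by
        intro h1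
        apply hy1
        have e : y = (x ^ m)⁻¹ * t * (x ^ m) := by rw [ht]; group
        rw [e, h1]; group
      have hx₃w : x₃ w = w := by
        have e1 : (c₃ ^ k₁) ^ n * (c₃ ^ k₁) ^ (q * n) = 1 := hinv _ (hpw _ hc₃p k₁) n
        rw [hw, map_mul, map_pow, hk₂, hk₁, mp, ← hn]
        calc c' * (c₃ ^ k₁) ^ n * (c ^ (q * n) * (c₃ ^ k₁) ^ (q * n))
            = c' * c ^ (q * n) * ((c₃ ^ k₁) ^ n * (c₃ ^ k₁) ^ (q * n)) := by ac_rfl
          _ = c' * c ^ (q * n) := by rw [e1, mul_one]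
      have hmem := (trv_key H hTt hT₃ hx₃w htG hx₃G).1 ht1
      obtain ⟨r, hr⟩ := (Submonoid.mem_powers_iff _ _).mp (mem_powers_iff_mem_zpowers.mpr hmem)
      have hTr : Trv x₃ w := by rw [← hr]; exact trv_pow hTt r
      refine ⟨fun b hxb hyb => ?_, fun a => ?_⟩
      · have htb : t b = b := by
          rw [ht]
          show (x ^ m) (y ((x ^ m)⁻¹ b)) = b
          have h1 : (x ^ m) b = b := fix_pow_of_fix hxb m
          rw [fix_inv_of_fix h1, hyb, h1]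
        rw [← hr]; exact fix_pow_of_fix htb r
      · obtain ⟨k, hk⟩ := hTr.1 a
        refine ⟨q * n * k, k, ?_⟩
        rw [hk, hw, mp, ← pow_mul]
        ac_rfl
  have hK : ∀ b : P, x b = b → y b = b → ∀ h ∈ G, x (h b) = h b := by
    intro b hxb hyb h hh
    have h1 := (hconj h⁻¹ (G.inv_mem hh)).1 b hxb hyb
    rw [inv_inv] at h1
    have h2 : h⁻¹ (x (h b)) = b := h1
    have h3 := congrArg h h2
    rw [MulAut.apply_inv_self] at h3
    exact h3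
  have hKy : ∀ b : P, (∀ h ∈ G, x (h b) = h b) → x b = b ∧ y b = b := by
    intro b hb
    refine ⟨hb 1 G.one_mem, ?_⟩
    have h1 := hb g⁻¹ (G.inv_mem hg)
    rw [hy]
    show g (x (g⁻¹ b)) = b
    rw [h1, MulAut.apply_inv_self]
  have hA1 : ∀ a : P, x a = a → ∃ k : ℕ, ∀ h ∈ G, x (h (a * c ^ k)) = h (a * c ^ k) := by
    intro a hxa
    obtain ⟨m, hm⟩ := hTy.1 a
    obtain ⟨n, hn⟩ := pow_solve hc'p hcj m
    refine ⟨q * n, hK _ ?_ ?_⟩
    · rw [map_mul, hxa, trv_fix_pow hx]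
    · have e1 : (c' ^ j₀) ^ n * (c' ^ j₀) ^ (q * n) = 1 := hinv _ (hpw _ hc'p j₀) n
      rw [map_mul, map_pow, hm, hj₀, mp, ← hn]
      calc a * (c' ^ j₀) ^ n * (c ^ (q * n) * (c' ^ j₀) ^ (q * n))
          = a * c ^ (q * n) * ((c' ^ j₀) ^ n * (c' ^ j₀) ^ (q * n)) := by ac_rfl
        _ = a * c ^ (q * n) := by rw [e1, mul_one]
  have hA2 : ∀ k : ℕ, (∀ h ∈ G, x (h (c ^ k)) = h (c ^ k)) → c ^ k = 1 := by
    intro k hk
    have h1 := (hKy _ hk).2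
    rw [map_pow, hj₀, mp] at h1
    have h2 : (c' ^ j₀) ^ k = 1 := mul_left_cancel (h1.trans (mul_one _).symm)
    have ho : orderOf (c' ^ j₀) = p := orderOf_eq_prime (hpw _ hc'p j₀) hcj
    have hd : p ∣ k := by rw [← ho]; exact orderOf_dvd_of_pow_eq_one h2
    obtain ⟨r, rfl⟩ := hd
    rw [pow_mul, hcp, one_pow]
  have hA4 : ∀ a : P, ∃ i j : ℕ, ∀ h ∈ G,
      x (h (a * c ^ i * c' ^ j)) = h (a * c ^ i * c' ^ j) := by
    intro a
    obtain ⟨k₀, hk₀⟩ := hx.1 a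
    obtain ⟨n, hn⟩ := pow_solve hcp hci k₀
    have hfix : x (a * c' ^ (q * n)) = a * c' ^ (q * n) := by
      have e1 : (c ^ i₀) ^ n * (c ^ i₀) ^ (q * n) = 1 := hinv _ (hpw _ hcp i₀) n
      rw [map_mul, map_pow, hk₀, hi₀, mp, ← hn]
      calc a * (c ^ i₀) ^ n * (c' ^ (q * n) * (c ^ i₀) ^ (q * n))
          = a * c' ^ (q * n) * ((c ^ i₀) ^ n * (c ^ i₀) ^ (q * n)) := by ac_rfl
        _ = a * c' ^ (q * n) := by rw [e1, mul_one]
    obtain ⟨k, hk⟩ := hA1 _ hfix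
    refine ⟨k, q * n, ?_⟩
    have e : a * c ^ k * c' ^ (q * n) = a * c' ^ (q * n) * c ^ k := by ac_rfl
    rw [e]; exact hk
  have hA5c : ∀ h ∈ G, ∃ i j : ℕ, h c = c ^ i * c' ^ j := by
    intro h hh
    obtain ⟨n, hn⟩ := pow_solve hcp hci 1
    have ha₀ : x (c' ^ n) = c' ^ n * c := by
      rw [map_pow, hi₀, mp, hn, pow_one]
    obtain ⟨i, j, hij⟩ := (hconj h hh).2 (h (c' ^ n))
    have e : (h * x * h⁻¹) (h (c' ^ n)) = h (c' ^ n) * h c := by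
      show h (x (h⁻¹ (h (c' ^ n)))) = _
      rw [MulAut.inv_apply_self, ha₀, map_mul]
    rw [e, mul_assoc] at hij
    exact ⟨i, j, mul_left_cancel hij⟩
  have hA5 : ∀ h ∈ G, (∃ i j : ℕ, h c = c ^ i * c' ^ j) ∧ ∃ i j : ℕ, h c' = c ^ i * c' ^ j := by
    intro h hh
    refine ⟨hA5c h hh, ?_⟩
    obtain ⟨i, j, hij⟩ := hA5c (h * g) (G.mul_mem hh hg)
    refine ⟨i, j, ?_⟩
    rw [← hij, hc']; rfl
  have hA6 : ∃ d ∈ G, d * x = x * d ∧ d c = c⁻¹ ∧
      ∀ b : P, (∀ h ∈ G, x (h b) = h b) → d b = b := by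
    obtain ⟨a₀, ha₀⟩ := pow_solve hcp hci 1
    obtain ⟨b₀, hb₀⟩ := pow_solve hc'p hcj q
    obtain ⟨X, hX⟩ : ∃ X : MulAut P, X = x ^ a₀ := ⟨_, rfl⟩
    obtain ⟨Y, hY⟩ : ∃ Y : MulAut P, Y = y ^ b₀ := ⟨_, rfl⟩
    have hXc : X c = c := by rw [hX]; exact (trv_pow hx a₀).2
    have hXc' : X c' = c' * c := by
      rw [hX, aut_pow_apply_of_fixed x c' (c ^ i₀) hi₀ (trv_fix_pow hx i₀) a₀, ha₀, pow_one]
    have hYc' : Y c' = c' := by rw [hY]; exact (trv_pow hTy b₀).2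
    have hYc : Y c = c * c' ^ q := by
      rw [hY, aut_pow_apply_of_fixed y c (c' ^ j₀) hj₀ (trv_fix_pow hTy j₀) b₀, hb₀]
    have hcq : c * c ^ q = 1 := by rw [← pow_succ', ← hq, hcp]
    have hc'q : c' * c' ^ q = 1 := by rw [← pow_succ', ← hq, hc'p]
    have hcq' : c ^ q = c⁻¹ := eq_inv_of_mul_eq_one_right hcq
    obtain ⟨T, hT⟩ : ∃ T : MulAut P, T = X * Y * X := ⟨_, rfl⟩
    have hTc : T c = c' ^ q := by
      rw [hT]
      show X (Y (X c)) = c' ^ q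
      rw [hXc, hYc, map_mul, map_pow, hXc, hXc', mp]
      calc c * (c' ^ q * c ^ q) = (c * c ^ q) * c' ^ q := by ac_rfl
        _ = c' ^ q := by rw [hcq, one_mul]
    have hTc' : T c' = c := by
      rw [hT]
      show X (Y (X c')) = c
      rw [hXc', map_mul, hYc', hYc, map_mul, map_mul, map_pow, hXc, hXc', mp]
      calc c' * c * (c * (c' ^ q * c ^ q)) = (c' * c' ^ q) * (c * c ^ q) * c := by ac_rfl
        _ = c := by rw [hcq, hc'q, one_mul, one_mul]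
    have hdc : T (T c) = c⁻¹ := by
      rw [hTc, map_pow, hTc', hcq']
    have hdc' : T (T c') = c' ^ q := by
      rw [hTc', hTc]
    have hTG : T ∈ G := by
      rw [hT, hX, hY]
      exact G.mul_mem (G.mul_mem (G.pow_mem hxG _) (G.pow_mem hyG _)) (G.pow_mem hxG _)
    have hdfix : ∀ b : P, (∀ h ∈ G, x (h b) = h b) → T (T b) = b := by
      intro b hb
      obtain ⟨hxb, hyb⟩ := hKy b hb
      have hXb : X b = b := by rw [hX]; exact fix_pow_of_fix hxb a₀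
      have hYb : Y b = b := by rw [hY]; exact fix_pow_of_fix hyb b₀
      have hTb : T b = b := by
        rw [hT]; show X (Y (X b)) = b; rw [hXb, hYb, hXb]
      rw [hTb, hTb]
    have hE : ∀ a : P, T (T (x a)) = x (T (T a)) := by
      intro a
      obtain ⟨i, j, hij⟩ := hA4 a
      have hb := hdfix _ hij
      have hxb : x (a * c ^ i * c' ^ j) = a * c ^ i * c' ^ j := (hKy _ hij).1
      have e1 : T (T (x c)) = x (T (T c)) := by
        rw [hx.2, hdc, map_inv, hx.2]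
      have e2 : T (T (x c')) = x (T (T c')) := by
        have l : T (T (x c')) = c' ^ q * (c ^ q) ^ i₀ := by
          rw [hi₀, map_mul, map_mul, map_pow, map_pow, hdc', hdc, hcq']
        have r : x (T (T c')) = c' ^ q * (c ^ q) ^ i₀ := by
          rw [hdc', map_pow, hi₀, mp, ← pow_mul, ← pow_mul, mul_comm i₀ q]
        exact l.trans r.symm
      let φ₁ : P →* P := (T.toMonoidHom.comp T.toMonoidHom).comp x.toMonoidHom
      let φ₂ : P →* P := x.toMonoidHom.comp (T.toMonoidHom.comp T.toMonoidHom)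
      have hc_mem : c ∈ MonoidHom.eqLocus φ₁ φ₂ := e1
      have hc'_mem : c' ∈ MonoidHom.eqLocus φ₁ φ₂ := e2
      have hb_mem : a * c ^ i * c' ^ j ∈ MonoidHom.eqLocus φ₁ φ₂ := by
        show T (T (x (a * c ^ i * c' ^ j))) = x (T (T (a * c ^ i * c' ^ j)))
        rw [hxb, hb, hxb]
      have ha_mem : a ∈ MonoidHom.eqLocus φ₁ φ₂ := by
        have e : a = (a * c ^ i * c' ^ j) * (c' ^ j)⁻¹ * (c ^ i)⁻¹ := by group
        rw [e]
        exact mul_mem (mul_mem hb_mem (inv_mem (pow_mem hc'_mem j))) (inv_mem (pow_mem hc_mem i))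
      exact ha_mem
    refine ⟨T * T, G.mul_mem hTG hTG, ?_, hdc, hdfix⟩
    ext a
    exact hE a
  exact ⟨c', hc'p, hxc', hA1, hA2, hA4, hA5, hA6⟩

end CI2

end Cfsg.Agent.Helper26
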