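import Mathlib
import Cfsg.Agent.Helper26.FusNormal3

set_option autoImplicit false

namespace Cfsg.Agent.Helper26

open Cfsg Cfsg.FusionSystem

/-- Fixed points of a group of automorphisms. -/
def fixedSub {V : Type*} [Group V] (A : Subgroup (MulAut V)) : Subgroup V where
  carrier := {v | ∀ a ∈ A, a v = v}
  one_mem' := fun a _ => map_one a
  mul_mem' := fun hx hy a ha => by rw [map_mul, hx a ha, hy a ha]
  inv_mem' := fun hx a ha => by rw [map_inv, hx a ha]

theorem mem_fixedSub {V : Type*} [Group V] (A : Subgroup (MulAut V)) (v : V) :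
    v ∈ fixedSub A ↔ ∀ a ∈ A, a v = v := Iff.rfl

open scoped IsMulCommutative in
/-- Coprime action on an abelian group: `V = C_V(A) × [V, A]`. -/
theorem coprime_abelian_decomp {V : Type*} [Group V] [IsMulCommutative V] [Finite V]
    (A : Subgroup (MulAut V)) (hcop : (Nat.card A).Coprime (Nat.card V)) (Comm : Subgroup V)
    (hComm1 : Comm ≤ Subgroup.closure {y | ∃ a ∈ A, ∃ v : V, y = v⁻¹ * a v})
    (hComm2 : ∀ a ∈ A, ∀ v : V, v⁻¹ * a v ∈ Comm) :
    fixedSub A ⊓ Comm = ⊥ ∧ fixedSub A ⊔ Comm = ⊤ := by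
  classical
  letI : Fintype A := Fintype.ofFinite A
  obtain ⟨τ, hτ⟩ : ∃ τ : V →* V, ∀ v, τ v = ∏ a : A, (a : MulAut V) v :=
    ⟨∏ a : A, ((a : MulAut V) : V ≃* V).toMonoidHom, fun v => by
      rw [MonoidHom.finsetProd_apply]; rfl⟩
  have hfix : ∀ v, τ v ∈ fixedSub A := by
    intro v b hb
    rw [hτ, map_prod]
    exact Fintype.prod_equiv (Equiv.mulLeft (⟨b, hb⟩ : A)) _ _ (fun a => rfl)
  have hpow : ∀ v ∈ fixedSub A, τ v = v ^ Nat.card A := by
    intro v hv
    rw [hτ, Finset.prod_congr rfl (fun a _ => hv a.1 a.2), Finset.prod_const, Finset.card_univ,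
      Nat.card_eq_fintype_card]
  have hτa : ∀ a ∈ A, ∀ v, τ (a v) = τ v := by
    intro a ha v
    rw [hτ, hτ]
    exact Fintype.prod_equiv (Equiv.mulRight (⟨a, ha⟩ : A)) (fun b => (b : MulAut V) (a v))
      (fun b => (b : MulAut V) v) (fun b => rfl)
  have hker : Comm ≤ τ.ker := by
    refine hComm1.trans ((Subgroup.closure_le _).2 ?_)
    rintro _ ⟨a, ha, v, rfl⟩
    show τ (v⁻¹ * a v) = 1
    rw [map_mul, map_inv, hτa a ha v, inv_mul_cancel]
  have hdiv : ∀ v, v ^ Nat.card A * (τ v)⁻¹ ∈ Comm := by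
    intro v
    have e : v ^ Nat.card A * (τ v)⁻¹ = ∏ a : A, (v⁻¹ * (a : MulAut V) v)⁻¹ := by
      rw [hτ, ← Finset.prod_inv_distrib, Nat.card_eq_fintype_card, ← Finset.card_univ,
        ← Finset.prod_const, ← Finset.prod_mul_distrib]
      refine Finset.prod_congr rfl (fun a _ => ?_)
      rw [mul_inv_rev, inv_inv]
      exact mul_comm _ _
    rw [e]
    exact Subgroup.prod_mem _ (fun a _ => Subgroup.inv_mem _ (hComm2 a a.2 v))
  constructor
  · rw [Subgroup.eq_bot_iff_forall]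
    rintro v ⟨hv1, hv2⟩
    have h1 : v ^ Nat.card A = 1 := by rw [← hpow v hv1]; exact hker hv2
    have h2 : orderOf v ∣ Nat.card A := orderOf_dvd_of_pow_eq_one h1
    have h3 : orderOf v ∣ Nat.card V := orderOf_dvd_natCard v
    have h4 : orderOf v = 1 := Nat.Coprime.eq_one_of_dvd (Nat.Coprime.coprime_dvd_left h2 hcop) h3
    exact orderOf_eq_one_iff.1 h4
  · rw [eq_top_iff]
    intro v _
    have key : ∀ w : V, w ^ Nat.card A ∈ fixedSub A ⊔ Comm := by
      intro w
      have e : w ^ Nat.card A = τ w * (w ^ Nat.card A * (τ w)⁻¹) := by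
        rw [mul_comm (w ^ Nat.card A), mul_inv_cancel_left]
      rw [e]
      exact Subgroup.mul_mem _ (Subgroup.mem_sup_left (hfix w)) (Subgroup.mem_sup_right (hdiv w))
    by_cases hV : Nat.card V = 1
    · have : v = 1 := by
        have := orderOf_dvd_natCard v
        rw [hV, Nat.dvd_one] at this
        exact orderOf_eq_one_iff.1 this
      rw [this]; exact Subgroup.one_mem _
    · have hV1 : 1 < Nat.card V := by
        have := Nat.card_pos (α := V)
        omega
      obtain ⟨k, -, hk⟩ := Nat.exists_mul_mod_eq_one_of_coprime hcop hV1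
      have e : v = (v ^ k) ^ Nat.card A := by
        rw [← pow_mul, mul_comm, ← pow_mod_natCard, hk, pow_one]
      rw [e]; exact key _

variable {Ω : Type*} [Group Ω] {S : Subgroup Ω}

/-- In a saturated system over an abelian `S`, every map extends to an element of `Aut_F(S)`. -/
theorem abelian_extend {p : ℕ} [Fact p.Prime] [Finite S] (hS : IsPGroup p S) (F : FusionSystem S)
    (hF : F.IsSaturated p) (hab : ∀ x ∈ S, ∀ y ∈ S, x * y = y * x) :
    ∀ (P : Subgroup Ω), P ≤ S → ∀ (φ : P →* Ω), φ ∈ F.Hom P →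
      ∃ α ∈ F.autGroup S, ∀ (x : P) (hx : (x : Ω) ∈ S), φ x = ((α ⟨x, hx⟩ : S) : Ω) := by
  have hconj : ∀ g ∈ S, ∀ x ∈ S, g * x * g⁻¹ = x := by
    intro g hg x hx
    rw [hab g hg x hx]; simp
  have hcent : ∀ R : Subgroup Ω, R ≤ S → centralizerIn S R = S := by
    intro R hR
    refine le_antisymm inf_le_left (fun g hg => ?_)
    exact mem_centralizerIn_iff.2 ⟨hg, fun x hx => hab x (hR hx) g hg⟩
  intro P hPS φ hφ
  obtain ⟨e, he, hex⟩ := exists_iso_of_hom F hφ rfl
  have hQS : φ.range ≤ S := he.le_right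
  have hfc : F.IsFullyCentralized φ.range := by
    refine ⟨hQS, fun Q' hQ' => ?_⟩
    rw [hcent _ (isConj_le_right F hQ'), hcent _ hQS]
  have hrec := sat_receptive_of_fullyCentralized hS F hF hfc
  obtain ⟨χ, hχ, hχe⟩ := receptive_ext F hrec he
  have hSM : S ≤ extender S P (φ.range.subtype.comp e.toMonoidHom) := by
    intro g hg
    rw [mem_extender_iff']
    refine ⟨hg, ?_, 1, S.one_mem, fun x y hy => ?_⟩
    · rw [Subgroup.mem_normalizer_iff]
      intro h
      constructor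
      · intro hh
        rw [hconj g hg h (hPS hh)]; exact hh
      · intro hh
        have h2 : g⁻¹ * (g * h * g⁻¹) * g = g * h * g⁻¹ := by
          have := hconj g⁻¹ (S.inv_mem hg) _ (hPS hh)
          rwa [inv_inv] at this
        have h3 : h = g * h * g⁻¹ := by
          calc h = g⁻¹ * (g * h * g⁻¹) * g := by group
            _ = g * h * g⁻¹ := h2
        rw [h3]; exact hh
    · have : y = x := Subtype.ext (hy.trans (hconj g hg x (hPS x.2)))
      rw [this]; simp
  have hχS := fs_restrict F hSM hχ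
  obtain ⟨a, ha, hax⟩ := exists_iso_of_hom_of_card F hχS (fun x => (F.le_of_mem hχS).2 x) le_rfl
  refine ⟨a, (mem_autGroup_iff F le_rfl a).2 ha, fun x hx => ?_⟩
  rw [hax]
  show φ x = χ ⟨x, hSM hx⟩
  rw [hχe x (hSM hx), hex]

theorem fullyNormalized_self [Finite S] (F : FusionSystem S) : F.IsFullyNormalized S := by
  refine ⟨le_rfl, fun Q _ => ?_⟩
  exact (Subgroup.card_le_of_le inf_le_left).trans (Subgroup.card_le_of_le (le_normalizerIn le_rfl))

theorem abelian_not_dvd {p : ℕ} [Fact p.Prime] [Finite S] (hS : IsPGroup p S)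
    (F : FusionSystem S) (hF : F.IsSaturated p) (hab : ∀ x ∈ S, ∀ y ∈ S, x * y = y * x) :
    ¬ p ∣ Nat.card (F.autGroup S) := by
  obtain ⟨-, R, hR⟩ := (sat_of_fullyNormalized hS F hF (fullyNormalized_self F)).2.1
  intro hdvd
  apply R.ne_bot_of_dvd_card hdvd
  rw [hR, Subgroup.eq_bot_iff_forall]
  intro a ha
  obtain ⟨g, hg, hga⟩ := (mem_autInducedBy_iff S S a.1).1 (Subgroup.mem_subgroupOf.1 ha)
  apply Subtype.ext
  apply MulEquiv.ext
  intro x
  apply Subtype.ext
  rw [hga, hab g hg x x.2]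
  simp

/-- For abelian `S`, the centre of a saturated system is the fixed-point subgroup of `Aut_F(S)`. -/
theorem abelian_center {p : ℕ} [Fact p.Prime] [Finite S] (hS : IsPGroup p S)
    (F : FusionSystem S) (hF : F.IsSaturated p) (hab : ∀ x ∈ S, ∀ y ∈ S, x * y = y * x) :
    F.center = (fixedSub (F.autGroup S)).map S.subtype := by
  apply le_antisymm
  · refine sSup_le fun Q hQ => ?_
    obtain ⟨hQS, hext⟩ := hQ
    intro q hq
    refine ⟨⟨q, hQS hq⟩, ?_, rfl⟩
    intro a ha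
    obtain ⟨ψ, -, hψS, hψQ⟩ := hext S _ ((mem_autGroup_iff F le_rfl a).1 ha)
    have h1 := hψS ⟨q, hQS hq⟩
    have h2 := hψQ ⟨q, hq⟩
    have h12 : (Subgroup.inclusion (le_sup_left : S ≤ S ⊔ Q) ⟨q, hQS hq⟩) =
        Subgroup.inclusion (le_sup_right : Q ≤ S ⊔ Q) ⟨q, hq⟩ := Subtype.ext rfl
    rw [h12, h2] at h1
    exact Subtype.ext h1.symm
  · refine le_sSup ⟨Subgroup.map_subtype_le _, fun P φ hφ => ?_⟩
    have hPS : P ≤ S := (F.le_of_mem hφ).1
    obtain ⟨α, hα, hαx⟩ := abelian_extend hS F hF hab P hPS φ hφ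
    have hle : P ⊔ (fixedSub (F.autGroup S)).map S.subtype ≤ S :=
      sup_le hPS (Subgroup.map_subtype_le _)
    refine ⟨_, fs_restrict F hle ((mem_autGroup_iff F le_rfl α).1 hα), fun x => ?_, fun z => ?_⟩
    · exact (hαx x (hPS x.2)).symm
    · obtain ⟨v, hv, hvz⟩ := z.2
      show ((α ⟨z, _⟩ : S) : Ω) = z
      have e : (⟨(z : Ω), hle (Subgroup.mem_sup_right z.2)⟩ : S) = v := Subtype.ext hvz.symm
      rw [e, hv α hα]
      exact hvz

end Cfsg.Agent.Helper26
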