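import Mathlib
import Cfsg.Agent.Helper26.CI1
import Cfsg.Agent.Helper26.CI2
import Cfsg.Agent.Helper26.FusAbelian

set_option autoImplicit false

namespace Cfsg.Agent.Helper26

open Cfsg Cfsg.FusionSystem

section CI3

variable {Ω : Type*} [Group Ω] {S : Subgroup Ω}

theorem mem_ZS_iff {z : Ω} (hz : z ∈ S) :
    z ∈ centralizerIn S S ↔ (⟨z, hz⟩ : S) ∈ Subgroup.center S := by
  rw [mem_centralizerIn_iff, Subgroup.mem_center_iff]
  constructor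
  · rintro ⟨-, h⟩ g
    exact Subtype.ext (h g g.2)
  · intro h
    exact ⟨hz, fun x hx => congrArg Subtype.val (h ⟨x, hx⟩)⟩

theorem autS_ZS (α : MulAut S) {w : Ω} (hw : w ∈ centralizerIn S S) (hwS : w ∈ S) :
    ((α ⟨w, hwS⟩ : S) : Ω) ∈ centralizerIn S S := by
  rw [mem_ZS_iff (α ⟨w, hwS⟩).2]
  exact p4_char_center α _ ((mem_ZS_iff hwS).mp hw)

/-- the structure of a group whose centre has index `p²`, in terms of elements of `Ω`. -/
structure CIData (S : Subgroup Ω) (p : ℕ) (c : Ω) : Prop where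
  cZ : c ∈ centralizerIn S S
  c1 : c ≠ 1
  cp : c ^ p = 1
  comm : ∀ s ∈ S, ∀ t ∈ S, ∃ k : ℕ, s * t * s⁻¹ * t⁻¹ = c ^ k
  ccomm : ∃ s ∈ S, ∃ t ∈ S, c = s * t * s⁻¹ * t⁻¹
  powZ : ∀ s ∈ S, s ^ p ∈ centralizerIn S S
  cent : ∀ a ∈ S, a ∉ centralizerIn S S → ∀ b ∈ S, b * a = a * b →
    ∃ k : ℕ, ∃ z ∈ centralizerIn S S, b = a ^ k * z
  gen : ∀ a ∈ S, ∀ s ∈ S, s * a ≠ a * s → ∀ t ∈ S,
    ∃ i j : ℕ, ∃ z ∈ centralizerIn S S, t = s ^ i * a ^ j * z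

theorem ciData_of [Finite S] {p : ℕ} [Fact p.Prime] (hnc : ¬ ∀ a b : S, a * b = b * a)
    (hZ : (Subgroup.center S).index = p ^ 2) : ∃ c : Ω, CIData S p c := by
  obtain ⟨c, ⟨x, w, hxw⟩, hc1, hcZ, hcp, hall⟩ := ci_derived hnc hZ
  obtain ⟨hpow, -, -⟩ := ci_basic hnc hZ
  refine ⟨(c : Ω), ⟨(mem_ZS_iff c.2).mpr hcZ, fun h => hc1 (Subtype.ext h),
    congrArg Subtype.val hcp, ?_, ⟨x, x.2, w, w.2, congrArg Subtype.val hxw⟩, ?_, ?_, ?_⟩⟩
  · intro s hs t ht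
    have h := hall ⟨s, hs⟩ ⟨t, ht⟩
    obtain ⟨k, hk⟩ := (Submonoid.mem_powers_iff _ _).mp (mem_powers_iff_mem_zpowers.mpr h)
    exact ⟨k, (congrArg Subtype.val hk).symm⟩
  · intro s hs
    have h := hpow ⟨s, hs⟩
    have e : (⟨s ^ p, S.pow_mem hs p⟩ : S) = ⟨s, hs⟩ ^ p := rfl
    rw [mem_ZS_iff (S.pow_mem hs p), e]
    exact h
  · intro a ha haZ b hb hba
    have haZ' : (⟨a, ha⟩ : S) ∉ Subgroup.center S := fun h => haZ ((mem_ZS_iff ha).mpr h)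
    obtain ⟨k, z, hz, hk⟩ := ci_cent hnc hZ ⟨a, ha⟩ haZ' ⟨b, hb⟩ (Subtype.ext hba)
    exact ⟨k, z, (mem_ZS_iff z.2).mpr hz, congrArg Subtype.val hk⟩
  · intro a ha s hs hsa t ht
    obtain ⟨i, j, z, hz, hk⟩ := ci_gen hnc hZ ⟨a, ha⟩ ⟨s, hs⟩
      (fun h => hsa (congrArg Subtype.val h)) ⟨t, ht⟩
    exact ⟨i, j, z, (mem_ZS_iff z.2).mpr hz, congrArg Subtype.val hk⟩

/-- the centraliser of `a` in `S`. -/
def PA (S : Subgroup Ω) (a : Ω) : Subgroup Ω := S ⊓ Subgroup.centralizer {a}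

theorem mem_PA {a b : Ω} : b ∈ PA S a ↔ b ∈ S ∧ b * a = a * b := by
  unfold PA
  rw [Subgroup.mem_inf, Subgroup.mem_centralizer_singleton_iff]

theorem PA_le {a : Ω} : PA S a ≤ S := inf_le_left

theorem ZS_le_PA {a : Ω} (ha : a ∈ S) : centralizerIn S S ≤ PA S a := by
  intro z hz
  obtain ⟨hzS, hz'⟩ := mem_centralizerIn_iff.mp hz
  exact mem_PA.mpr ⟨hzS, (hz' a ha).symm⟩

theorem self_mem_PA {a : Ω} (ha : a ∈ S) : a ∈ PA S a := mem_PA.mpr ⟨ha, rfl⟩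

variable {p : ℕ} {c : Ω}

theorem CIData.exists_not_comm (_D : CIData S p c) {a : Ω} (ha : a ∈ S)
    (haZ : a ∉ centralizerIn S S) : ∃ s₀ ∈ S, s₀ * a ≠ a * s₀ := by
  by_contra h
  push Not at h
  exact haZ (mem_centralizerIn_iff.mpr ⟨ha, h⟩)

theorem CIData.normalizes (D : CIData S p c) {R : Subgroup Ω} (hZR : centralizerIn S S ≤ R)
    (hRS : R ≤ S) : ∀ s ∈ S, s ∈ Subgroup.normalizer (R : Set Ω) := by
  have key : ∀ s ∈ S, ∀ r ∈ R, s * r * s⁻¹ ∈ R := by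
    intro s hs r hr
    obtain ⟨k, hk⟩ := D.comm s hs r (hRS hr)
    have e : s * r * s⁻¹ = c ^ k * r := by rw [← hk]; group
    rw [e]; exact R.mul_mem (hZR ((centralizerIn S S).pow_mem D.cZ k)) hr
  intro s hs
  rw [Subgroup.mem_normalizer_iff]
  intro r
  refine ⟨key s hs r, fun h => ?_⟩
  have h1 := key s⁻¹ (S.inv_mem hs) _ h
  have e : s⁻¹ * (s * r * s⁻¹) * s⁻¹⁻¹ = r := by group
  rwa [e] at h1

theorem CIData.PA_comm (D : CIData S p c) {a : Ω} (ha : a ∈ S) (haZ : a ∉ centralizerIn S S) :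
    ∀ b ∈ PA S a, ∀ b' ∈ PA S a, b * b' = b' * b := by
  intro b hb b' hb'
  obtain ⟨hbS, hba⟩ := mem_PA.mp hb
  obtain ⟨hbS', hba'⟩ := mem_PA.mp hb'
  obtain ⟨k, z, hz, hk⟩ := D.cent a ha haZ b hbS hba
  obtain ⟨k', z', hz', hk'⟩ := D.cent a ha haZ b' hbS' hba'
  have hzc := (mem_centralizerIn_iff.mp hz).2
  have hzc' := (mem_centralizerIn_iff.mp hz').2
  have c1 : Commute (a ^ k) (a ^ k') := Commute.pow_pow_self a k k'
  have c2 : Commute (a ^ k) z' := hzc' _ (S.pow_mem ha k)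
  have c3 : Commute z (a ^ k') := (show Commute (a ^ k') z from hzc _ (S.pow_mem ha k')).symm
  have c4 : Commute z z' := hzc' z (mem_centralizerIn_iff.mp hz).1
  rw [hk, hk']
  exact ((c1.mul_right c2).mul_left (c3.mul_right c4)).eq

theorem CIData.PA_eq (D : CIData S p c) {a : Ω} (ha : a ∈ S) (haZ : a ∉ centralizerIn S S)
    {b : Ω} (hb : b ∈ PA S a) (hbZ : b ∉ centralizerIn S S) : PA S b = PA S a := by
  obtain ⟨hbS, hba⟩ := mem_PA.mp hb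
  apply le_antisymm
  · intro t ht
    obtain ⟨htS, htb⟩ := mem_PA.mp ht
    by_contra hta
    have hta' : t * a ≠ a * t := fun h => hta (mem_PA.mpr ⟨htS, h⟩)
    apply hbZ
    rw [mem_centralizerIn_iff]
    refine ⟨hbS, fun u hu => ?_⟩
    obtain ⟨i, j, z, hz, huz⟩ := D.gen a ha t htS hta' u hu
    have c1 : Commute (t ^ i) b := (show Commute t b from htb).pow_left i
    have c2 : Commute (a ^ j) b := (show Commute a b from hba.symm).pow_left j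
    have c3 : Commute z b :=
      (show Commute b z from (mem_centralizerIn_iff.mp hz).2 b hbS).symm
    rw [huz]
    exact ((c1.mul_left c2).mul_left c3).eq
  · intro t ht
    obtain ⟨htS, -⟩ := mem_PA.mp ht
    exact mem_PA.mpr ⟨htS, D.PA_comm ha haZ t ht b hb⟩

theorem CIData.mid_cases (D : CIData S p c) {P : Subgroup Ω} (hZP : centralizerIn S S ≤ P)
    (hPS : P ≤ S) :
    P = S ∨ P ≤ centralizerIn S S ∨ ∃ a ∈ S, a ∉ centralizerIn S S ∧ P = PA S a := by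
  by_cases h1 : P ≤ centralizerIn S S
  · exact Or.inr (Or.inl h1)
  · obtain ⟨a, haP, haZ⟩ := SetLike.not_le_iff_exists.mp h1
    have ha := hPS haP
    by_cases h2 : ∀ b ∈ P, b * a = a * b
    · right; right
      refine ⟨a, ha, haZ,
        le_antisymm (fun b hb => mem_PA.mpr ⟨hPS hb, h2 b hb⟩) (fun b hb => ?_)⟩
      obtain ⟨hbS, hba⟩ := mem_PA.mp hb
      obtain ⟨k, z, hz, hk⟩ := D.cent a ha haZ b hbS hba
      rw [hk]; exact P.mul_mem (P.pow_mem haP k) (hZP hz)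
    · left
      push Not at h2
      obtain ⟨b, hbP, hba⟩ := h2
      refine le_antisymm hPS (fun t ht => ?_)
      obtain ⟨i, j, z, hz, htz⟩ := D.gen a ha b (hPS hbP) hba t ht
      rw [htz]; exact P.mul_mem (P.mul_mem (P.pow_mem hbP i) (P.pow_mem haP j)) (hZP hz)

theorem CIData.PA_fn [Finite S] (D : CIData S p c) (F : FusionSystem S) {a : Ω} (ha : a ∈ S) :
    F.IsFullyNormalized (PA S a) := by
  refine ⟨PA_le, fun Q _ => ?_⟩
  have h1 : normalizerIn S (PA S a) = S :=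
    le_antisymm inf_le_left
      (fun s hs => Subgroup.mem_inf.mpr ⟨hs, D.normalizes (ZS_le_PA ha) PA_le s hs⟩)
  rw [h1]
  exact Subgroup.card_le_of_le inf_le_left

theorem PA_centric [Finite S] (F : FusionSystem S) {a : Ω} (ha : a ∈ S)
    (hrec : F.IsReceptive (PA S a)) : F.IsCentric (PA S a) := by
  apply centric_of_receptive F hrec
  intro t ht
  obtain ⟨htS, h⟩ := mem_centralizerIn_iff.mp ht
  exact mem_PA.mpr ⟨htS, (h a (self_mem_PA ha)).symm⟩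

/-- conjugation by `s ∈ S` on `PA S a`. -/
def cj (D : CIData S p c) {a : Ω} (ha : a ∈ S) (s : Ω) (hs : s ∈ S) : MulAut (PA S a) :=
  conjAut (PA S a) s (D.normalizes (ZS_le_PA ha) PA_le s hs)

theorem cj_apply (D : CIData S p c) {a : Ω} (ha : a ∈ S) (s : Ω) (hs : s ∈ S) (b : PA S a) :
    ((cj D ha s hs b : PA S a) : Ω) = s * b * s⁻¹ := conjAut_apply _ _ _ _

theorem cj_mem (D : CIData S p c) {a : Ω} (ha : a ∈ S) (s : Ω) (hs : s ∈ S) :
    cj D ha s hs ∈ autInducedBy S (PA S a) := conjAut_mem S _ s hs _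

theorem CIData.autS_eq (D : CIData S p c) {a : Ω} (ha : a ∈ S) (haZ : a ∉ centralizerIn S S)
    {s₀ : Ω} (hs₀ : s₀ ∈ S) (hs₀a : s₀ * a ≠ a * s₀) :
    ∀ u ∈ autInducedBy S (PA S a), ∃ i : ℕ, u = (cj D ha s₀ hs₀) ^ i := by
  intro u hu
  obtain ⟨g, hg, hgu⟩ := (mem_autInducedBy_iff S (PA S a) u).mp hu
  obtain ⟨i, j, z, hz, hgz⟩ := D.gen a ha s₀ hs₀ hs₀a g hg
  refine ⟨i, MulEquiv.ext fun b => Subtype.ext ?_⟩
  have hw : a ^ j * z ∈ PA S a :=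
    (PA S a).mul_mem ((PA S a).pow_mem (self_mem_PA ha) j) (ZS_le_PA ha hz)
  have hcomm := D.PA_comm ha haZ (a ^ j * z) hw (b : Ω) b.2
  rw [hgu b, autInducedBy_pow (cj_apply D ha s₀ hs₀) i b, hgz]
  calc s₀ ^ i * a ^ j * z * ↑b * (s₀ ^ i * a ^ j * z)⁻¹
      = s₀ ^ i * ((a ^ j * z) * ↑b) * (a ^ j * z)⁻¹ * (s₀ ^ i)⁻¹ := by group
    _ = s₀ ^ i * (↑b * (a ^ j * z)) * (a ^ j * z)⁻¹ * (s₀ ^ i)⁻¹ := by rw [hcomm]
    _ = s₀ ^ i * ↑b * (s₀ ^ i)⁻¹ := by group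

theorem CIData.cj_pow_p (D : CIData S p c) {a : Ω} (ha : a ∈ S) {s : Ω} (hs : s ∈ S) :
    (cj D ha s hs) ^ p = 1 := by
  refine MulEquiv.ext fun b => Subtype.ext ?_
  rw [autInducedBy_pow (cj_apply D ha s hs) p b]
  have hz := (mem_centralizerIn_iff.mp (D.powZ s hs)).2 (b : Ω) (PA_le b.2)
  show s ^ p * (b : Ω) * (s ^ p)⁻¹ = b
  rw [← hz, mul_inv_cancel_right]

theorem CIData.cj_trv (D : CIData S p c) {a : Ω} (ha : a ∈ S) {s : Ω} (hs : s ∈ S) :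
    Trv (cj D ha s hs) ⟨c, ZS_le_PA ha D.cZ⟩ := by
  have hcZ := (mem_centralizerIn_iff.mp D.cZ).2
  refine ⟨fun b => ?_, Subtype.ext ?_⟩
  · obtain ⟨k, hk⟩ := D.comm s hs (b : Ω) (PA_le b.2)
    refine ⟨k, Subtype.ext ?_⟩
    rw [cj_apply]
    show s * (b : Ω) * s⁻¹ = (b : Ω) * c ^ k
    have h1 : s * (b : Ω) * s⁻¹ = c ^ k * b := by rw [← hk]; group
    rw [h1]
    exact ((show Commute (b : Ω) c from hcZ _ (PA_le b.2)).pow_right k).eq.symm
  · rw [cj_apply]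
    show s * c * s⁻¹ = c
    rw [hcZ s hs, mul_inv_cancel_right]

theorem CIData.cj_fix_iff (D : CIData S p c) {a : Ω} (ha : a ∈ S) {s₀ : Ω} (hs₀ : s₀ ∈ S)
    (hs₀a : s₀ * a ≠ a * s₀) (b : PA S a) :
    cj D ha s₀ hs₀ b = b ↔ (b : Ω) ∈ centralizerIn S S := by
  constructor
  · intro h
    have h1 : s₀ * (b : Ω) * s₀⁻¹ = b := by
      have h0 := congrArg Subtype.val h
      rwa [cj_apply] at h0
    have hbs : (b : Ω) * s₀ = s₀ * b := by
      calc (b : Ω) * s₀ = (s₀ * b * s₀⁻¹) * s₀ := by rw [h1]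
        _ = s₀ * b := by group
    obtain ⟨hbS, hba⟩ := mem_PA.mp b.2
    rw [mem_centralizerIn_iff]
    refine ⟨hbS, fun t ht => ?_⟩
    obtain ⟨i, j, z, hz, htz⟩ := D.gen a ha s₀ hs₀ hs₀a t ht
    have hzb := (mem_centralizerIn_iff.mp hz).2 (b : Ω) hbS
    have c1 : Commute (s₀ ^ i) (b : Ω) := (show Commute s₀ (b : Ω) from hbs.symm).pow_left i
    have c2 : Commute (a ^ j) (b : Ω) := (show Commute a (b : Ω) from hba.symm).pow_left j
    have c3 : Commute z (b : Ω) := (show Commute (b : Ω) z from hzb).symm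
    rw [htz]
    exact ((c1.mul_left c2).mul_left c3).eq
  · intro h
    apply Subtype.ext
    rw [cj_apply]
    have h1 := (mem_centralizerIn_iff.mp h).2 s₀ hs₀
    rw [h1, mul_inv_cancel_right]

theorem CIData.cj_ne_one (D : CIData S p c) {a : Ω} (ha : a ∈ S) {s₀ : Ω} (hs₀ : s₀ ∈ S)
    (hs₀a : s₀ * a ≠ a * s₀) : cj D ha s₀ hs₀ ≠ 1 := by
  intro h
  apply hs₀a
  have h1 : ((cj D ha s₀ hs₀ ⟨a, self_mem_PA ha⟩ : PA S a) : Ω) = a := by rw [h]; rfl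
  rw [cj_apply] at h1
  have h2 : s₀ * a * s₀⁻¹ = a := h1
  calc s₀ * a = (s₀ * a * s₀⁻¹) * s₀ := by group
    _ = a * s₀ := by rw [h2]

theorem CIData.H1 [Finite S] [Fact p.Prime] (hS : IsPGroup p S) (D : CIData S p c)
    (F : FusionSystem S) (hF : F.IsSaturated p) {a : Ω} (ha : a ∈ S)
    (haZ : a ∉ centralizerIn S S) {s₀ : Ω} (hs₀ : s₀ ∈ S) (hs₀a : s₀ * a ≠ a * s₀) :
    ∀ (A B : Subgroup (PA S a)) (hAB : A ≤ B) (u v : MulAut (PA S a)),
      u ∈ F.autGroup (PA S a) → v ∈ F.autGroup (PA S a) →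
      u ∈ stab3 A B hAB → v ∈ stab3 A B hAB → u ≠ 1 → v ∈ Subgroup.zpowers u := by
  intro A B hAB u v huG hvG hu hv hu1
  have hfa := (sat_of_fullyNormalized hS F hF (D.PA_fn F ha)).2.1
  haveI : Finite (PA S a) := finite_of_le PA_le
  have hPp : IsPGroup p (PA S a) := isPGroup_of_le hS PA_le
  obtain ⟨β, hβ, hβA⟩ := fullyAutomized_conj F hfa (stab3 A B hAB ⊓ F.autGroup (PA S a))
    inf_le_right ((stab3_isPGroup hPp A B hAB).to_le inf_le_left)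
  obtain ⟨i, hi⟩ := D.autS_eq ha haZ hs₀ hs₀a _ (hβA u ⟨hu, huG⟩)
  obtain ⟨j, hj⟩ := D.autS_eq ha haZ hs₀ hs₀a _ (hβA v ⟨hv, hvG⟩)
  have hxp : (cj D ha s₀ hs₀) ^ p = 1 := D.cj_pow_p ha hs₀
  have hxi : (cj D ha s₀ hs₀) ^ i ≠ 1 := by
    intro h
    apply hu1
    rw [h] at hi
    have e : u = β⁻¹ * (β * u * β⁻¹) * β := by group
    rw [e, hi]; group
  obtain ⟨n, hn⟩ := pow_solve hxp hxi j
  rw [Subgroup.mem_zpowers_iff]
  refine ⟨(n : ℤ), ?_⟩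
  rw [zpow_natCast]
  have h1 : β * u ^ n * β⁻¹ = β * v * β⁻¹ := by
    calc β * u ^ n * β⁻¹ = (β * u * β⁻¹) ^ n := conj_pow.symm
      _ = ((cj D ha s₀ hs₀) ^ i) ^ n := by rw [hi]
      _ = (cj D ha s₀ hs₀) ^ j := hn
      _ = β * v * β⁻¹ := hj.symm
  exact mul_left_cancel (mul_right_cancel h1)

theorem ext_to_S [Finite S] (F : FusionSystem S) {P : Subgroup Ω} (hPS : P ≤ S)
    (hrec : F.IsReceptive P) (hnorm : ∀ s ∈ S, s ∈ Subgroup.normalizer (P : Set Ω))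
    {g : MulAut P} (hg : g ∈ F.autGroup P)
    (hgn : ∀ u ∈ autInducedBy S P, g * u * g⁻¹ ∈ autInducedBy S P) :
    ∃ α ∈ F.autGroup S, ∀ b : P, ((α ⟨(b : Ω), hPS b.2⟩ : S) : Ω) = ((g b : P) : Ω) := by
  have hiso : IsIso F g := (mem_autGroup_iff F hPS g).mp hg
  obtain ⟨χ, hχ, hχe⟩ := receptive_ext F hrec hiso
  have hSN : S ≤ extender S P (P.subtype.comp g.toMonoidHom) := by
    intro s hs
    rw [mem_extender_iff']
    refine ⟨hs, hnorm s hs, ?_⟩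
    obtain ⟨h, hh, hhu⟩ := (mem_autInducedBy_iff S P _).mp
      (hgn _ (conjAut_mem S P s hs (hnorm s hs)))
    refine ⟨h, hh, fun x y hxy => ?_⟩
    show ((g y : P) : Ω) = h * ((g x : P) : Ω) * h⁻¹
    have hy : y = conjAut P s (hnorm s hs) x := Subtype.ext (by rw [hxy, conjAut_apply])
    have e1 : (g * conjAut P s (hnorm s hs) * g⁻¹) (g x) = g y := by
      show g (conjAut P s (hnorm s hs) (g⁻¹ (g x))) = g y
      rw [MulAut.inv_apply_self, hy]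
    rw [← e1]; exact hhu (g x)
  have hχ' : χ.comp (Subgroup.inclusion hSN) ∈ F.Hom S := fs_restrict F hSN hχ
  obtain ⟨e, he, hee⟩ := exists_iso_of_hom_of_card F hχ' (fun x => (F.le_of_mem hχ').2 x) le_rfl
  refine ⟨e, (mem_autGroup_iff F le_rfl e).mpr he, fun b => ?_⟩
  rw [hee]
  show χ ⟨(b : Ω), hSN (hPS b.2)⟩ = _
  exact hχe b _

theorem res_of_S [Finite S] (F : FusionSystem S) {P : Subgroup Ω} (hPS : P ≤ S) {α : MulAut S}
    (hα : α ∈ F.autGroup S) (hαP : ∀ b : P, ((α ⟨(b : Ω), hPS b.2⟩ : S) : Ω) ∈ P) :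
    ∃ g ∈ F.autGroup P, ∀ b : P, ((g b : P) : Ω) = ((α ⟨(b : Ω), hPS b.2⟩ : S) : Ω) := by
  have hiso : IsIso F α := (mem_autGroup_iff F le_rfl α).mp hα
  have hφ : (S.subtype.comp α.toMonoidHom).comp (Subgroup.inclusion hPS) ∈ F.Hom P :=
    fs_restrict F hPS hiso
  haveI : Finite P := finite_of_le hPS
  obtain ⟨e, he, hee⟩ := exists_iso_of_hom_of_card F hφ (fun x => hαP x) le_rfl
  exact ⟨e, (mem_autGroup_iff F hPS e).mpr he, fun b => hee b⟩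

theorem aut_transport (F : FusionSystem S) {P P₀ : Subgroup Ω} {e : P ≃* P₀} (he : IsIso F e)
    {g : MulAut P} (hg : g ∈ F.autGroup P) :
    ∃ g₀ ∈ F.autGroup P₀, ∀ y : P₀, g₀ y = e (g (e.symm y)) := by
  have hg' : IsIso F g := (mem_autGroup_iff F he.le_left g).mp hg
  exact ⟨e.symm.trans (g.trans e),
    (mem_autGroup_iff F he.le_right _).mpr (he.symm.trans (hg'.trans he)), fun y => rfl⟩

/-- the elements of a group of automorphisms fixing a set pointwise. -/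
def fixK {P : Type*} [Group P] (A : Subgroup (MulAut P)) (K : Set P) : Subgroup A where
  carrier := {h | ∀ b ∈ K, (h : MulAut P) b = b}
  one_mem' := fun _ _ => rfl
  mul_mem' := fun {h₁ h₂} h1 h2 b hb => by
    show (h₁ : MulAut P) ((h₂ : MulAut P) b) = b
    rw [h2 b hb, h1 b hb]
  inv_mem' := fun {h₁} h1 b hb => by
    show ((h₁ : MulAut P))⁻¹ b = b
    exact fix_inv_of_fix (h1 b hb)

theorem mem_fixK {P : Type*} [Group P] {A : Subgroup (MulAut P)} {K : Set P} {h : A} :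
    h ∈ fixK A K ↔ ∀ b ∈ K, (h : MulAut P) b = b := Iff.rfl

theorem frattini_decomp [Finite S] [Fact p.Prime] (F : FusionSystem S)
    {P : Subgroup Ω} (hPS : P ≤ S) (hfa : F.IsFullyAutomized p P) (hrec : F.IsReceptive P)
    (hnorm : ∀ s ∈ S, s ∈ Subgroup.normalizer (P : Set Ω))
    (K : Set P) (hKinv : ∀ b ∈ K, ∀ γ ∈ F.autGroup P, γ b ∈ K)
    (hKfix : ∀ b ∈ K, ∀ u ∈ autInducedBy S P, u b = b)
    {g : MulAut P} (hg : g ∈ F.autGroup P) :
    ∃ α ∈ F.autGroup S, ∃ h ∈ F.autGroup P, (∀ b ∈ K, h b = b) ∧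
      ∀ b : P, ((g b : P) : Ω) = ((α ⟨((h b : P) : Ω), hPS (h b).2⟩ : S) : Ω) := by
  haveI : Finite P := finite_of_le hPS
  obtain ⟨-, R, hR⟩ := hfa
  have hNn : (fixK (F.autGroup P) K).Normal := by
    constructor
    intro n hn γ
    rw [mem_fixK] at hn ⊢
    intro b hb
    show (γ : MulAut P) ((n : MulAut P) (((γ : MulAut P))⁻¹ b)) = b
    have h1 : ((γ : MulAut P))⁻¹ b ∈ K := hKinv b hb _ (Subgroup.inv_mem _ γ.2)
    rw [hn _ h1, MulAut.apply_inv_self]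
  have hRN : (R : Subgroup (F.autGroup P)) ≤ fixK (F.autGroup P) K := by
    intro t ht
    rw [hR, Subgroup.mem_subgroupOf] at ht
    rw [mem_fixK]
    intro b hb
    exact hKfix b hb _ ht
  haveI := hNn
  have hfr := Sylow.normalizer_sup_eq_top (R.subtype hRN)
  rw [Sylow.coe_subtype, Subgroup.map_subgroupOf_eq_of_le hRN] at hfr
  have hmem : (⟨g, hg⟩ : F.autGroup P) ∈
      Subgroup.normalizer ((R : Subgroup (F.autGroup P)) : Set (F.autGroup P)) ⊔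
        fixK (F.autGroup P) K := by
    rw [hfr]; exact Subgroup.mem_top _
  rw [← SetLike.mem_coe, Subgroup.mul_normal, Set.mem_mul] at hmem
  obtain ⟨n, hn, h, hh, hnh⟩ := hmem
  have hnn : ∀ u ∈ autInducedBy S P,
      (n : MulAut P) * u * (n : MulAut P)⁻¹ ∈ autInducedBy S P := by
    intro u hu
    have huG := autInducedBy_le_autGroup F hPS hu
    have h1 : (⟨u, huG⟩ : F.autGroup P) ∈ (R : Subgroup (F.autGroup P)) := by
      rw [hR, Subgroup.mem_subgroupOf]; exact hu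
    have h2 := (Subgroup.mem_normalizer_iff.mp hn ⟨u, huG⟩).mp h1
    rw [hR, Subgroup.mem_subgroupOf] at h2
    exact h2
  obtain ⟨α, hα, hαn⟩ := ext_to_S F hPS hrec hnorm n.2 hnn
  refine ⟨α, hα, h, h.2, mem_fixK.mp hh, fun b => ?_⟩
  rw [hαn ((h : MulAut P) b)]
  have e : g = (n : MulAut P) * (h : MulAut P) := congrArg Subtype.val hnh.symm
  rw [e]; rfl

theorem nc_normal [Finite S] [Fact p.Prime] (hS : IsPGroup p S) (F : FusionSystem S)
    (hF : F.IsSaturated p) {Q : Subgroup Ω} (hQS : Q ≤ S)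
    (hQn : ∀ s ∈ S, ∀ q ∈ Q, s * q * s⁻¹ ∈ Q)
    (h : ∀ R : Subgroup Ω, F.IsFullyNormalized R → F.IsFullyAutomized p R → F.IsReceptive R →
      F.IsCentric R → F.IsRadical p R →
      Q ≤ R ∧ ∀ g ∈ F.autGroup R, ∀ q : R, (q : Ω) ∈ Q → ((g q : R) : Ω) ∈ Q) :
    F.IsNormal Q := by
  let E : FusionSystem S := subSys F (fun P φ => ∀ x : P, (x : Ω) ∈ Q ↔ φ x ∈ Q)
    (by
      intro P g hP hg x
      show (x : Ω) ∈ Q ↔ g * x * g⁻¹ ∈ Q
      constructor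
      · exact hQn g hg _
      · intro hx
        have h1 := hQn g⁻¹ (S.inv_mem hg) _ hx
        have e : g⁻¹ * (g * (x : Ω) * g⁻¹) * g⁻¹⁻¹ = x := by group
        rwa [e] at h1)
    (by
      intro P R φ ψ hφ hψ h1 h2 hx x
      show (x : Ω) ∈ Q ↔ ψ ⟨φ x, hx x⟩ ∈ Q
      exact (h1 x).trans (h2 ⟨φ x, hx x⟩))
    (by
      rintro P φ hφ h1 ψ hψ hψx ⟨_, x, rfl⟩
      rw [hψx x]
      exact (h1 x).symm)
  have hle : F ≤ E := alperin hS F hF E (by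
    intro R hfn hfa hrec hcen hrad α hα
    have hRS := hrec.1
    have hα' := (mem_autGroup_iff F hRS α).1 hα
    rw [mem_autGroup_iff _ hRS]
    refine ⟨hα', fun x => ⟨fun hx => (h R hfn hfa hrec hcen hrad).2 α hα x hx, fun hx => ?_⟩⟩
    have h1 := (h R hfn hfa hrec hcen hrad).2 α⁻¹ (Subgroup.inv_mem _ hα) (α x) hx
    rwa [MulAut.inv_apply_self] at h1)
  have hsc : F.StronglyClosed Q := by
    refine ⟨hQS, fun R hRQ φ hφ x => ?_⟩
    exact ((show φ ∈ F.Hom R ∧ ∀ x : R, (x : Ω) ∈ Q ↔ φ x ∈ Q from hle R hφ).2 x).mp (hRQ x.2)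
  exact normal_of_frc hS F hF hsc
    (fun R hfn hfa hrec hcen hrad => (h R hfn hfa hrec hcen hrad).1)

end CI3

end Cfsg.Agent.Helper26
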