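import Mathlib
import Cfsg.Agent.Helper26.CI3

set_option autoImplicit false

namespace Cfsg.Agent.Helper26

open Cfsg Cfsg.FusionSystem

section CI4

variable {Ω : Type*} [Group Ω] {S : Subgroup Ω} {p : ℕ} {c : Ω}

/-- `Aut_S(P)` is not normalised by `Aut_F(P)`. -/
def NN (F : FusionSystem S) (P : Subgroup Ω) : Prop :=
  ¬ ∀ g ∈ F.autGroup P, ∀ u ∈ autInducedBy S P, g * u * g⁻¹ ∈ autInducedBy S P

/-- the largest `Aut_F(P)`-invariant subgroup of `Z(S) ∩ P`. -/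
def KK (F : FusionSystem S) (P : Subgroup Ω) : Subgroup Ω where
  carrier := {z | z ∈ centralizerIn S S ∧ ∃ hz : z ∈ P, ∀ g ∈ F.autGroup P,
    ((g ⟨z, hz⟩ : P) : Ω) ∈ centralizerIn S S}
  one_mem' := ⟨one_mem _, one_mem _, fun g _ => by
    have e : (⟨1, one_mem P⟩ : P) = 1 := rfl
    rw [e, map_one]; exact one_mem _⟩
  mul_mem' := by
    rintro z z' ⟨hz, hzP, h⟩ ⟨hz', hzP', h'⟩
    refine ⟨mul_mem hz hz', mul_mem hzP hzP', fun g hg => ?_⟩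
    have e : (⟨z * z', mul_mem hzP hzP'⟩ : P) = ⟨z, hzP⟩ * ⟨z', hzP'⟩ := rfl
    rw [e, map_mul, Subgroup.coe_mul]
    exact mul_mem (h g hg) (h' g hg)
  inv_mem' := by
    rintro z ⟨hz, hzP, h⟩
    refine ⟨inv_mem hz, inv_mem hzP, fun g hg => ?_⟩
    have e : (⟨z⁻¹, inv_mem hzP⟩ : P) = (⟨z, hzP⟩ : P)⁻¹ := rfl
    rw [e, map_inv, Subgroup.coe_inv]
    exact inv_mem (h g hg)

theorem mem_KK {F : FusionSystem S} {P : Subgroup Ω} {z : Ω} :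
    z ∈ KK F P ↔ z ∈ centralizerIn S S ∧ ∃ hz : z ∈ P, ∀ g ∈ F.autGroup P,
      ((g ⟨z, hz⟩ : P) : Ω) ∈ centralizerIn S S := Iff.rfl

/-- the candidate normal subgroup. -/
def QQ (F : FusionSystem S) : Subgroup Ω where
  carrier := {z | z ∈ centralizerIn S S ∧
    ∀ P : Subgroup Ω, centralizerIn S S ≤ P → P ≤ S → z ∈ KK F P}
  one_mem' := ⟨one_mem _, fun P _ _ => one_mem _⟩
  mul_mem' := fun {z z'} h h' =>
    ⟨mul_mem h.1 h'.1, fun P h1 h2 => mul_mem (h.2 P h1 h2) (h'.2 P h1 h2)⟩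
  inv_mem' := fun {z} h => ⟨inv_mem h.1, fun P h1 h2 => inv_mem (h.2 P h1 h2)⟩

theorem mem_QQ {F : FusionSystem S} {z : Ω} :
    z ∈ QQ F ↔ z ∈ centralizerIn S S ∧
      ∀ P : Subgroup Ω, centralizerIn S S ≤ P → P ≤ S → z ∈ KK F P := Iff.rfl

theorem ZS_le_centric (F : FusionSystem S) {R : Subgroup Ω} (hRS : R ≤ S)
    (hcen : F.IsCentric R) : centralizerIn S S ≤ R := by
  intro z hz
  apply hcen.2 R (isConj_refl F hRS)
  rw [mem_centralizerIn_iff]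
  exact ⟨(mem_centralizerIn_iff.mp hz).1, fun x hx => (mem_centralizerIn_iff.mp hz).2 x (hRS hx)⟩

theorem mem_QQ_of (D : CIData S p c) (F : FusionSystem S) {z : Ω}
    (hz : z ∈ centralizerIn S S)
    (h : ∀ a ∈ S, a ∉ centralizerIn S S → z ∈ KK F (PA S a)) : z ∈ QQ F := by
  refine ⟨hz, fun P hZP hPS => ⟨hz, hZP hz, fun g hg => ?_⟩⟩
  rcases D.mid_cases hZP hPS with h1 | h1 | ⟨a, ha, haZ, h1⟩
  · have h1' := h1.symm
    subst h1'
    exact autS_ZS g hz _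
  · exact h1 (g ⟨z, hZP hz⟩).2
  · subst h1
    obtain ⟨_, _, h3⟩ := mem_KK.mp (h a ha haZ)
    exact h3 g hg

theorem QQ_autS [Finite S] (F : FusionSystem S) {α : MulAut S} (hα : α ∈ F.autGroup S) {z : Ω}
    (hz : z ∈ QQ F) (hzS : z ∈ S) : ((α ⟨z, hzS⟩ : S) : Ω) ∈ QQ F := by
  obtain ⟨hzZ, hzQ⟩ := hz
  refine ⟨autS_ZS α hzZ hzS, fun P hZP hPS =>
    ⟨autS_ZS α hzZ hzS, hZP (autS_ZS α hzZ hzS), fun g hg => ?_⟩⟩
  have hz' : ((α ⟨z, hzS⟩ : S) : Ω) ∈ P := hZP (autS_ZS α hzZ hzS)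
  have hiso : IsIso F (α⁻¹ : MulAut S) :=
    (mem_autGroup_iff F le_rfl α⁻¹).mp (Subgroup.inv_mem _ hα)
  obtain ⟨φ, hφdef⟩ : ∃ φ : P →* Ω,
      φ = (S.subtype.comp (α⁻¹ : MulAut S).toMonoidHom).comp (Subgroup.inclusion hPS) := ⟨_, rfl⟩
  have hφ : φ ∈ F.Hom P := by rw [hφdef]; exact fs_restrict F hPS hiso
  have hφv : ∀ (y : Ω) (hy : y ∈ P), φ ⟨y, hy⟩ = (((α⁻¹ : MulAut S) ⟨y, hPS hy⟩ : S) : Ω) := by
    intro y hy; rw [hφdef]; rfl
  obtain ⟨e, he, hee⟩ := exists_iso_of_hom F hφ rfl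
  obtain ⟨g₀, hg₀, hg₀e⟩ := aut_transport F he hg
  have hZP₀ : centralizerIn S S ≤ φ.range := by
    intro w hw
    have hwS := (mem_centralizerIn_iff.mp hw).1
    refine ⟨⟨((α ⟨w, hwS⟩ : S) : Ω), hZP (autS_ZS α hw hwS)⟩, ?_⟩
    rw [hφv]
    show (((α⁻¹ : MulAut S) (α ⟨w, hwS⟩) : S) : Ω) = w
    rw [MulAut.inv_apply_self]
  have hz₀ : z ∈ φ.range := by
    refine ⟨⟨((α ⟨z, hzS⟩ : S) : Ω), hz'⟩, ?_⟩
    rw [hφv]
    show (((α⁻¹ : MulAut S) (α ⟨z, hzS⟩) : S) : Ω) = z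
    rw [MulAut.inv_apply_self]
  obtain ⟨-, hz₀', h1⟩ := hzQ φ.range hZP₀ he.le_right
  have h1 := h1 g₀ hg₀
  have h2 : e ⟨((α ⟨z, hzS⟩ : S) : Ω), hz'⟩ = ⟨z, hz₀'⟩ := by
    apply Subtype.ext
    rw [hee, hφv]
    show (((α⁻¹ : MulAut S) (α ⟨z, hzS⟩) : S) : Ω) = z
    rw [MulAut.inv_apply_self]
  have h3 : e.symm ⟨z, hz₀'⟩ = ⟨((α ⟨z, hzS⟩ : S) : Ω), hz'⟩ := by
    rw [MulEquiv.symm_apply_eq]; exact h2.symm
  rw [hg₀e, h3, hee] at h1
  have h4 := autS_ZS α h1 ((mem_centralizerIn_iff.mp h1).1)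
  have h5 : (⟨φ (g ⟨((α ⟨z, hzS⟩ : S) : Ω), hz'⟩), (mem_centralizerIn_iff.mp h1).1⟩ : S)
      = (α⁻¹ : MulAut S) ⟨((g ⟨((α ⟨z, hzS⟩ : S) : Ω), hz'⟩ : P) : Ω), hPS (g _).2⟩ :=
    Subtype.ext (hφv _ _)
  rw [h5, MulAut.apply_inv_self] at h4
  exact h4

theorem QQ_normal [Finite S] [Fact p.Prime] (hS : IsPGroup p S) (D : CIData S p c)
    (F : FusionSystem S) (hF : F.IsSaturated p) : F.IsNormal (QQ F) := by
  have hQZ : QQ F ≤ centralizerIn S S := fun z hz => hz.1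
  have hQS : QQ F ≤ S := fun z hz => (mem_centralizerIn_iff.mp hz.1).1
  apply nc_normal hS F hF hQS
  · intro s hs q hq
    have h1 := (mem_centralizerIn_iff.mp hq.1).2 s hs
    have e : s * q * s⁻¹ = q := by rw [h1, mul_inv_cancel_right]
    rw [e]; exact hq
  · intro R hfn hfa hrec hcen hrad
    have hRS := hrec.1
    have hZR : centralizerIn S S ≤ R := ZS_le_centric F hRS hcen
    refine ⟨hQZ.trans hZR, fun g hg q hq => ?_⟩
    obtain ⟨α, hα, h, hh, hhK, hgα⟩ := frattini_decomp F hRS hfa hrec (D.normalizes hZR hRS)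
      {b : R | (b : Ω) ∈ KK F R}
      (by
        rintro b ⟨hb1, hb2, hb3⟩ γ hγ
        refine ⟨hb3 γ hγ, (γ b).2, fun g' hg' => ?_⟩
        exact hb3 (g' * γ) (Subgroup.mul_mem _ hg' hγ))
      (by
        rintro b ⟨hb1, -, -⟩ u hu
        obtain ⟨s, hs, hsu⟩ := (mem_autInducedBy_iff S R u).mp hu
        apply Subtype.ext
        rw [hsu b]
        have h1 := (mem_centralizerIn_iff.mp hb1).2 s hs
        rw [h1, mul_inv_cancel_right])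
      hg
    have hhq : h q = q := hhK q (hq.2 R hZR hRS)
    rw [hgα q]
    have e : (⟨((h q : R) : Ω), hRS (h q).2⟩ : S) = ⟨(q : Ω), hRS q.2⟩ := by
      apply Subtype.ext
      show ((h q : R) : Ω) = (q : Ω)
      rw [hhq]
    rw [e]
    exact QQ_autS F hα hq (hRS q.2)

theorem QQ_eq_bot [Finite S] [Fact p.Prime] (hS : IsPGroup p S) (D : CIData S p c)
    (F : FusionSystem S) (hF : F.IsSaturated p) (hcore : F.core = ⊥) : QQ F = ⊥ := by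
  rw [eq_bot_iff, ← hcore]
  exact le_sSup (QQ_normal hS D F hF)

theorem KK_of_not_NN [Finite S] [Fact p.Prime] (hS : IsPGroup p S) (D : CIData S p c)
    (F : FusionSystem S) (hF : F.IsSaturated p) {a : Ω} (ha : a ∈ S)
    (h : ¬ NN F (PA S a)) {z : Ω} (hz : z ∈ centralizerIn S S) : z ∈ KK F (PA S a) := by
  have h' := not_not.mp h
  refine ⟨hz, ZS_le_PA ha hz, fun g hg => ?_⟩
  have hrec := (sat_of_fullyNormalized hS F hF (D.PA_fn F ha)).2.2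
  obtain ⟨α, hα, hαg⟩ := ext_to_S F PA_le hrec (D.normalizes (ZS_le_PA ha) PA_le) hg (h' g hg)
  rw [← hαg ⟨z, ZS_le_PA ha hz⟩]
  exact autS_ZS α hz _

theorem NN_main [Finite S] [Fact p.Prime] (hS : IsPGroup p S) (D : CIData S p c)
    (F : FusionSystem S) (hF : F.IsSaturated p) {a : Ω} (ha : a ∈ S)
    (haZ : a ∉ centralizerIn S S) (hNN : NN F (PA S a)) :
    ∃ c' : Ω, c' ∈ PA S a ∧ c' ^ p = 1 ∧ c' ∉ centralizerIn S S ∧
      (∀ z ∈ centralizerIn S S, ∃ k : ℕ, z * c ^ k ∈ KK F (PA S a)) ∧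
      (∀ k : ℕ, c ^ k ∈ KK F (PA S a) → c ^ k = 1) ∧
      (∀ b ∈ PA S a, ∃ i j : ℕ, b * c ^ i * c' ^ j ∈ KK F (PA S a)) ∧
      (∀ h ∈ F.autGroup (PA S a),
        (∀ hc : c ∈ PA S a, ∃ i j : ℕ, ((h ⟨c, hc⟩ : PA S a) : Ω) = c ^ i * c' ^ j) ∧
          ∀ hc' : c' ∈ PA S a, ∃ i j : ℕ, ((h ⟨c', hc'⟩ : PA S a) : Ω) = c ^ i * c' ^ j) ∧
      (∃ δ ∈ F.autGroup S, (∀ hc : c ∈ S, ((δ ⟨c, hc⟩ : S) : Ω) = c⁻¹) ∧
          ∀ z ∈ KK F (PA S a), ∀ hz : z ∈ S, ((δ ⟨z, hz⟩ : S) : Ω) = z) := by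
  obtain ⟨s₀, hs₀, hs₀a⟩ := D.exists_not_comm ha haZ
  haveI : Finite (PA S a) := finite_of_le PA_le
  have hcP : c ∈ PA S a := ZS_le_PA ha D.cZ
  obtain ⟨x, hxdef⟩ : ∃ x : MulAut (PA S a), x = cj D ha s₀ hs₀ := ⟨_, rfl⟩
  have hxS : x ∈ autInducedBy S (PA S a) := by rw [hxdef]; exact cj_mem D ha s₀ hs₀
  have hxG : x ∈ F.autGroup (PA S a) := autInducedBy_le_autGroup F PA_le hxS
  have hTx : Trv x ⟨c, hcP⟩ := by rw [hxdef]; exact D.cj_trv ha hs₀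
  have hfix : ∀ b : PA S a, x b = b ↔ (b : Ω) ∈ centralizerIn S S := by
    intro b; rw [hxdef]; exact D.cj_fix_iff ha hs₀ hs₀a b
  have hautS : ∀ u ∈ autInducedBy S (PA S a), ∃ i : ℕ, u = x ^ i := by
    rw [hxdef]; exact D.autS_eq ha haZ hs₀ hs₀a
  have hex : ∃ g ∈ F.autGroup (PA S a), g * x * g⁻¹ ∉ Subgroup.zpowers x := by
    by_contra hcon
    push Not at hcon
    apply hNN
    intro g hg u hu
    obtain ⟨i, hi⟩ := hautS u hu
    have h1 : g * x * g⁻¹ ∈ autInducedBy S (PA S a) :=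
      (Subgroup.zpowers_le.mpr hxS) (hcon g hg)
    rw [hi, ← conj_pow]
    exact Subgroup.pow_mem _ h1 i
  obtain ⟨g, hg, hgx⟩ := hex
  have hcomm : ∀ b b' : PA S a, b * b' = b' * b :=
    fun b b' => Subtype.ext (D.PA_comm ha haZ _ b.2 _ b'.2)
  have hcp : (⟨c, hcP⟩ : PA S a) ^ p = 1 := Subtype.ext D.cp
  have H := D.H1 hS F hF ha haZ hs₀ hs₀a
  obtain ⟨c'', hc''p, hxc'', hA1, hA2, hA4, hA5, d, hd, hdx, hdc, hdfix⟩ :=
    trv_main hcomm (F.autGroup (PA S a)) x hxG ⟨c, hcP⟩ hcp hTx H g hg hgx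
  have hKi : ∀ b : PA S a, (∀ h ∈ F.autGroup (PA S a), x (h b) = h b) →
      (b : Ω) ∈ KK F (PA S a) := by
    intro b hb
    refine ⟨(hfix b).mp (hb 1 (Subgroup.one_mem _)), b.2, fun h hh => ?_⟩
    exact (hfix _).mp (hb h hh)
  have hKii : ∀ (z : Ω) (hz : z ∈ PA S a), z ∈ KK F (PA S a) →
      ∀ h ∈ F.autGroup (PA S a), x (h ⟨z, hz⟩) = h ⟨z, hz⟩ := by
    rintro z hz ⟨-, hzP, hzg⟩ h hh
    exact (hfix _).mpr (hzg h hh)
  refine ⟨(c'' : Ω), c''.2, congrArg Subtype.val hc''p, fun h => hxc'' ((hfix c'').mpr h),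
    ?_, ?_, ?_, ?_, ?_⟩
  · intro z hz
    obtain ⟨k, hk⟩ := hA1 ⟨z, ZS_le_PA ha hz⟩ ((hfix _).mpr hz)
    exact ⟨k, hKi _ hk⟩
  · intro k hk
    have h1 := hA2 k (hKii (c ^ k) ((PA S a).pow_mem hcP k) hk)
    exact congrArg Subtype.val h1
  · intro b hb
    obtain ⟨i, j, hij⟩ := hA4 ⟨b, hb⟩
    exact ⟨i, j, hKi _ hij⟩
  · intro h hh
    obtain ⟨⟨i, j, hij⟩, ⟨i', j', hij'⟩⟩ := hA5 h hh
    exact ⟨fun _ => ⟨i, j, congrArg Subtype.val hij⟩,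
      fun _ => ⟨i', j', congrArg Subtype.val hij'⟩⟩
  · have hdn : ∀ u ∈ autInducedBy S (PA S a), d * u * d⁻¹ ∈ autInducedBy S (PA S a) := by
      intro u hu
      obtain ⟨i, hi⟩ := hautS u hu
      have e : d * x * d⁻¹ = x := by rw [hdx, mul_inv_cancel_right]
      rw [hi, ← conj_pow, e]
      exact Subgroup.pow_mem _ hxS i
    have hrec := (sat_of_fullyNormalized hS F hF (D.PA_fn F ha)).2.2
    obtain ⟨δ, hδ, hδd⟩ := ext_to_S F PA_le hrec (D.normalizes (ZS_le_PA ha) PA_le) hd hdn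
    refine ⟨δ, hδ, fun hc => ?_, fun z hz hzS => ?_⟩
    · exact (hδd ⟨c, hcP⟩).trans (by rw [hdc]; rfl)
    · have hzP : z ∈ PA S a := ZS_le_PA ha hz.1
      exact (hδd ⟨z, hzP⟩).trans (congrArg Subtype.val (hdfix _ (hKii z hzP hz)))

theorem NN_of_radical [Finite S] [Fact p.Prime] (hS : IsPGroup p S) (D : CIData S p c)
    (F : FusionSystem S) {a : Ω} (ha : a ∈ S) (haZ : a ∉ centralizerIn S S)
    (hrad : F.IsRadical p (PA S a)) : NN F (PA S a) := by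
  intro h
  obtain ⟨s₀, hs₀, hs₀a⟩ := D.exists_not_comm ha haZ
  have hTn : ((autInducedBy S (PA S a)).subgroupOf (F.autGroup (PA S a))).Normal := by
    constructor
    intro n hn g
    rw [Subgroup.mem_subgroupOf] at hn ⊢
    exact h g g.2 n hn
  have hTp : IsPGroup p ((autInducedBy S (PA S a)).subgroupOf (F.autGroup (PA S a))) :=
    (isPGroup_autInducedBy hS (PA S a)).comap_of_injective _ (Subgroup.subtype_injective _)
  have hx : cj D ha s₀ hs₀ ∈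
      (pCore p (F.autGroup (PA S a))).map (F.autGroup (PA S a)).subtype :=
    ⟨⟨cj D ha s₀ hs₀, autInducedBy_le_autGroup F PA_le (cj_mem D ha s₀ hs₀)⟩,
      le_pCore' hTn hTp (Subgroup.mem_subgroupOf.mpr (cj_mem D ha s₀ hs₀)), rfl⟩
  rw [hrad.2] at hx
  obtain ⟨b, hb⟩ := MonoidHom.mem_range.mp hx
  apply D.cj_ne_one ha hs₀ hs₀a
  rw [← hb]
  refine MulEquiv.ext fun t => ?_
  show b * t * b⁻¹ = t
  have e : b * t = t * b := Subtype.ext (D.PA_comm ha haZ _ b.2 _ t.2)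
  rw [e, mul_inv_cancel_right]

theorem frc_cases [Finite S] [Fact p.Prime] (hS : IsPGroup p S) (D : CIData S p c)
    (F : FusionSystem S) {R : Subgroup Ω} (hrec : F.IsReceptive R) (hcen : F.IsCentric R)
    (hrad : F.IsRadical p R) :
    R = S ∨ ∃ a ∈ S, a ∉ centralizerIn S S ∧ R = PA S a ∧ NN F (PA S a) := by
  have hRS := hrec.1
  have hZR : centralizerIn S S ≤ R := ZS_le_centric F hRS hcen
  rcases D.mid_cases hZR hRS with h1 | h1 | ⟨a, ha, haZ, h1⟩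
  · exact Or.inl h1
  · left
    apply le_antisymm hRS
    intro s hs
    apply hcen.2 R (isConj_refl F hRS)
    rw [mem_centralizerIn_iff]
    exact ⟨hs, fun x hx => ((mem_centralizerIn_iff.mp (h1 hx)).2 s hs).symm⟩
  · right
    refine ⟨a, ha, haZ, h1, ?_⟩
    rw [h1] at hrad
    exact NN_of_radical hS D F ha haZ hrad

theorem NN_exp [Finite S] [Fact p.Prime] (hS : IsPGroup p S) (D : CIData S p c)
    (F : FusionSystem S) (hF : F.IsSaturated p)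
    (hZp : ∀ z ∈ centralizerIn S S, z ^ p = 1) {a : Ω} (ha : a ∈ S)
    (haZ : a ∉ centralizerIn S S) (hNN : NN F (PA S a)) : ∀ b ∈ PA S a, b ^ p = 1 := by
  obtain ⟨c', hc'P, hc'p, -, -, -, h4, -⟩ := NN_main hS D F hF ha haZ hNN
  intro b hb
  obtain ⟨i, j, hij⟩ := h4 b hb
  have hcP : c ∈ PA S a := ZS_le_PA ha D.cZ
  have h1 := hZp _ hij.1
  have c1 : Commute (b * c ^ i) (c' ^ j) :=
    D.PA_comm ha haZ _ ((PA S a).mul_mem hb ((PA S a).pow_mem hcP i)) _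
      ((PA S a).pow_mem hc'P j)
  have c2 : Commute b (c ^ i) := D.PA_comm ha haZ _ hb _ ((PA S a).pow_mem hcP i)
  rw [c1.mul_pow, c2.mul_pow, ← pow_mul, ← pow_mul, mul_comm i p, mul_comm j p, pow_mul,
    pow_mul, D.cp, hc'p, one_pow, one_pow, mul_one, mul_one] at h1
  exact h1

theorem ZS_pow_eq_one [Finite S] [Fact p.Prime] (hS : IsPGroup p S) (D : CIData S p c)
    (F : FusionSystem S) (hF : F.IsSaturated p) (hQ : QQ F = ⊥) :
    ∀ z ∈ centralizerIn S S, z ^ p = 1 := by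
  intro z hz
  have hzS := (mem_centralizerIn_iff.mp hz).1
  have hmem : z ^ p ∈ QQ F := by
    apply mem_QQ_of D F ((centralizerIn S S).pow_mem hz p)
    intro a ha haZ
    by_cases hNN : NN F (PA S a)
    · obtain ⟨c', -, -, -, h1, -⟩ := NN_main hS D F hF ha haZ hNN
      obtain ⟨k, hk⟩ := h1 z hz
      have h2 := (KK F (PA S a)).pow_mem hk p
      have hc : Commute z (c ^ k) :=
        (show Commute z c from (mem_centralizerIn_iff.mp D.cZ).2 z hzS).pow_right k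
      have e : (z * c ^ k) ^ p = z ^ p := by
        rw [hc.mul_pow, ← pow_mul, mul_comm k p, pow_mul, D.cp, one_pow, mul_one]
      rwa [e] at h2
    · exact KK_of_not_NN hS D F hF ha hNN ((centralizerIn S S).pow_mem hz p)
  rw [hQ, Subgroup.mem_bot] at hmem
  exact hmem

end CI4

end Cfsg.Agent.Helper26
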