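import Mathlib
import Cfsg.Agent.Helper26.FusFactor

set_option autoImplicit false

namespace Cfsg.Agent.Helper26

open Cfsg Cfsg.FusionSystem

variable {Ω : Type*} [Group Ω] {S : Subgroup Ω}

theorem pow_semiconj {A B : Type*} [Group A] [Group B] (f : A → B) (a : MulAut A) (a' : MulAut B)
    (h : ∀ x, a' (f x) = f (a x)) (n : ℕ) : ∀ x, (a' ^ n) (f x) = f ((a ^ n) x) := by
  induction n with
  | zero => intro x; simp
  | succ n ih =>
    intro x
    rw [pow_succ, pow_succ, MulAut.mul_apply, MulAut.mul_apply, h, ih]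

/-- A generator of the hyperfocal subgroup. -/
theorem mem_hyperfocal (F : FusionSystem S) (p : ℕ) {P : Subgroup Ω} (hP : P ≤ S) {a : MulAut P}
    (ha : a ∈ F.autGroup P) (hco : Nat.Coprime (orderOf a) p) (x : P) :
    (x : Ω)⁻¹ * ((a x : P) : Ω) ∈ F.hyperfocalSubgroup p := by
  refine Subgroup.subset_closure ⟨P, ⟨a, ha⟩, x, hP, ?_, rfl⟩
  refine Subgroup.subset_closure ?_
  show Nat.Coprime (orderOf (⟨a, ha⟩ : F.autGroup P)) p
  rw [← Subgroup.orderOf_coe]; exact hco

/-- The hyperfocal subgroup lies in `K` as soon as every automorphism of order prime to `p`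
acts trivially modulo `K`. -/
theorem hyperfocal_le (F : FusionSystem S) (p : ℕ) (K : Subgroup Ω)
    (h : ∀ (P : Subgroup Ω), P ≤ S → ∀ a ∈ F.autGroup P, Nat.Coprime (orderOf a) p →
      ∀ x : P, (x : Ω)⁻¹ * ((a x : P) : Ω) ∈ K) : F.hyperfocalSubgroup p ≤ K := by
  refine (Subgroup.closure_le K).2 ?_
  rintro y ⟨P, α, x, hP, hα, rfl⟩
  have h1 : pResidual p (F.autGroup P) ≤ (stabMod P K).subgroupOf (F.autGroup P) := by
    refine (Subgroup.closure_le _).2 ?_
    intro g hg
    rw [SetLike.mem_coe, Subgroup.mem_subgroupOf]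
    intro x
    exact h P hP g.1 g.2 (by rw [Subgroup.orderOf_coe]; exact hg) x
  exact (Subgroup.mem_subgroupOf.1 (h1 hα)) x

end Cfsg.Agent.Helper26
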