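import Mathlib
import Cfsg.Agent.Helper26.CI4
import Cfsg.Agent.Helper26.FusHyp

set_option autoImplicit false

namespace Cfsg.Agent.Helper26

open Cfsg Cfsg.FusionSystem

section CI5

variable {Ω : Type*} [Group Ω] {S : Subgroup Ω} {p : ℕ} {c : Ω}

theorem pow_two_cases {G : Type*} [Monoid G] {x : G} (h : x ^ 2 = 1) (i : ℕ) :
    x ^ i = 1 ∨ x ^ i = x := by
  obtain ⟨m, hm | hm⟩ := Nat.even_or_odd' i
  · left; rw [hm, pow_mul, h, one_pow]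
  · right; rw [hm, pow_succ, pow_mul, h, one_pow, one_mul]

/-- a power prime to `p` of an `F`-automorphism of `S` is inner. -/
theorem autS_pow_coprime [Finite S] [Fact p.Prime] (hS : IsPGroup p S) (F : FusionSystem S)
    (hF : F.IsSaturated p) {β : MulAut S} (hβ : β ∈ F.autGroup S) :
    ∃ n : ℕ, ¬ p ∣ n ∧ β ^ n ∈ autInducedBy S S := by
  obtain ⟨-, R, hR⟩ := (sat_of_fullyNormalized hS F hF (fullyNormalized_self F)).2.1
  have hRn : ((autInducedBy S S).subgroupOf (F.autGroup S)).Normal := by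
    constructor
    intro n hn g
    rw [Subgroup.mem_subgroupOf] at hn ⊢
    obtain ⟨s, hs, hsu⟩ := (mem_autInducedBy_iff S S _).mp hn
    rw [mem_autInducedBy_iff]
    refine ⟨(((g : MulAut S) ⟨s, hs⟩ : S) : Ω), ((g : MulAut S) ⟨s, hs⟩).2, fun x => ?_⟩
    have e1 : (n : MulAut S) ((g : MulAut S)⁻¹ x)
        = ⟨s, hs⟩ * ((g : MulAut S)⁻¹ x) * (⟨s, hs⟩ : S)⁻¹ := Subtype.ext (hsu _)
    show (((g : MulAut S) ((n : MulAut S) ((g : MulAut S)⁻¹ x)) : S) : Ω) = _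
    rw [e1, map_mul, map_mul, map_inv, MulAut.apply_inv_self]
    rfl
  haveI : (R : Subgroup (F.autGroup S)).Normal := by rw [hR]; exact hRn
  have h0 := Sylow.not_dvd_index R
  have h1 := Subgroup.pow_index_mem (R : Subgroup (F.autGroup S)) ⟨β, hβ⟩
  generalize (R : Subgroup (F.autGroup S)).index = n at h0 h1
  rw [hR, Subgroup.mem_subgroupOf] at h1
  exact ⟨n, h0, h1⟩

theorem odd_aux (D : CIData S p c) {K : Subgroup Ω}
    (h1 : ∀ z ∈ centralizerIn S S, ∃ k : ℕ, z * c ^ k ∈ K)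
    {δ : MulAut S} (hc : ∀ hc : c ∈ S, ((δ ⟨c, hc⟩ : S) : Ω) = c⁻¹)
    (hf : ∀ z ∈ K, ∀ hz : z ∈ S, ((δ ⟨z, hz⟩ : S) : Ω) = z)
    {z : Ω} (hz : z ∈ centralizerIn S S) (hzS : z ∈ S) :
    ∃ m : ℕ, ((δ ⟨z, hzS⟩ : S) : Ω) = z * c ^ m := by
  have hcS : c ∈ S := (mem_centralizerIn_iff.mp D.cZ).1
  obtain ⟨k, hk⟩ := h1 z hz
  have hkS : z * c ^ k ∈ S := S.mul_mem hzS (S.pow_mem hcS k)
  have h2 := hf _ hk hkS
  have e : (⟨z * c ^ k, hkS⟩ : S) = ⟨z, hzS⟩ * ⟨c, hcS⟩ ^ k := rfl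
  rw [e, map_mul, map_pow, Subgroup.coe_mul, Subgroup.coe_pow, hc hcS] at h2
  refine ⟨k + k, ?_⟩
  rw [pow_add, ← mul_assoc, ← h2, inv_pow, inv_mul_cancel_right]

theorem odd_unique [Finite S] [Fact p.Prime] (hS : IsPGroup p S) (D : CIData S p c)
    (F : FusionSystem S) (hF : F.IsSaturated p) (hp2 : p ≠ 2)
    {K₁ K₂ : Subgroup Ω} (hK₂Z : K₂ ≤ centralizerIn S S)
    (h1 : ∀ z ∈ centralizerIn S S, ∃ k : ℕ, z * c ^ k ∈ K₁)
    (h2 : ∀ z ∈ centralizerIn S S, ∃ k : ℕ, z * c ^ k ∈ K₂)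
    {δ₁ δ₂ : MulAut S} (hδ₁ : δ₁ ∈ F.autGroup S) (hδ₂ : δ₂ ∈ F.autGroup S)
    (hc₁ : ∀ hc : c ∈ S, ((δ₁ ⟨c, hc⟩ : S) : Ω) = c⁻¹)
    (hc₂ : ∀ hc : c ∈ S, ((δ₂ ⟨c, hc⟩ : S) : Ω) = c⁻¹)
    (hf₁ : ∀ z ∈ K₁, ∀ hz : z ∈ S, ((δ₁ ⟨z, hz⟩ : S) : Ω) = z)
    (hf₂ : ∀ z ∈ K₂, ∀ hz : z ∈ S, ((δ₂ ⟨z, hz⟩ : S) : Ω) = z) : K₂ ≤ K₁ := by
  have hpp : p.Prime := Fact.out
  have hcS : c ∈ S := (mem_centralizerIn_iff.mp D.cZ).1
  obtain ⟨cS, hcSdef⟩ : ∃ cS : S, cS = ⟨c, hcS⟩ := ⟨_, rfl⟩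
  have hcSp : cS ^ p = 1 := by rw [hcSdef]; exact Subtype.ext D.cp
  have hd1 : δ₁ cS = cS⁻¹ := by rw [hcSdef]; exact Subtype.ext (hc₁ hcS)
  have hd2 : δ₂ cS = cS⁻¹ := by rw [hcSdef]; exact Subtype.ext (hc₂ hcS)
  have hβc : (δ₁ * δ₂) cS = cS := by
    rw [MulAut.mul_apply, hd2, map_inv, hd1, inv_inv]
  obtain ⟨n, hn, hnmem⟩ := autS_pow_coprime hS F hF (Subgroup.mul_mem _ hδ₁ hδ₂)
  obtain ⟨s, hs, hsu⟩ := (mem_autInducedBy_iff S S _).mp hnmem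
  have hβZ : ∀ (z : Ω) (_ : z ∈ centralizerIn S S) (hzS : z ∈ S),
      (δ₁ * δ₂) ⟨z, hzS⟩ = ⟨z, hzS⟩ := by
    intro z hz hzS
    obtain ⟨m₂, hm₂⟩ := odd_aux D h2 hc₂ hf₂ hz hzS
    obtain ⟨m₁, hm₁⟩ := odd_aux D h1 hc₁ hf₁ hz hzS
    have e2 : δ₂ ⟨z, hzS⟩ = ⟨z, hzS⟩ * cS ^ m₂ := by rw [hcSdef]; exact Subtype.ext hm₂
    have e1 : δ₁ ⟨z, hzS⟩ = ⟨z, hzS⟩ * cS ^ m₁ := by rw [hcSdef]; exact Subtype.ext hm₁
    have hx : (δ₁ * δ₂) ⟨z, hzS⟩ = ⟨z, hzS⟩ * (cS ^ m₁ * (cS ^ m₂)⁻¹) := by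
      rw [MulAut.mul_apply, e2, map_mul, map_pow, hd1, e1, inv_pow, mul_assoc]
    have hy : (δ₁ * δ₂) (cS ^ m₁ * (cS ^ m₂)⁻¹) = cS ^ m₁ * (cS ^ m₂)⁻¹ := by
      rw [map_mul, map_inv, map_pow, map_pow, hβc]
    have hyp : (cS ^ m₁ * (cS ^ m₂)⁻¹) ^ p = 1 := by
      have hc : Commute (cS ^ m₁) ((cS ^ m₂)⁻¹) := (Commute.pow_pow_self cS m₁ m₂).inv_right
      rw [hc.mul_pow, inv_pow, ← pow_mul, ← pow_mul, mul_comm m₁ p, mul_comm m₂ p, pow_mul,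
        pow_mul, hcSp, one_pow, one_pow, inv_one, mul_one]
    have h3 := aut_pow_apply_of_fixed (δ₁ * δ₂) _ _ hx hy n
    have h4 : ((δ₁ * δ₂) ^ n) ⟨z, hzS⟩ = ⟨z, hzS⟩ := by
      apply Subtype.ext
      rw [hsu]
      have h5 := (mem_centralizerIn_iff.mp hz).2 s hs
      show s * z * s⁻¹ = z
      rw [h5, mul_inv_cancel_right]
    rw [h4] at h3
    have hyn : (cS ^ m₁ * (cS ^ m₂)⁻¹) ^ n = 1 :=
      mul_left_cancel (h3.symm.trans (mul_one _).symm)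
    have hy1 : cS ^ m₁ * (cS ^ m₂)⁻¹ = 1 := by
      have hd := Nat.dvd_gcd (orderOf_dvd_of_pow_eq_one hyp) (orderOf_dvd_of_pow_eq_one hyn)
      rw [Nat.Coprime.gcd_eq_one ((Nat.Prime.coprime_iff_not_dvd hpp).mpr hn)] at hd
      exact orderOf_eq_one_iff.mp (Nat.dvd_one.mp hd)
    rw [hx, hy1, mul_one]
  intro b hb
  have hbZ := hK₂Z hb
  have hbS := (mem_centralizerIn_iff.mp hbZ).1
  have e2 : δ₂ ⟨b, hbS⟩ = ⟨b, hbS⟩ := Subtype.ext (hf₂ b hb hbS)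
  have e1 : δ₁ ⟨b, hbS⟩ = ⟨b, hbS⟩ := by
    have h := hβZ b hbZ hbS
    rwa [MulAut.mul_apply, e2] at h
  obtain ⟨k, hk⟩ := h1 b hbZ
  have hkS : b * c ^ k ∈ S := S.mul_mem hbS (S.pow_mem hcS k)
  have h3 := hf₁ _ hk hkS
  have e : (⟨b * c ^ k, hkS⟩ : S) = ⟨b, hbS⟩ * ⟨c, hcS⟩ ^ k := rfl
  rw [e, map_mul, map_pow, Subgroup.coe_mul, Subgroup.coe_pow, hc₁ hcS, e1] at h3
  have h4 : c⁻¹ ^ k = c ^ k := mul_left_cancel h3
  have h5 : (c ^ k) ^ 2 = 1 := by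
    rw [pow_two]
    nth_rewrite 1 [← h4]
    rw [inv_pow, inv_mul_cancel]
  have h6 : (c ^ k) ^ p = 1 := by rw [← pow_mul, mul_comm, pow_mul, D.cp, one_pow]
  have h7 : c ^ k = 1 := by
    have hd := Nat.dvd_gcd (orderOf_dvd_of_pow_eq_one h5) (orderOf_dvd_of_pow_eq_one h6)
    rw [Nat.Coprime.gcd_eq_one ((Nat.coprime_primes Nat.prime_two hpp).mpr (Ne.symm hp2))] at hd
    exact orderOf_eq_one_iff.mp (Nat.dvd_one.mp hd)
  rw [h7, mul_one] at hk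
  exact hk

theorem odd_center [Finite S] [Fact p.Prime] (hS : IsPGroup p S) (D : CIData S p c)
    (F : FusionSystem S) (hF : F.IsSaturated p) (hp2 : p ≠ 2) (hQ : QQ F = ⊥)
    {a₁ : Ω} (ha₁ : a₁ ∈ S) (ha₁Z : a₁ ∉ centralizerIn S S) (hNN₁ : NN F (PA S a₁)) :
    ∀ z ∈ KK F (PA S a₁), z = 1 := by
  obtain ⟨c₁, _, _, _, hN1, _, _, _, δ₁, hδ₁, hδ₁c, hδ₁f⟩ := NN_main hS D F hF ha₁ ha₁Z hNN₁
  intro z hz
  have hmem : z ∈ QQ F := by
    apply mem_QQ_of D F hz.1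
    intro a ha haZ
    by_cases hNN : NN F (PA S a)
    · obtain ⟨c₂, _, _, _, hM1, _, _, _, δ₂, hδ₂, hδ₂c, hδ₂f⟩ := NN_main hS D F hF ha haZ hNN
      exact odd_unique hS D F hF hp2
        (show KK F (PA S a₁) ≤ centralizerIn S S from fun w hw => hw.1)
        hM1 hN1 hδ₂ hδ₁ hδ₂c hδ₁c hδ₂f hδ₁f hz
    · exact KK_of_not_NN hS D F hF ha hNN hz.1
  rw [hQ, Subgroup.mem_bot] at hmem
  exact hmem

theorem exists_two [Finite S] [Fact p.Prime] (hS : IsPGroup p S) (D : CIData S p c)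
    (F : FusionSystem S) (hF : F.IsSaturated p) (hcore : F.core = ⊥)
    (hZp : ∀ z ∈ centralizerIn S S, z ^ p = 1) :
    ∃ a₁ ∈ S, ∃ a₂ ∈ S, a₁ ∉ centralizerIn S S ∧ NN F (PA S a₁) ∧ a₁ ^ p = 1 ∧ a₂ ^ p = 1 ∧
      a₂ * a₁ ≠ a₁ * a₂ := by
  have hcS : c ∈ S := (mem_centralizerIn_iff.mp D.cZ).1
  have hbot : ∀ Q : Subgroup Ω, F.IsNormal Q → c ∈ Q → False := by
    intro Q hQ hcQ
    have h1 : Q ≤ F.core := le_sSup hQ
    rw [hcore] at h1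
    exact D.c1 (Subgroup.mem_bot.mp (h1 hcQ))
  have hex : ∃ a₁ ∈ S, a₁ ∉ centralizerIn S S ∧ NN F (PA S a₁) := by
    by_contra hcon
    push Not at hcon
    refine hbot S ?_ hcS
    apply nc_normal hS F hF le_rfl
    · intro s hs q hq
      exact S.mul_mem (S.mul_mem hs hq) (S.inv_mem hs)
    · intro R hfn hfa hrec hcen hrad
      rcases frc_cases hS D F hrec hcen hrad with h1 | ⟨a, ha, haZ, -, hNN⟩
      · exact ⟨h1.ge, fun g hg q hq => hrec.1 (g q).2⟩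
      · exact absurd hNN (hcon a ha haZ)
  obtain ⟨a₁, ha₁, ha₁Z, hNN₁⟩ := hex
  have hE₁ := NN_exp hS D F hF hZp ha₁ ha₁Z hNN₁
  by_contra hcon
  push Not at hcon
  have hall : ∀ t ∈ S, t ^ p = 1 → t ∈ PA S a₁ := by
    intro t ht htp
    exact mem_PA.mpr ⟨ht, hcon a₁ ha₁ t ht ha₁Z hNN₁ (hE₁ a₁ (self_mem_PA ha₁)) htp⟩
  refine hbot (PA S a₁) ?_ (ZS_le_PA ha₁ D.cZ)
  apply nc_normal hS F hF PA_le
  · intro s hs q hq
    exact (Subgroup.mem_normalizer_iff.mp (D.normalizes (ZS_le_PA ha₁) PA_le s hs) q).mp hq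
  · intro R hfn hfa hrec hcen hrad
    rcases frc_cases hS D F hrec hcen hrad with h1 | ⟨a, ha, haZ, h1, hNN⟩
    · have h1' := h1.symm
      subst h1'
      refine ⟨PA_le, fun g hg q hq => ?_⟩
      apply hall _ (g q).2
      have hq1 : q ^ p = 1 := Subtype.ext (hE₁ _ hq)
      have h2 : (g q) ^ p = 1 := by rw [← map_pow, hq1, map_one]
      exact congrArg Subtype.val h2
    · subst h1
      have haP : a ∈ PA S a₁ :=
        hall a ha (NN_exp hS D F hF hZp ha haZ hNN a (self_mem_PA ha))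
      have e := D.PA_eq ha₁ ha₁Z haP haZ
      exact ⟨e.ge, fun g hg q hq => e.le (g q).2⟩

/-- the subgroup `{c^k * x^i * y^j}`. -/
theorem nf_subgroup (D : CIData S 2 c) (hZp : ∀ z ∈ centralizerIn S S, z ^ 2 = 1)
    {x y : Ω} (hx : x ∈ S) (hy : y ∈ S) :
    ∃ V : Subgroup Ω, c ∈ V ∧ x ∈ V ∧ y ∈ V ∧
      ∀ v ∈ V, ∃ k i j : ℕ, v = c ^ k * x ^ i * y ^ j := by
  have hcS : c ∈ S := (mem_centralizerIn_iff.mp D.cZ).1
  have hcc : ∀ t ∈ S, ∀ n : ℕ, Commute t (c ^ n) := fun t ht n =>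
    (show Commute t c from (mem_centralizerIn_iff.mp D.cZ).2 t ht).pow_right n
  have hmul : ∀ v w : Ω, (∃ k i j : ℕ, v = c ^ k * x ^ i * y ^ j) →
      (∃ k i j : ℕ, w = c ^ k * x ^ i * y ^ j) → ∃ k i j : ℕ, v * w = c ^ k * x ^ i * y ^ j := by
    intro v w hv hw
    obtain ⟨k, i, j, hv⟩ := hv
    obtain ⟨k', i', j', hw⟩ := hw
    obtain ⟨m, hm⟩ := D.comm (y ^ j) (S.pow_mem hy j) (x ^ i') (S.pow_mem hx i')
    refine ⟨k + k' + m, i + i', j + j', ?_⟩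
    have hM : y ^ j * x ^ i' = c ^ m * x ^ i' * y ^ j := by rw [← hm]; group
    have hBC : Commute (y ^ j) (c ^ k') := hcc _ (S.pow_mem hy j) k'
    have hA : Commute (x ^ i) (c ^ k' * c ^ m) :=
      (hcc _ (S.pow_mem hx i) k').mul_right (hcc _ (S.pow_mem hx i) m)
    rw [hv, hw, pow_add, pow_add, pow_add, pow_add]
    calc c ^ k * x ^ i * y ^ j * (c ^ k' * x ^ i' * y ^ j')
        = c ^ k * x ^ i * (y ^ j * c ^ k') * x ^ i' * y ^ j' := by group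
      _ = c ^ k * x ^ i * (c ^ k' * y ^ j) * x ^ i' * y ^ j' := by rw [hBC.eq]
      _ = c ^ k * x ^ i * c ^ k' * (y ^ j * x ^ i') * y ^ j' := by group
      _ = c ^ k * x ^ i * c ^ k' * (c ^ m * x ^ i' * y ^ j) * y ^ j' := by rw [hM]
      _ = c ^ k * (x ^ i * (c ^ k' * c ^ m)) * x ^ i' * y ^ j * y ^ j' := by group
      _ = c ^ k * ((c ^ k' * c ^ m) * x ^ i) * x ^ i' * y ^ j * y ^ j' := by rw [hA.eq]
      _ = c ^ k * c ^ k' * c ^ m * (x ^ i * x ^ i') * (y ^ j * y ^ j') := by group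
  have hinv : ∀ v : Ω, (∃ k i j : ℕ, v = c ^ k * x ^ i * y ^ j) →
      ∃ k i j : ℕ, v⁻¹ = c ^ k * x ^ i * y ^ j := by
    intro v hv
    have hvS : v ∈ S := by
      obtain ⟨k, i, j, hv⟩ := hv
      rw [hv]
      exact S.mul_mem (S.mul_mem (S.pow_mem hcS k) (S.pow_mem hx i)) (S.pow_mem hy j)
    have h := hZp _ (D.powZ v hvS)
    have h4 : v * v * v * v = 1 := by
      rw [← h, pow_two, pow_two]; simp only [mul_assoc]
    have e : v⁻¹ = v * v * v := (eq_inv_of_mul_eq_one_left h4).symm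
    rw [e]
    exact hmul _ _ (hmul _ _ hv hv) hv
  refine ⟨{ carrier := {v | ∃ k i j : ℕ, v = c ^ k * x ^ i * y ^ j}
            mul_mem' := fun {a b} ha hb => hmul a b ha hb
            one_mem' := ⟨0, 0, 0, by simp⟩
            inv_mem' := fun {a} ha => hinv a ha },
    (show ∃ k i j : ℕ, c = c ^ k * x ^ i * y ^ j from ⟨1, 0, 0, by simp⟩),
    (show ∃ k i j : ℕ, x = c ^ k * x ^ i * y ^ j from ⟨0, 1, 0, by simp⟩),
    (show ∃ k i j : ℕ, y = c ^ k * x ^ i * y ^ j from ⟨0, 0, 1, by simp⟩),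
    fun v hv => hv⟩

theorem two_local [Finite S] [Fact p.Prime] (hS : IsPGroup p S) (D : CIData S p c)
    (F : FusionSystem S) (hF : F.IsSaturated p)
    (hinn : ∀ α ∈ F.autGroup S, α ∈ autInducedBy S S)
    {a : Ω} (ha : a ∈ S) (haZ : a ∉ centralizerIn S S) (hNN : NN F (PA S a)) :
    ∃ c' ∈ PA S a, c' ^ p = 1 ∧ c' ∉ centralizerIn S S ∧
      ∀ V : Subgroup Ω, c ∈ V → c' ∈ V → ∀ g ∈ F.autGroup (PA S a), ∀ b : PA S a,
        (b : Ω)⁻¹ * ((g b : PA S a) : Ω) ∈ V := by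
  obtain ⟨c', hc'P, hc'p, hc'Z, _, _, hN4, hN5, _⟩ := NN_main hS D F hF ha haZ hNN
  refine ⟨c', hc'P, hc'p, hc'Z, fun V hcV hc'V g hg b => ?_⟩
  have hcP : c ∈ PA S a := ZS_le_PA ha D.cZ
  obtain ⟨-, hfa, hrec⟩ := sat_of_fullyNormalized hS F hF (D.PA_fn F ha)
  obtain ⟨α, hα, h, hh, hhK, hgα⟩ := frattini_decomp F PA_le hfa hrec
      (D.normalizes (ZS_le_PA ha) PA_le) {b : PA S a | (b : Ω) ∈ KK F (PA S a)}
      (by
        rintro b ⟨hb1, hb2, hb3⟩ γ hγ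
        refine ⟨hb3 γ hγ, (γ b).2, fun g' hg' => ?_⟩
        exact hb3 (g' * γ) (Subgroup.mul_mem _ hg' hγ))
      (by
        rintro b ⟨hb1, -, -⟩ u hu
        obtain ⟨s, hs, hsu⟩ := (mem_autInducedBy_iff S (PA S a) u).mp hu
        apply Subtype.ext
        rw [hsu b]
        have h1 := (mem_centralizerIn_iff.mp hb1).2 s hs
        rw [h1, mul_inv_cancel_right])
      hg
  obtain ⟨i, j, hij⟩ := hN4 (b : Ω) b.2
  obtain ⟨i₁, j₁, h1⟩ := (hN5 h hh).1 hcP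
  obtain ⟨i₂, j₂, h2⟩ := (hN5 h hh).2 hc'P
  have hwP : (b : Ω) * c ^ i * c' ^ j ∈ PA S a :=
    (PA S a).mul_mem ((PA S a).mul_mem b.2 ((PA S a).pow_mem hcP i)) ((PA S a).pow_mem hc'P j)
  have hfix := hhK ⟨(b : Ω) * c ^ i * c' ^ j, hwP⟩ hij
  have e : (⟨(b : Ω) * c ^ i * c' ^ j, hwP⟩ : PA S a) = b * ⟨c, hcP⟩ ^ i * ⟨c', hc'P⟩ ^ j := rfl
  rw [e, map_mul, map_mul, map_pow, map_pow] at hfix
  have hfix' := congrArg Subtype.val hfix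
  simp only [Subgroup.coe_mul, Subgroup.coe_pow, h1, h2] at hfix'
  rw [mul_assoc] at hfix'
  have hX : (c ^ i₁ * c' ^ j₁) ^ i * (c ^ i₂ * c' ^ j₂) ^ j ∈ V :=
    V.mul_mem (V.pow_mem (V.mul_mem (V.pow_mem hcV _) (V.pow_mem hc'V _)) _)
      (V.pow_mem (V.mul_mem (V.pow_mem hcV _) (V.pow_mem hc'V _)) _)
  have hY : c ^ i * c' ^ j ∈ V := V.mul_mem (V.pow_mem hcV _) (V.pow_mem hc'V _)
  have e2 : ((h b : PA S a) : Ω) = ↑b * c ^ i * c' ^ j *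
      ((c ^ i₁ * c' ^ j₁) ^ i * (c ^ i₂ * c' ^ j₂) ^ j)⁻¹ := eq_mul_inv_of_mul_eq hfix'
  have hhbV : (b : Ω)⁻¹ * ((h b : PA S a) : Ω) ∈ V := by
    have e1 : (b : Ω)⁻¹ * ((h b : PA S a) : Ω) = c ^ i * c' ^ j *
        ((c ^ i₁ * c' ^ j₁) ^ i * (c ^ i₂ * c' ^ j₂) ^ j)⁻¹ := by
      rw [e2]; simp only [mul_assoc, inv_mul_cancel_left]
    rw [e1]; exact V.mul_mem hY (V.inv_mem hX)
  obtain ⟨s, hs, hsα⟩ := (mem_autInducedBy_iff S S α).mp (hinn α hα)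
  rw [hgα b, hsα]
  show (b : Ω)⁻¹ * (s * ((h b : PA S a) : Ω) * s⁻¹) ∈ V
  obtain ⟨k, hk⟩ := D.comm (((h b : PA S a) : Ω))⁻¹ (S.inv_mem (PA_le (h b).2)) s hs
  rw [inv_inv] at hk
  have e3 : (b : Ω)⁻¹ * (s * ((h b : PA S a) : Ω) * s⁻¹) = ((b : Ω)⁻¹ * ((h b : PA S a) : Ω)) *
      ((((h b : PA S a) : Ω))⁻¹ * s * ((h b : PA S a) : Ω) * s⁻¹) := by group
  rw [e3, hk]
  exact V.mul_mem hhbV (V.pow_mem hcV k)

theorem two_center [Finite S] (hS : IsPGroup 2 S) (D : CIData S 2 c) (F : FusionSystem S)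
    (hF : F.IsSaturated 2) (hQ : QQ F = ⊥) (hhyp : F.hyperfocalSubgroup 2 = S)
    (hZp : ∀ z ∈ centralizerIn S S, z ^ 2 = 1)
    {a₁ : Ω} (ha₁ : a₁ ∈ S) (ha₁Z : a₁ ∉ centralizerIn S S) (hNN₁ : NN F (PA S a₁)) :
    ∀ z ∈ KK F (PA S a₁), z = 1 := by
  intro z hz
  by_contra hz1
  have hcS : c ∈ S := (mem_centralizerIn_iff.mp D.cZ).1
  have hcc : ∀ t ∈ S, t * c = c * t := (mem_centralizerIn_iff.mp D.cZ).2
  have hzZ : z ∈ centralizerIn S S := hz.1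
  have hzS : z ∈ S := (mem_centralizerIn_iff.mp hzZ).1
  have h1 : z ∉ QQ F := by rw [hQ, Subgroup.mem_bot]; exact hz1
  have h2 : ∃ a₂ ∈ S, a₂ ∉ centralizerIn S S ∧ z ∉ KK F (PA S a₂) := by
    by_contra hcon
    push Not at hcon
    exact h1 (mem_QQ_of D F hzZ hcon)
  obtain ⟨a₂, ha₂, ha₂Z, hz₂⟩ := h2
  have hNN₂ : NN F (PA S a₂) := by
    by_contra hn
    exact hz₂ (KK_of_not_NN hS D F hF ha₂ hn hzZ)
  have h21 : a₂ * a₁ ≠ a₁ * a₂ := by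
    intro h
    have e := D.PA_eq ha₁ ha₁Z (mem_PA.mpr ⟨ha₂, h⟩) ha₂Z
    rw [e] at hz₂
    exact hz₂ hz
  have hE₁ := NN_exp hS D F hF hZp ha₁ ha₁Z hNN₁
  have hE₂ := NN_exp hS D F hF hZp ha₂ ha₂Z hNN₂
  have ha₁2 : a₁ ^ 2 = 1 := hE₁ a₁ (self_mem_PA ha₁)
  have ha₂2 : a₂ ^ 2 = 1 := hE₂ a₂ (self_mem_PA ha₂)
  have ha₁m : a₁ * a₁ = 1 := by rw [← pow_two]; exact ha₁2
  have ha₂m : a₂ * a₂ = 1 := by rw [← pow_two]; exact ha₂2
  have ha₁i : a₁⁻¹ = a₁ := inv_eq_of_mul_eq_one_right ha₁m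
  have ha₂i : a₂⁻¹ = a₂ := inv_eq_of_mul_eq_one_right ha₂m
  have hcm : c * c = 1 := by rw [← pow_two]; exact D.cp
  have hci : c⁻¹ = c := inv_eq_of_mul_eq_one_right hcm
  have hzm : z * z = 1 := by rw [← pow_two]; exact hZp z hzZ
  obtain ⟨_, _, _, _, hN1, hN2, _, _, _⟩ := NN_main hS D F hF ha₁ ha₁Z hNN₁
  obtain ⟨_, _, _, _, hM1, _, _, _, _⟩ := NN_main hS D F hF ha₂ ha₂Z hNN₂
  have hcK₁ : c ∉ KK F (PA S a₁) := by
    intro h
    have h' := hN2 1 (by rw [pow_one]; exact h)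
    rw [pow_one] at h'
    exact D.c1 h'
  have hzc : z ≠ c := fun h => hcK₁ (h ▸ hz)
  have hpar : ∀ k : ℕ, c ^ k = 1 ∨ c ^ k = c := pow_two_cases D.cp
  obtain ⟨k₀, hk₀⟩ := D.comm a₂ ha₂ a₁ ha₁
  have hcomm21 : a₂ * a₁ * a₂⁻¹ * a₁⁻¹ = c := by
    rcases hpar k₀ with e | e
    · exfalso
      rw [e] at hk₀
      apply h21
      have h3 := mul_inv_eq_one.mp hk₀
      exact mul_inv_eq_iff_eq_mul.mp h3
    · rw [hk₀, e]
  have hcomm21' : a₂ * a₁ * a₂ * a₁ = c := by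
    rw [ha₂i, ha₁i] at hcomm21; exact hcomm21
  have hNNc : ∀ a ∈ S, a ∉ centralizerIn S S → NN F (PA S a) →
      PA S a = PA S a₁ ∨ PA S a = PA S a₂ := by
    intro a ha haZ hNN
    have ha2 : a ^ 2 = 1 := NN_exp hS D F hF hZp ha haZ hNN a (self_mem_PA ha)
    obtain ⟨i, j, z', hz', haz⟩ := D.gen a₁ ha₁ a₂ ha₂ h21 a ha
    have hz'P₁ := ZS_le_PA ha₁ hz'
    have hz'P₂ := ZS_le_PA ha₂ hz'
    rcases pow_two_cases ha₂2 i with e | e <;> rcases pow_two_cases ha₁2 j with e' | e' <;>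
      rw [e, e'] at haz
    · exfalso; apply haZ; rw [haz, one_mul, one_mul]; exact hz'
    · have haP : a ∈ PA S a₁ := by
        rw [haz, one_mul]; exact (PA S a₁).mul_mem (self_mem_PA ha₁) hz'P₁
      exact Or.inl (D.PA_eq ha₁ ha₁Z haP haZ)
    · have haP : a ∈ PA S a₂ := by
        rw [haz, mul_one]; exact (PA S a₂).mul_mem (self_mem_PA ha₂) hz'P₂
      exact Or.inr (D.PA_eq ha₂ ha₂Z haP haZ)
    · exfalso
      apply D.c1
      have hz'c := (mem_centralizerIn_iff.mp hz').2 (a₂ * a₁) (S.mul_mem ha₂ ha₁)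
      have hz'm : z' * z' = 1 := by rw [← pow_two]; exact hZp z' hz'
      calc c = a₂ * a₁ * a₂ * a₁ := hcomm21'.symm
        _ = a₂ * a₁ * (a₂ * a₁) * (z' * z') := by rw [hz'm, mul_one]; simp only [mul_assoc]
        _ = a₂ * a₁ * (z' * (a₂ * a₁)) * z' := by rw [← hz'c]; simp only [mul_assoc]
        _ = a ^ 2 := by rw [haz, pow_two]; simp only [mul_assoc]
        _ = 1 := ha2
  have hA : ∀ w ∈ KK F (PA S a₁), w ∈ KK F (PA S a₂) → w = 1 := by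
    intro w hw1 hw2
    have hmem : w ∈ QQ F := by
      apply mem_QQ_of D F hw1.1
      intro a ha haZ
      by_cases hNN : NN F (PA S a)
      · rcases hNNc a ha haZ hNN with e | e
        · rw [e]; exact hw1
        · rw [e]; exact hw2
      · exact KK_of_not_NN hS D F hF ha hNN hw1.1
    rw [hQ, Subgroup.mem_bot] at hmem
    exact hmem
  have hzc₂ : z * c ∈ KK F (PA S a₂) := by
    obtain ⟨k, hk⟩ := hM1 z hzZ
    rcases hpar k with e | e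
    · rw [e, mul_one] at hk; exact absurd hk hz₂
    · rw [e] at hk; exact hk
  have hK1 : ∀ w ∈ KK F (PA S a₁), w = 1 ∨ w = z := by
    intro w hw
    obtain ⟨k, hk⟩ := hM1 w hw.1
    rcases hpar k with e | e
    · rw [e, mul_one] at hk; exact Or.inl (hA w hw hk)
    · rw [e] at hk
      right
      have h3 : w * z⁻¹ ∈ KK F (PA S a₂) := by
        have h4 := (KK F (PA S a₂)).mul_mem hk ((KK F (PA S a₂)).inv_mem hzc₂)
        have e5 : w * c * (z * c)⁻¹ = w * z⁻¹ := by group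
        rwa [e5] at h4
      have h5 := hA _ ((KK F (PA S a₁)).mul_mem hw ((KK F (PA S a₁)).inv_mem hz)) h3
      exact mul_inv_eq_one.mp h5
  have hZall : ∀ w ∈ centralizerIn S S, w = 1 ∨ w = c ∨ w = z ∨ w = c * z := by
    intro w hw
    obtain ⟨k, hk⟩ := hN1 w hw
    rcases hK1 _ hk with e | e <;> rcases hpar k with e' | e' <;> rw [e'] at e
    · left; rwa [mul_one] at e
    · right; left
      have h3 := eq_inv_of_mul_eq_one_left e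
      rwa [hci] at h3
    · right; right; left; rwa [mul_one] at e
    · right; right; right
      have h3 : w = z * c⁻¹ := eq_mul_inv_of_mul_eq e
      rw [h3, hci]
      exact hcc z hzS
  have hinn : ∀ α ∈ F.autGroup S, α ∈ autInducedBy S S := by
    intro α hα
    have h4 : α ^ 4 = 1 := by
      apply g16_aut_pow (⟨c, hcS⟩ : S) ⟨z, hzS⟩ ⟨a₁, ha₁⟩ ⟨a₂, ha₂⟩
      · intro w hw
        have hw' := (mem_ZS_iff w.2).mpr hw
        rcases hZall (w : Ω) hw' with e | e | e | e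
        · exact Or.inl (Subtype.ext e)
        · exact Or.inr (Or.inl (Subtype.ext e))
        · exact Or.inr (Or.inr (Or.inl (Subtype.ext e)))
        · exact Or.inr (Or.inr (Or.inr (Subtype.ext e)))
      · exact (mem_ZS_iff hcS).mp D.cZ
      · exact (mem_ZS_iff hzS).mp hzZ
      · exact Subtype.ext hcm
      · exact Subtype.ext hzm
      · exact fun h => D.c1 (congrArg Subtype.val h)
      · exact fun h => hz1 (congrArg Subtype.val h)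
      · exact fun h => hzc (congrArg Subtype.val h)
      · exact Subtype.ext ha₁m
      · exact Subtype.ext ha₂m
      · exact Subtype.ext hcomm21
      · intro g h
        obtain ⟨k, hk⟩ := D.comm g g.2 h h.2
        rcases hpar k with e | e
        · left; apply Subtype.ext; rw [e] at hk; exact hk
        · right; apply Subtype.ext; rw [e] at hk; exact hk
      · intro g
        obtain ⟨i, j, w, hw, hg⟩ := D.gen a₁ ha₁ a₂ ha₂ h21 g g.2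
        exact ⟨i, j, ⟨w, (mem_centralizerIn_iff.mp hw).1⟩, (mem_ZS_iff _).mp hw, Subtype.ext hg⟩
    obtain ⟨n, hn, hnmem⟩ := autS_pow_coprime hS F hF hα
    obtain ⟨m, hm | hm⟩ := Nat.even_or_odd' n
    · exact absurd (by rw [hm]; exact dvd_mul_right 2 m) hn
    · have e : α = (α ^ n) ^ n := by
        rw [← pow_mul, hm]
        have e2 : (2 * m + 1) * (2 * m + 1) = 4 * (m * m + m) + 1 := by ring
        rw [e2, pow_succ, pow_mul, h4, one_pow, one_mul]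
      rw [e]
      exact Subgroup.pow_mem _ hnmem n
  obtain ⟨c₁, hc₁P, hc₁p, hc₁Z, hV₁⟩ := two_local hS D F hF hinn ha₁ ha₁Z hNN₁
  obtain ⟨c₂, hc₂P, hc₂p, hc₂Z, hV₂⟩ := two_local hS D F hF hinn ha₂ ha₂Z hNN₂
  have hc₁S := PA_le hc₁P
  have hc₂S := PA_le hc₂P
  obtain ⟨V, hcV, hc₂V, hc₁V, hVnf⟩ := nf_subgroup D hZp hc₂S hc₁S
  have key₁ : ∀ R : Subgroup Ω, R = PA S a₁ → ∀ g ∈ F.autGroup R, ∀ b : R,
      (b : Ω)⁻¹ * ((g b : R) : Ω) ∈ V := by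
    intro R hR; subst hR; exact hV₁ V hcV hc₁V
  have key₂ : ∀ R : Subgroup Ω, R = PA S a₂ → ∀ g ∈ F.autGroup R, ∀ b : R,
      (b : Ω)⁻¹ * ((g b : R) : Ω) ∈ V := by
    intro R hR; subst hR; exact hV₂ V hcV hc₂V
  have hcomV : ∀ x ∈ S, ∀ g ∈ S, x⁻¹ * (g * x * g⁻¹) ∈ V := by
    intro x hx g hg
    obtain ⟨k, hk⟩ := D.comm x⁻¹ (S.inv_mem hx) g hg
    rw [inv_inv] at hk
    have e : x⁻¹ * (g * x * g⁻¹) = x⁻¹ * g * x * g⁻¹ := by group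
    rw [e, hk]; exact V.pow_mem hcV k
  have key₀ : ∀ R : Subgroup Ω, S = R → ∀ g ∈ F.autGroup R, ∀ b : R,
      (b : Ω)⁻¹ * ((g b : R) : Ω) ∈ V := by
    intro R hR; subst hR
    intro g hg b
    obtain ⟨s, hs, hsα⟩ := (mem_autInducedBy_iff S S g).mp (hinn g hg)
    rw [hsα]
    exact hcomV _ b.2 s hs
  let E : FusionSystem S := subSys F (fun P φ => ∀ x : P, (x : Ω)⁻¹ * φ x ∈ V)
    (by
      intro P g hP hg x
      show (x : Ω)⁻¹ * (g * x * g⁻¹) ∈ V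
      exact hcomV _ (hP x.2) g hg)
    (by
      intro P Q φ ψ hφ hψ h1 h2 h x
      have e : (x : Ω)⁻¹ * (ψ.comp (φ.codRestrict Q h)) x
          = ((x : Ω)⁻¹ * φ x) * ((φ x)⁻¹ * ψ ⟨φ x, h x⟩) := by
        show (x : Ω)⁻¹ * ψ ⟨φ x, h x⟩ = _
        group
      rw [e]
      exact V.mul_mem (h1 x) (h2 ⟨φ x, h x⟩))
    (by
      rintro P φ hφ h1 ψ hψ hψx ⟨_, x, rfl⟩
      rw [hψx x]
      have e : (φ x)⁻¹ * (x : Ω) = ((x : Ω)⁻¹ * φ x)⁻¹ := by group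
      show (φ x)⁻¹ * (x : Ω) ∈ _
      rw [e]
      exact V.inv_mem (h1 x))
  have hle : F ≤ E := alperin hS F hF E (by
    intro R hfn hfa hrec hcen hrad α hα
    have hRS := hrec.1
    have hα' := (mem_autGroup_iff F hRS α).1 hα
    rw [mem_autGroup_iff _ hRS]
    refine ⟨hα', fun x => ?_⟩
    show (x : Ω)⁻¹ * ((α x : R) : Ω) ∈ V
    rcases frc_cases hS D F hrec hcen hrad with h1 | ⟨a, ha, haZ, h1, hNN⟩
    · exact key₀ R h1.symm α hα x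
    · rcases hNNc a ha haZ hNN with e | e
      · exact key₁ R (h1.trans e) α hα x
      · exact key₂ R (h1.trans e) α hα x)
  have hSV : S ≤ V := by
    refine hhyp.symm.le.trans (hyperfocal_le F 2 V ?_)
    intro P hP a ha _ x
    exact (show P.subtype.comp a.toMonoidHom ∈ F.Hom P ∧
      ∀ x : P, (x : Ω)⁻¹ * (P.subtype.comp a.toMonoidHom) x ∈ V from
        hle P ((mem_autGroup_iff F hP a).1 ha)).2 x
  obtain ⟨k, i, j, hzv⟩ := hVnf z (hSV hzS)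
  have hwZ : (c ^ k)⁻¹ * z ∈ centralizerIn S S :=
    (centralizerIn S S).mul_mem
      ((centralizerIn S S).inv_mem ((centralizerIn S S).pow_mem D.cZ k)) hzZ
  have hw : (c ^ k)⁻¹ * z = c₂ ^ i * c₁ ^ j := by rw [hzv]; group
  rcases pow_two_cases hc₂p i with ei | ei <;> rcases pow_two_cases hc₁p j with ej | ej <;>
    rw [ei, ej] at hw
  · rw [mul_one] at hw
    have h3 : c ^ k = z := inv_mul_eq_one.mp hw
    rcases hpar k with e | e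
    · exact hz1 (h3.symm.trans e)
    · exact hzc (h3.symm.trans e)
  · rw [one_mul] at hw
    exact hc₁Z (hw ▸ hwZ)
  · rw [mul_one] at hw
    exact hc₂Z (hw ▸ hwZ)
  · have hc₂P₁ : c₂ ∈ PA S a₁ := by
      have e : c₂ = (c ^ k)⁻¹ * z * c₁⁻¹ := by rw [hw]; group
      rw [e]
      exact (PA S a₁).mul_mem (ZS_le_PA ha₁ hwZ) ((PA S a₁).inv_mem hc₁P)
    have e1 := D.PA_eq ha₁ ha₁Z hc₂P₁ hc₂Z
    have e2 := D.PA_eq ha₂ ha₂Z hc₂P hc₂Z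
    have h3 : a₂ ∈ PA S a₁ := by rw [← e1, e2]; exact self_mem_PA ha₂
    exact h21 (mem_PA.mp h3).2

end CI5

end Cfsg.Agent.Helper26
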