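import Mathlib
import Cfsg.Agent.Helper26.CI5
import Cfsg.Agent.Helper26.FusCover

set_option autoImplicit false

namespace Cfsg.Agent.Helper26

open Cfsg Cfsg.FusionSystem

variable {Ω : Type*} [Group Ω]

/-- restriction of an automorphism of `T` to a subgroup, as a map into the ambient group. -/
def resHom {T : Subgroup Ω} (a : MulAut T) {P : Subgroup Ω} (hP : P ≤ T) : P →* Ω :=
  (T.subtype.comp a.toMonoidHom).comp (Subgroup.inclusion hP)

theorem resHom_apply {T : Subgroup Ω} (a : MulAut T) {P : Subgroup Ω} (hP : P ≤ T) (x : P) :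
    resHom a hP x = ((a ⟨(x : Ω), hP x.2⟩ : T) : Ω) := rfl

/-- The fusion system over `T` given by a group `A` of automorphisms of `T` containing the inner
ones: its maps are the restrictions of the elements of `A`. -/
def autSys (T : Subgroup Ω) (A : Subgroup (MulAut T)) (hA : autInducedBy T T ≤ A) :
    FusionSystem T where
  Hom P := {φ | ∃ hP : P ≤ T, ∃ a ∈ A, ∀ x : P, φ x = ((a ⟨(x : Ω), hP x.2⟩ : T) : Ω)}
  le_of_mem := by
    rintro P φ ⟨hP, a, ha, h⟩
    refine ⟨hP, fun x => ?_⟩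
    rw [h x]; exact (a _).2
  injective_of_mem := by
    rintro P φ ⟨hP, a, ha, h⟩ x y hxy
    rw [h x, h y] at hxy
    have h1 := a.injective (Subtype.ext hxy)
    exact Subtype.ext (congrArg (fun t : T => (t : Ω)) h1)
  conj_mem := by
    intro P g hP hg
    have hgN : g ∈ Subgroup.normalizer (T : Set Ω) := Subgroup.le_normalizer hg
    exact ⟨hP, conjAut T g hgN, hA (conjAut_mem T T g hg hgN), fun x => rfl⟩
  comp_mem := by
    rintro P Q φ ψ ⟨hP, a, ha, h1⟩ ⟨hQ, b, hb, h2⟩ h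
    refine ⟨hP, b * a, A.mul_mem hb ha, fun x => ?_⟩
    show ψ ⟨φ x, h x⟩ = ((b (a ⟨(x : Ω), hP x.2⟩) : T) : Ω)
    rw [h2]
    exact congrArg (fun t : T => ((b t : T) : Ω)) (Subtype.ext (h1 x))
  inv_mem := by
    rintro P φ ⟨hP, a, ha, h⟩
    have hle : φ.range ≤ T := by
      rintro _ ⟨x, rfl⟩
      rw [h x]; exact (a _).2
    refine ⟨resHom a⁻¹ hle, ⟨hle, a⁻¹, A.inv_mem ha, fun y => rfl⟩, fun x => ?_⟩
    have e : (⟨φ x, hle ⟨x, rfl⟩⟩ : T) = a ⟨(x : Ω), hP x.2⟩ := Subtype.ext (h x)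
    exact (congrArg (fun t : T => (((a⁻¹ : MulAut T) t : T) : Ω)) e).trans
      (congrArg Subtype.val (MulAut.inv_apply_self _ a _))

theorem mem_autSys {T : Subgroup Ω} {A : Subgroup (MulAut T)} (hA : autInducedBy T T ≤ A)
    {P : Subgroup Ω} (φ : P →* Ω) :
    φ ∈ (autSys T A hA).Hom P ↔
      ∃ hP : P ≤ T, ∃ a ∈ A, ∀ x : P, φ x = ((a ⟨(x : Ω), hP x.2⟩ : T) : Ω) := Iff.rfl

theorem autSys_autGroup_iff {T : Subgroup Ω} {A : Subgroup (MulAut T)}
    (hA : autInducedBy T T ≤ A) {P : Subgroup Ω} (hP : P ≤ T) (α : MulAut P) :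
    α ∈ (autSys T A hA).autGroup P ↔
      ∃ a ∈ A, ∀ x : P, ((α x : P) : Ω) = ((a ⟨(x : Ω), hP x.2⟩ : T) : Ω) := by
  rw [mem_autGroup_iff _ hP]
  constructor
  · intro h
    obtain ⟨_, a, ha, h⟩ := (mem_autSys hA _).mp h
    exact ⟨a, ha, fun x => h x⟩
  · rintro ⟨a, ha, h⟩
    exact (mem_autSys hA _).mpr ⟨hP, a, ha, fun x => h x⟩

theorem autSys_autGroup_self {T : Subgroup Ω} {A : Subgroup (MulAut T)}
    (hA : autInducedBy T T ≤ A) : (autSys T A hA).autGroup T = A := by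
  ext α
  rw [autSys_autGroup_iff hA le_rfl]
  constructor
  · rintro ⟨a, ha, h⟩
    have hαa : α = a := MulEquiv.ext fun x => Subtype.ext (h x)
    rw [hαa]; exact ha
  · intro h
    exact ⟨α, h, fun x => rfl⟩

theorem autInducedBy_self_normal (T : Subgroup Ω) : (autInducedBy T T).Normal := by
  constructor
  intro n hn g
  obtain ⟨s, hs, hsu⟩ := (mem_autInducedBy_iff T T _).mp hn
  rw [mem_autInducedBy_iff]
  refine ⟨((g ⟨s, hs⟩ : T) : Ω), (g ⟨s, hs⟩).2, fun x => ?_⟩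
  have e1 : n (g⁻¹ x) = ⟨s, hs⟩ * (g⁻¹ x) * (⟨s, hs⟩ : T)⁻¹ := Subtype.ext (hsu _)
  show ((g (n (g⁻¹ x)) : T) : Ω) = _
  rw [e1, map_mul, map_mul, map_inv, MulAut.apply_inv_self]
  rfl

/-- `autSys T A` is saturated when `A / Inn(T)` has exponent a prime `q ≠ p`. -/
theorem autSys_saturated {T : Subgroup Ω} [Finite T] {p q : ℕ} [Fact p.Prime] (hq : q.Prime)
    (hqp : q ≠ p) (hT : IsPGroup p T) (A : Subgroup (MulAut T)) (hA : autInducedBy T T ≤ A)
    (hAq : ∀ a ∈ A, a ^ q ∈ autInducedBy T T) : (autSys T A hA).IsSaturated p := by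
  have hpp : p.Prime := Fact.out
  intro P hP
  refine ⟨P, isConj_refl _ hP, ⟨hP, ?_⟩, ⟨hP, ?_⟩⟩
  · haveI : Finite P := finite_of_le hP
    have hNp : IsPGroup p ((autInducedBy T P).subgroupOf ((autSys T A hA).autGroup P)) :=
      (isPGroup_autInducedBy hT P).comap_of_injective ((autSys T A hA).autGroup P).subtype
        (Subgroup.subtype_injective _)
    have hN : ((autInducedBy T P).subgroupOf ((autSys T A hA).autGroup P)).Normal := by
      constructor
      intro n hn g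
      rw [Subgroup.mem_subgroupOf] at hn ⊢
      obtain ⟨s, hs, hsu⟩ := (mem_autInducedBy_iff T P _).mp hn
      obtain ⟨a, ha, hax⟩ := (autSys_autGroup_iff hA hP _).mp g.2
      rw [mem_autInducedBy_iff]
      refine ⟨((a ⟨s, hs⟩ : T) : Ω), (a ⟨s, hs⟩).2, fun x => ?_⟩
      have e3 : ((a ⟨(((n : MulAut P) ((g : MulAut P)⁻¹ x) : P) : Ω),
            hP (Subtype.property _)⟩ : T) : Ω)
          = ((a (⟨s, hs⟩ * ⟨((((g : MulAut P)⁻¹ x : P)) : Ω), hP (Subtype.property _)⟩ *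
              (⟨s, hs⟩ : T)⁻¹) : T) : Ω) :=
        congrArg (fun t : T => ((a t : T) : Ω)) (Subtype.ext (hsu _))
      have e2 : (((g : MulAut P) ((g : MulAut P)⁻¹ x) : P) : Ω)
          = ((a ⟨((((g : MulAut P)⁻¹ x : P)) : Ω), hP (Subtype.property _)⟩ : T) : Ω) := hax _
      rw [MulAut.apply_inv_self] at e2
      show (((g : MulAut P) ((n : MulAut P) ((g : MulAut P)⁻¹ x)) : P) : Ω) = _
      refine (hax _).trans (e3.trans ?_)
      rw [map_mul, map_mul, map_inv, Subgroup.coe_mul, Subgroup.coe_mul, Subgroup.coe_inv, ← e2]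
    have hpow : ∀ x : (autSys T A hA).autGroup P,
        x ^ q ∈ (autInducedBy T P).subgroupOf ((autSys T A hA).autGroup P) := by
      intro x
      rw [Subgroup.mem_subgroupOf, Subgroup.coe_pow]
      obtain ⟨a, ha, hax⟩ := (autSys_autGroup_iff hA hP _).mp x.2
      obtain ⟨s, hs, hsu⟩ := (mem_autInducedBy_iff T T _).mp (hAq a ha)
      rw [mem_autInducedBy_iff]
      refine ⟨s, hs, fun y => ?_⟩
      have h1 := pow_semiconj (Subgroup.inclusion hP) (x : MulAut P) a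
        (fun y => Subtype.ext (hax y).symm) q y
      have h2 := congrArg Subtype.val h1
      exact h2.symm.trans (hsu _)
    haveI := hN
    haveI : Fact q.Prime := ⟨hq⟩
    have hQ : IsPGroup q ((autSys T A hA).autGroup P ⧸
        (autInducedBy T P).subgroupOf ((autSys T A hA).autGroup P)) := by
      intro y
      obtain ⟨x, rfl⟩ := QuotientGroup.mk_surjective y
      refine ⟨1, ?_⟩
      rw [pow_one, ← QuotientGroup.mk_pow, QuotientGroup.eq_one_iff]
      exact hpow x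
    obtain ⟨n, hn⟩ := IsPGroup.iff_card.mp hQ
    have hidx : ¬ p ∣ ((autInducedBy T P).subgroupOf ((autSys T A hA).autGroup P)).index := by
      rw [Subgroup.index_eq_card, hn]
      intro hdvd
      exact hqp ((Nat.prime_dvd_prime_iff_eq hpp hq).mp (hpp.dvd_of_dvd_pow hdvd)).symm
    exact ⟨IsPGroup.toSylow hNp hidx, rfl⟩
  · rintro P₀ φ ⟨hP₀, a, ha, h⟩ -
    have hle : extender T P₀ φ ≤ T := (extender_le_normalizerIn T P₀ φ).trans inf_le_left
    refine ⟨resHom a hle, ⟨hle, a, ha, fun y => rfl⟩, fun x hx hN => ?_⟩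
    exact (h ⟨x, hx⟩).symm

theorem autSys_subsystem {S : Subgroup Ω} (F : FusionSystem S) {T : Subgroup Ω} (hTS : T ≤ S)
    {A : Subgroup (MulAut T)} (hA : autInducedBy T T ≤ A) (hAF : A ≤ F.autGroup T) :
    (autSys T A hA).IsSubsystemOf F := by
  rintro P φ ⟨hP, a, ha, h⟩
  have hiso : IsIso F a := (mem_autGroup_iff F hTS a).mp (hAF ha)
  exact fs_congr F (fs_restrict F hP hiso) (fun x => h x)

theorem sparse_key {S : Subgroup Ω} [Finite S] {p : ℕ} [Fact p.Prime] (hS : IsPGroup p S)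
    (F : FusionSystem S)
    (hsparse : ∀ (T : Subgroup Ω) (E : FusionSystem T), E.IsSaturated p → E.IsSubsystemOf F →
      (T = S ∧ ∀ P : Subgroup Ω, E.Hom P = F.Hom P) ∨
        (∀ P : Subgroup Ω, E.Hom P = (innerFusionSystem T).Hom P))
    {Q : Subgroup Ω} (hQS : Q ≤ S) {β : MulAut Q} (hβ : β ∈ F.autGroup Q) {q : ℕ} (hq : q.Prime)
    (hqp : q ≠ p) (hβq : orderOf β = q) :
    Q = S ∧ ∀ P : Subgroup Ω,
      (autSys Q (autInducedBy Q Q ⊔ Subgroup.zpowers β) le_sup_left).Hom P = F.Hom P := by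
  have hpp : p.Prime := Fact.out
  haveI : Finite Q := finite_of_le hQS
  have hQp : IsPGroup p Q := isPGroup_of_le hS hQS
  haveI hn : (autInducedBy Q Q).Normal := autInducedBy_self_normal Q
  have hβ1 : β ^ q = 1 := by rw [← hβq]; exact pow_orderOf_eq_one β
  have hAq : ∀ a ∈ autInducedBy Q Q ⊔ Subgroup.zpowers β, a ^ q ∈ autInducedBy Q Q := by
    intro a ha
    have ha' : a ∈ ((autInducedBy Q Q ⊔ Subgroup.zpowers β : Subgroup (MulAut Q)) :
        Set (MulAut Q)) := ha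
    rw [Subgroup.normal_mul] at ha'
    obtain ⟨i, hi, z, hz, rfl⟩ := Set.mem_mul.mp ha'
    obtain ⟨k, rfl⟩ := Subgroup.mem_zpowers_iff.mp hz
    have hz1 : (β ^ k) ^ q = 1 := by
      rw [← zpow_natCast, ← zpow_mul, mul_comm, zpow_mul, zpow_natCast, hβ1, one_zpow]
    have h1 : (((i * β ^ k) ^ q : MulAut Q) : MulAut Q ⧸ autInducedBy Q Q) = 1 := by
      rw [QuotientGroup.mk_pow, QuotientGroup.mk_mul, (QuotientGroup.eq_one_iff i).mpr hi,
        one_mul, ← QuotientGroup.mk_pow, hz1, QuotientGroup.mk_one]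
    exact (QuotientGroup.eq_one_iff _).mp h1
  have hE := autSys_saturated hq hqp hQp _ le_sup_left hAq
  have hsub : (autSys Q (autInducedBy Q Q ⊔ Subgroup.zpowers β) le_sup_left).IsSubsystemOf F :=
    autSys_subsystem F hQS le_sup_left
      (sup_le ((autInducedBy_mono hQS Q).trans (autInducedBy_le_autGroup F hQS))
        ((Subgroup.zpowers_le).mpr hβ))
  rcases hsparse Q _ hE hsub with h | h
  · exact h
  · exfalso
    have hβE : β ∈ (autSys Q (autInducedBy Q Q ⊔ Subgroup.zpowers β) le_sup_left).autGroup Q := by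
      rw [autSys_autGroup_self]
      exact (le_sup_right : Subgroup.zpowers β ≤ _) (Subgroup.mem_zpowers β)
    have hiso := (mem_autGroup_iff _ le_rfl β).mp hβE
    have hiso' : Q.subtype.comp β.toMonoidHom ∈ (innerFusionSystem Q).Hom Q := by
      rw [← h Q]; exact hiso
    obtain ⟨-, g, hg, hgx⟩ := hiso'
    have hβI : β ∈ autInducedBy Q Q := (mem_autInducedBy_iff Q Q β).mpr ⟨g, hg, fun x => hgx x⟩
    obtain ⟨k, hk⟩ := isPGroup_autInducedBy hQp Q ⟨β, hβI⟩
    have hk' : β ^ p ^ k = 1 := congrArg Subtype.val hk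
    have hdvd : q ∣ p ^ k := by rw [← hβq]; exact orderOf_dvd_of_pow_eq_one hk'
    exact hqp ((Nat.prime_dvd_prime_iff_eq hq hpp).mp (hq.dvd_of_dvd_pow hdvd))

/-- An extremely sparse saturated fusion system is the fusion system of `S ⋊ C_q`. -/
theorem sparse_main {S : Subgroup Ω} [Finite S] (p : ℕ) [Fact p.Prime] (hS : IsPGroup p S)
    (F : FusionSystem S) (hF : F.IsSaturated p)
    (hxs : ¬ (∀ P : Subgroup Ω, F.Hom P = (innerFusionSystem S).Hom P) ∧
      ∀ (T : Subgroup Ω) (E : FusionSystem T), E.IsSaturated p → E.IsSubsystemOf F →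
        (T = S ∧ ∀ P : Subgroup Ω, E.Hom P = F.Hom P) ∨
          (∀ P : Subgroup Ω, E.Hom P = (innerFusionSystem T).Hom P)) :
    F.IsNormal S ∧ F.focalSubgroup = S ∧ F.hyperfocalSubgroup p = S ∧
      ∃ (q : ℕ) (β : MulAut ↥S), q.Prime ∧ q ≠ p ∧ β ∈ F.autGroup S ∧ orderOf β = q ∧
        (F.autGroup S : Subgroup (MulAut ↥S)) = Cfsg.Inn ↥S ⊔ Subgroup.zpowers β := by
  have hpp : p.Prime := Fact.out
  obtain ⟨hnot, hsparse⟩ := hxs
  have hex : ∃ (Q : Subgroup Ω) (_ : Q ≤ S) (β : MulAut Q) (q : ℕ),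
      β ∈ F.autGroup Q ∧ q.Prime ∧ q ≠ p ∧ orderOf β = q := by
    by_contra hcon
    apply hnot
    have hle : F ≤ innerFusionSystem S := by
      refine alperin hS F hF (innerFusionSystem S) ?_
      intro R hRfn hRfa _ _ _
      have hRS : R ≤ S := hRfn.1
      haveI : Finite R := finite_of_le hRS
      have hcard : Nat.card (F.autGroup R)
          = p ^ (Nat.card (F.autGroup R)).primeFactorsList.length := by
        refine Nat.eq_prime_pow_of_unique_prime_dvd Nat.card_pos.ne' ?_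
        intro d hd hdvd
        by_contra hne
        haveI : Fact d.Prime := ⟨hd⟩
        obtain ⟨x, hx⟩ := exists_prime_orderOf_dvd_card' d hdvd
        exact hcon ⟨R, hRS, (x : MulAut R), d, x.2, hd, hne,
          by rw [Subgroup.orderOf_coe]; exact hx⟩
      have hpg : IsPGroup p (F.autGroup R) := IsPGroup.of_card hcard
      obtain ⟨_, Rs, hRs⟩ := hRfa
      have htop : (Rs : Subgroup (F.autGroup R)) = ⊤ :=
        (Rs.is_maximal' (hpg.to_subgroup ⊤) le_top).symm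
      intro α hα
      have h1 : (⟨α, hα⟩ : F.autGroup R) ∈ (Rs : Subgroup (F.autGroup R)) := by
        rw [htop]; exact Subgroup.mem_top _
      rw [hRs, Subgroup.mem_subgroupOf] at h1
      exact autInducedBy_le_autGroup (innerFusionSystem S) hRS h1
    intro P
    refine Set.Subset.antisymm (hle P) ?_
    rintro φ ⟨hP, g, hg, hφ⟩
    exact fs_congr F (F.conj_mem hP hg) (fun x => hφ x)
  obtain ⟨Q, hQS, β, q, hβ, hq, hqp, hβq⟩ := hex
  obtain ⟨hQeq, hEF⟩ := sparse_key hS F hsparse hQS hβ hq hqp hβq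
  have hQeq' := hQeq.symm
  subst hQeq'
  have hAut : F.autGroup S = autInducedBy S S ⊔ Subgroup.zpowers β := by
    refine Eq.trans ?_ (autSys_autGroup_self (T := S)
      (A := autInducedBy S S ⊔ Subgroup.zpowers β) le_sup_left)
    ext α
    have h2 : IsIso F α ↔
        IsIso (autSys S (autInducedBy S S ⊔ Subgroup.zpowers β) le_sup_left) α := by
      show _ ∈ F.Hom S ↔
        _ ∈ (autSys S (autInducedBy S S ⊔ Subgroup.zpowers β) le_sup_left).Hom S
      rw [hEF S]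
    rw [mem_autGroup_iff F le_rfl, mem_autGroup_iff _ le_rfl]; exact h2
  have hInn : autInducedBy S S = Cfsg.Inn ↥S := by
    ext α
    rw [mem_autInducedBy_iff]
    constructor
    · rintro ⟨g, hg, h⟩
      refine MonoidHom.mem_range.mpr ⟨⟨g, hg⟩, ?_⟩
      refine MulEquiv.ext fun x => Subtype.ext ?_
      exact (h x).symm
    · intro h
      obtain ⟨g, rfl⟩ := MonoidHom.mem_range.mp h
      exact ⟨g, g.2, fun x => rfl⟩
  have hnormal : F.IsNormal S := by
    refine ⟨le_rfl, ?_⟩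
    intro P φ hφ
    have hφ' := hφ
    rw [← hEF P] at hφ'
    obtain ⟨hP, a, ha, h⟩ := hφ'
    have hle : P ⊔ S ≤ S := sup_le hP le_rfl
    refine ⟨resHom a hle, ?_, fun x => ?_, ?_⟩
    · rw [← hEF (P ⊔ S)]
      exact ⟨hle, a, ha, fun y => rfl⟩
    · exact (h x).symm
    · ext y
      rw [Subgroup.mem_map]
      constructor
      · rintro ⟨z, _, rfl⟩
        show (((a ⟨(z : Ω), hle z.2⟩ : S)) : Ω) ∈ S
        exact Subtype.property _
      · intro hy
        have hmem : (((a⁻¹ : MulAut S) ⟨y, hy⟩ : S) : Ω) ∈ P ⊔ S :=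
          (le_sup_right : S ≤ P ⊔ S) (Subtype.property _)
        refine ⟨⟨_, hmem⟩, ?_, ?_⟩
        · exact Subgroup.mem_subgroupOf.mpr (((a⁻¹ : MulAut S) ⟨y, hy⟩ : S).2)
        · exact congrArg Subtype.val (MulAut.apply_inv_self _ a ⟨y, hy⟩)
  obtain ⟨T, hTdef⟩ : ∃ T : Subgroup Ω,
      T = Subgroup.closure {y : Ω | ∃ x : S, y = (x : Ω)⁻¹ * ((β x : S) : Ω)} := ⟨_, rfl⟩
  have hgen : ∀ x : S, (x : Ω)⁻¹ * ((β x : S) : Ω) ∈ T := by
    intro x; rw [hTdef]; exact Subgroup.subset_closure ⟨x, rfl⟩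
  have hTS : T ≤ S := by
    rw [hTdef, Subgroup.closure_le]
    rintro _ ⟨x, rfl⟩
    exact S.mul_mem (S.inv_mem x.2) (β x).2
  have hTinv : ∀ b : T, ((β ⟨(b : Ω), hTS b.2⟩ : S) : Ω) ∈ T := by
    have h1 : T ≤ ((T.subgroupOf S).comap β.toMonoidHom).map S.subtype := by
      refine hTdef.le.trans ((Subgroup.closure_le _).mpr ?_)
      rintro _ ⟨x, rfl⟩
      show _ ∈ ((T.subgroupOf S).comap β.toMonoidHom).map S.subtype
      refine Subgroup.mem_map.mpr ⟨x⁻¹ * β x, ?_, rfl⟩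
      rw [Subgroup.mem_comap, Subgroup.mem_subgroupOf]
      show ((β (x⁻¹ * β x) : S) : Ω) ∈ T
      rw [map_mul, map_inv]
      exact hgen (β x)
    intro b
    obtain ⟨z, hz, hzb⟩ := Subgroup.mem_map.mp (h1 b.2)
    rw [Subgroup.mem_comap, Subgroup.mem_subgroupOf] at hz
    have e : (⟨(b : Ω), hTS b.2⟩ : S) = z := Subtype.ext hzb.symm
    rw [e]; exact hz
  obtain ⟨βT, hβT, hβTx⟩ := res_of_S F hTS hβ hTinv
  have hβ1 : β ^ q = 1 := by rw [← hβq]; exact pow_orderOf_eq_one β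
  have hβTq : βT ^ q = 1 := by
    refine MulEquiv.ext fun b => Subtype.ext ?_
    have h1 := pow_semiconj (Subgroup.inclusion hTS) βT β
      (fun y => Subtype.ext (hβTx y).symm) q b
    rw [hβ1] at h1
    exact (congrArg Subtype.val h1).symm
  have hβTne : βT ≠ 1 := by
    intro h1
    have hfix : ∀ (t : Ω) (ht : t ∈ T), β ⟨t, hTS ht⟩ = ⟨t, hTS ht⟩ := by
      intro t ht
      have h3 := hβTx ⟨t, ht⟩
      rw [h1] at h3
      exact Subtype.ext h3.symm
    have hpow : ∀ x : S, (β ^ Nat.card S) x = x := by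
      intro x
      have hy : (x : Ω)⁻¹ * ((β x : S) : Ω) ∈ T := hgen x
      have h2 := aut_pow_apply_of_fixed β x (x⁻¹ * β x) (by rw [mul_inv_cancel_left])
        (hfix _ hy) (Nat.card S)
      rw [h2, pow_card_eq_one', mul_one]
    have hβc : β ^ Nat.card S = 1 := MulEquiv.ext hpow
    obtain ⟨k, hk⟩ := IsPGroup.iff_card.mp hS
    have hdvd : q ∣ p ^ k := by
      rw [← hk, ← hβq]; exact orderOf_dvd_of_pow_eq_one hβc
    exact hqp ((Nat.prime_dvd_prime_iff_eq hq hpp).mp (hq.dvd_of_dvd_pow hdvd))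
  haveI : Fact q.Prime := ⟨hq⟩
  have hβTord : orderOf βT = q := orderOf_eq_prime hβTq hβTne
  obtain ⟨hTeq, -⟩ := sparse_key hS F hsparse hTS hβT hq hqp hβTord
  have hcop : Nat.Coprime (orderOf β) p := by
    rw [hβq]; exact (Nat.coprime_primes hq hpp).mpr hqp
  have hTle : T ≤ F.hyperfocalSubgroup p := by
    rw [hTdef, Subgroup.closure_le]
    rintro _ ⟨x, rfl⟩
    exact mem_hyperfocal F p le_rfl hβ hcop x
  have hTle' : T ≤ F.focalSubgroup := by
    rw [hTdef, Subgroup.closure_le]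
    rintro _ ⟨x, rfl⟩
    exact Subgroup.subset_closure
      ⟨S, S.subtype.comp β.toMonoidHom, x, (mem_autGroup_iff F le_rfl β).mp hβ, rfl⟩
  have hhyple : F.hyperfocalSubgroup p ≤ S :=
    hyperfocal_le F p S (fun P hP a _ _ x => S.mul_mem (S.inv_mem (hP x.2)) (hP (a x).2))
  have hfocle : F.focalSubgroup ≤ S := by
    refine (Subgroup.closure_le S).mpr ?_
    rintro _ ⟨P, φ, x, hφ, rfl⟩
    exact S.mul_mem (S.inv_mem ((F.le_of_mem hφ).1 x.2)) ((F.le_of_mem hφ).2 x)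
  refine ⟨hnormal, le_antisymm hfocle (hTeq.ge.trans hTle'),
    le_antisymm hhyple (hTeq.ge.trans hTle), q, β, hq, hqp, hβ, hβq, ?_⟩
  rw [hAut, hInn]

end Cfsg.Agent.Helper26
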