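import Mathlib
import Cfsg.Prelude.Def_Transfer
import Cfsg.Agent.Helper26.LargeXS2
import Cfsg.Agent.Helper26.XSTransfer
import Cfsg.Agent.Helper26.XSQuot
import Cfsg.Agent.Helper26.CI1
import Cfsg.Agent.Helper14.Frattini
import Cfsg.Agent.S2911
import Cfsg.Agent.S1946

/-!
A simple group with an involution `z` whose centralizer `R` is a Sylow 2-subgroup with
`Φ(R) = ⟨z⟩` has `R` dihedral of order 8 (helper26).

`coatom_index_two`, `sq_comm_mem_frattini`, `sq_comm_of_frattini`, `exists_max_avoiding`: maximal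
subgroups of 2-groups.  `simple_no_index_two`, `length_le_card`.  `main`: the theorem.
-/

set_option autoImplicit false

namespace Cfsg.Agent.Helper26.D8Cent

open Cfsg Cfsg.Agent.Helper14.XS Cfsg.Agent.Helper26.LargeXS2 Cfsg.Agent.Helper26.XSTransfer
  Cfsg.Agent.Helper26.XSQuot

theorem coatom_index_two {P : Type*} [Group P] [Finite P] (hP : IsPGroup 2 P) {M : Subgroup P}
    (hM : IsCoatom M) : M.index = 2 := by
  haveI : Fact (Nat.Prime 2) := ⟨Nat.prime_two⟩
  haveI := hP.isNilpotent
  haveI : M.Normal :=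
    Subgroup.NormalizerCondition.normal_of_coatom M Group.normalizerCondition_of_isNilpotent hM
  have hQ : IsPGroup 2 (P ⧸ M) := hP.to_quotient M
  obtain ⟨j, hj⟩ := IsPGroup.iff_card.mp hQ
  have hj0 : j ≠ 0 := by
    rintro rfl
    rw [pow_zero] at hj
    have h1 : M.index = 1 := hj
    exact hM.1 (Subgroup.index_eq_one.mp h1)
  have hdvd : 2 ^ 1 ∣ Nat.card (P ⧸ M) := by
    rw [hj]; exact pow_dvd_pow 2 (Nat.one_le_iff_ne_zero.mpr hj0)
  obtain ⟨K, hK⟩ := Sylow.exists_subgroup_card_pow_prime 2 hdvd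
  rw [pow_one] at hK
  have hle : M ≤ K.comap (QuotientGroup.mk' M) := by
    intro x hx
    rw [Subgroup.mem_comap]
    have h1 : (QuotientGroup.mk' M) x = 1 := (QuotientGroup.eq_one_iff x).mpr hx
    rw [h1]; exact K.one_mem
  have e := Subgroup.map_comap_eq_self_of_surjective (QuotientGroup.mk'_surjective M) K
  rcases eq_or_lt_of_le hle with h | h
  · exfalso
    have hK' : K = ⊥ := by
      rw [← h] at e
      rw [← e, eq_bot_iff]
      rintro _ ⟨x, hx, rfl⟩
      exact (QuotientGroup.eq_one_iff x).mpr hx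
    rw [hK', Subgroup.card_bot] at hK
    exact absurd hK (by norm_num)
  · have htop := hM.2 _ h
    have hK' : K = ⊤ := by
      rw [htop] at e
      rw [← e]
      exact Subgroup.map_top_of_surjective _ (QuotientGroup.mk'_surjective M)
    rw [hK', Subgroup.card_top] at hK
    exact hK

theorem sq_comm_mem_frattini {P : Type*} [Group P] [Finite P] (hP : IsPGroup 2 P) (a b : P) :
    a * a ∈ frattini P ∧ a * b * a⁻¹ * b⁻¹ ∈ frattini P := by
  constructor
  · unfold frattini Order.radical
    simp only [Subgroup.mem_iInf]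
    intro M hM
    exact Subgroup.mul_self_mem_of_index_two (coatom_index_two hP hM) a
  · unfold frattini Order.radical
    simp only [Subgroup.mem_iInf]
    intro M hM
    have h := coatom_index_two hP hM
    rw [Subgroup.mul_mem_iff_of_index_two h, Subgroup.mul_mem_iff_of_index_two h,
      Subgroup.mul_mem_iff_of_index_two h, inv_mem_iff, inv_mem_iff]
    tauto

theorem sq_comm_of_frattini {L : Type*} [Group L] [Finite L] (R : Subgroup L)
    (hR2 : IsPGroup 2 ↥R) (z : L) (hzz : z * z = 1)
    (hΦ : (frattini ↥R).map R.subtype = Subgroup.zpowers z) :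
    (∀ x ∈ R, x * x = 1 ∨ x * x = z) ∧
    (∀ x ∈ R, ∀ y ∈ R, x * y * x⁻¹ * y⁻¹ = 1 ∨ x * y * x⁻¹ * y⁻¹ = z) := by
  constructor
  · intro x hx
    have h1 := (sq_comm_mem_frattini hR2 (⟨x, hx⟩ : ↥R) 1).1
    have h2 : x * x ∈ (frattini ↥R).map R.subtype := Subgroup.mem_map.mpr ⟨_, h1, rfl⟩
    rw [hΦ] at h2
    exact (mem_zpowers_two hzz).mp h2
  · intro x hx y hy
    have h1 := (sq_comm_mem_frattini hR2 (⟨x, hx⟩ : ↥R) ⟨y, hy⟩).2
    have h2 : x * y * x⁻¹ * y⁻¹ ∈ (frattini ↥R).map R.subtype :=
      Subgroup.mem_map.mpr ⟨_, h1, rfl⟩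
    rw [hΦ] at h2
    exact (mem_zpowers_two hzz).mp h2

theorem exists_max_avoiding {L : Type*} [Group L] [Finite L] (R : Subgroup L)
    (hR2 : IsPGroup 2 ↥R) (u : L) (huR : u ∈ R) (hu : u ∉ (frattini ↥R).map R.subtype) :
    ∃ T : Subgroup L, T ≤ R ∧ T.relIndex R = 2 ∧ u ∉ T ∧
      ∀ s ∈ R, ∀ x ∈ T, s * x * s⁻¹ ∈ T := by
  have hu' : (⟨u, huR⟩ : ↥R) ∉ frattini ↥R := fun h => hu (Subgroup.mem_map.mpr ⟨_, h, rfl⟩)
  obtain ⟨M, hM, huM⟩ : ∃ M : Subgroup ↥R, IsCoatom M ∧ (⟨u, huR⟩ : ↥R) ∉ M := by
    by_contra hcon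
    push Not at hcon
    apply hu'
    unfold frattini Order.radical
    simp only [Subgroup.mem_iInf]
    intro M hM
    exact hcon M hM
  have hidx := coatom_index_two hR2 hM
  haveI hMn : M.Normal := Subgroup.normal_of_index_eq_two hidx
  refine ⟨M.map R.subtype, Subgroup.map_subtype_le M, ?_, ?_, ?_⟩
  · have e : (M.map R.subtype).subgroupOf R = M :=
      Subgroup.comap_map_eq_self_of_injective (Subgroup.subtype_injective R) M
    show ((M.map R.subtype).subgroupOf R).index = 2
    rw [e]; exact hidx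
  · intro h
    obtain ⟨m, hm, hmu⟩ := Subgroup.mem_map.mp h
    have e : m = ⟨u, huR⟩ := Subtype.ext hmu
    exact huM (e ▸ hm)
  · intro s hs x hx
    obtain ⟨m, hm, rfl⟩ := Subgroup.mem_map.mp hx
    exact Subgroup.mem_map.mpr ⟨⟨s, hs⟩ * m * ⟨s, hs⟩⁻¹, hMn.conj_mem m hm ⟨s, hs⟩, rfl⟩

theorem simple_no_index_two {L : Type*} [Group L] [Finite L] [IsSimpleGroup L]
    (hL : ¬ IsMulCommutative L) (N : Subgroup L) (hN : N.index = 2) : False := by
  haveI hNn : N.Normal := Subgroup.normal_of_index_eq_two hN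
  rcases hNn.eq_bot_or_eq_top with h | h
  · rw [h, Subgroup.index_bot] at hN
    apply hL
    obtain ⟨c, hc1, hcu⟩ := (Nat.card_eq_two_iff' (1 : L)).mp hN
    refine ⟨⟨fun a b => ?_⟩⟩
    by_cases ha : a = 1
    · rw [ha, one_mul, mul_one]
    · by_cases hb : b = 1
      · rw [hb, one_mul, mul_one]
      · rw [hcu a ha, hcu b hb]
  · rw [h, Subgroup.index_top] at hN
    norm_num at hN

theorem length_le_card {L : Type*} [Group L] [Finite L] (R : Subgroup L) (l : List L)
    (hnd : l.Nodup) (hl : ∀ x ∈ l, x ∈ R) : l.length ≤ Nat.card ↥R := by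
  classical
  have h1 : l.toFinset ⊆ (Set.toFinite (R : Set L)).toFinset := by
    intro x hx
    rw [Set.Finite.mem_toFinset]
    exact hl x (List.mem_toFinset.mp hx)
  have h2 := Finset.card_le_card h1
  rw [List.toFinset_card_of_nodup hnd,
    ← Set.ncard_eq_toFinset_card (R : Set L) (Set.toFinite _)] at h2
  exact h2.trans_eq (Nat.card_coe_set_eq (R : Set L)).symm

theorem main {L : Type*} [Group L] [Finite L] [IsSimpleGroup L] (hL : ¬ IsMulCommutative L)
    (z : L) (hz : orderOf z = 2) (R : Sylow 2 L)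
    (hR : (R : Subgroup L) = Subgroup.centralizer ({z} : Set L))
    (hΦ : (frattini ↥(R : Subgroup L)).map (R : Subgroup L).subtype = Subgroup.zpowers z) :
    Nonempty (↥(R : Subgroup L) ≃* DihedralGroup 4) := by
  classical
  haveI : Fact (Nat.Prime 2) := ⟨Nat.prime_two⟩
  have hzz : z * z = 1 := by rw [← pow_two, ← hz]; exact pow_orderOf_eq_one z
  have hz1 : z ≠ 1 := by
    intro h; rw [h, orderOf_one] at hz; exact absurd hz (by norm_num)
  have hmem : ∀ x, x ∈ (R : Subgroup L) ↔ x * z = z * x := by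
    intro x; rw [hR]; exact mem_cz
  have hzR : z ∈ (R : Subgroup L) := (hmem z).mpr rfl
  have hR2 : IsPGroup 2 ↥(R : Subgroup L) := R.isPGroup'
  obtain ⟨hsq, hcm⟩ := sq_comm_of_frattini (R : Subgroup L) hR2 z hzz hΦ
  have hΦmem : ∀ u, u ∈ (frattini ↥(R : Subgroup L)).map (R : Subgroup L).subtype ↔
      (u = 1 ∨ u = z) := by
    intro u; rw [hΦ]; exact mem_zpowers_two hzz
  have hnoidx : ∀ N : Subgroup L, N.index = 2 → False := simple_no_index_two hL
  have hanti : ∀ a ∈ (R : Subgroup L), ∀ b ∈ (R : Subgroup L), a * b ≠ b * a →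
      a * b = z * b * a := by
    intro a ha b hb hne
    rcases hcm a ha b hb with h | h
    · exact absurd ((comm_eq_one_iff a b).mp h) hne
    · calc a * b = (a * b * a⁻¹ * b⁻¹) * b * a := by group
        _ = z * b * a := by rw [h]
  have hthom : ∀ u ∈ (R : Subgroup L), u * u = 1 → u ≠ 1 → u ≠ z →
      ∃ T : Subgroup L, (∀ s ∈ (R : Subgroup L), ∀ x ∈ T, s * x * s⁻¹ ∈ T) ∧ u ∉ T ∧
        ∃ x : L, (∀ c ∈ (R : Subgroup L), c * u = u * c → x⁻¹ * c * x ∈ (R : Subgroup L)) ∧
          x⁻¹ * u * x ∈ T := by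
    intro u huR huu hu1 huz
    have hunot : u ∉ (frattini ↥(R : Subgroup L)).map (R : Subgroup L).subtype := by
      intro h
      rcases (hΦmem u).mp h with h | h
      · exact hu1 h
      · exact huz h
    obtain ⟨T, hTR, hidx, huT, hTn⟩ := exists_max_avoiding (R : Subgroup L) hR2 u huR hunot
    refine ⟨T, hTn, huT, ?_⟩
    by_contra hcon
    push Not at hcon
    obtain ⟨N, hN, -⟩ := Cfsg.Agent.S2911.thompson_ext R T hTR hidx u huu hcon
    exact hnoidx N hN
  have hex : ∃ g : L, g * z * g⁻¹ ∈ (R : Subgroup L) ∧ g * z * g⁻¹ ≠ z := by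
    by_contra hcon
    push Not at hcon
    have hiso' : ∀ x : L, x⁻¹ * z * x ∈ (R : Subgroup L) → x ∈ (R : Subgroup L) := by
      intro x hx
      have h1 : x⁻¹ * z * x⁻¹⁻¹ ∈ (R : Subgroup L) := by rw [inv_inv]; exact hx
      have h2 := hcon x⁻¹ h1
      rw [inv_inv] at h2
      apply (hmem x).mpr
      calc x * z = x * (x⁻¹ * z * x) := by rw [h2]
        _ = z * x := by group
    have huniq : ∀ u ∈ (R : Subgroup L), u * u = 1 → u = 1 ∨ u = z := by
      intro u huR huu
      by_contra hne
      push Not at hne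
      obtain ⟨T, hTn, huT, x, hx, hxT⟩ := hthom u huR huu hne.1 hne.2
      have hxR : x ∈ (R : Subgroup L) := hiso' x (hx z hzR ((hmem u).mp huR).symm)
      apply huT
      have e : u = x * (x⁻¹ * u * x) * x⁻¹ := by group
      rw [e]
      exact hTn x hxR _ hxT
    have hnpc : Cfsg.HasNormalPComplement 2 L := by
      apply (Cfsg.Agent.S1946.result R).mpr
      intro a ha _ g hg
      rcases hsq a ha with h | h
      · rcases huniq a ha h with h1 | h1
        · refine ⟨1, Subgroup.one_mem _, ?_⟩
          rw [h1]; group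
        · refine ⟨1, Subgroup.one_mem _, ?_⟩
          rw [h1] at hg ⊢
          rw [hcon g hg]; group
      · have h2 : g * z * g⁻¹ ∈ (R : Subgroup L) := by
          have e : g * z * g⁻¹ = (g * a * g⁻¹) * (g * a * g⁻¹) := by rw [← h]; group
          rw [e]; exact Subgroup.mul_mem _ hg hg
        have h3 := hcon g h2
        have hgR : g ∈ (R : Subgroup L) := by
          apply (hmem g).mpr
          calc g * z = (g * z * g⁻¹) * g := by group
            _ = z * g := by rw [h3]
        exact ⟨g, hgR, rfl⟩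
    obtain ⟨P, N, hNn, hc⟩ := hnpc
    rcases hNn.eq_bot_or_eq_top with h | h
    · rw [h] at hc
      have hP : (P : Subgroup L) = ⊤ := Subgroup.isComplement'_bot_left.mp hc
      have hL2 : IsPGroup 2 L := by
        have h5 : IsPGroup 2 ↥(⊤ : Subgroup L) := by rw [← hP]; exact P.isPGroup'
        exact h5.of_equiv Subgroup.topEquiv
      haveI := hL2.center_nontrivial
      have hcb : Subgroup.center L ≠ ⊥ := (Subgroup.nontrivial_iff_ne_bot _).mp inferInstance
      have hct : Subgroup.center L = ⊤ :=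
        (Subgroup.Normal.eq_bot_or_eq_top
          (inferInstance : (Subgroup.center L).Normal)).resolve_left hcb
      apply hL
      refine ⟨⟨fun a b => ?_⟩⟩
      have hb : b ∈ Subgroup.center L := by rw [hct]; exact Subgroup.mem_top b
      exact (Subgroup.mem_center_iff.mp hb a)
    · rw [h] at hc
      have hP : (P : Subgroup L) = ⊥ := Subgroup.isComplement'_top_left.mp hc
      have h2 : 2 ∣ Nat.card L := by rw [← hz]; exact orderOf_dvd_natCard z
      have h2P : 2 ∣ Nat.card ↥(P : Subgroup L) := P.dvd_card_of_dvd_card h2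
      rw [hP, Subgroup.card_bot] at h2P
      exact absurd h2P (by norm_num)
  obtain ⟨g, htR, htz⟩ := hex
  obtain ⟨t, htdef⟩ : ∃ t : L, t = g * z * g⁻¹ := ⟨_, rfl⟩
  rw [← htdef] at htR htz
  have htt : t * t = 1 := by
    rw [htdef]
    calc g * z * g⁻¹ * (g * z * g⁻¹) = g * (z * z) * g⁻¹ := by group
      _ = 1 := by rw [hzz, mul_one, mul_inv_cancel]
  have hzg : z = g⁻¹ * t * g := by rw [htdef]; group
  have ht1 : t ≠ 1 := by
    intro h
    apply hz1
    rw [hzg, h]; group
  have htzc : t * z = z * t := (hmem t).mp htR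
  have hconjR : ∀ x : L, x * t = t * x → g⁻¹ * x * g ∈ (R : Subgroup L) := by
    intro x hx
    apply (hmem _).mpr
    calc g⁻¹ * x * g * z = g⁻¹ * x * g * (g⁻¹ * t * g) := by rw [← hzg]
      _ = g⁻¹ * (x * t) * g := by group
      _ = g⁻¹ * (t * x) * g := by rw [hx]
      _ = (g⁻¹ * t * g) * (g⁻¹ * x * g) := by group
      _ = z * (g⁻¹ * x * g) := by rw [← hzg]
  have hDsq : ∀ x ∈ (R : Subgroup L), x * t = t * x → x * x = 1 := by
    intro x hx hxt
    rcases hsq x hx with h | h
    · exact h
    · exfalso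
      have e : x * x = g * ((g⁻¹ * x * g) * (g⁻¹ * x * g)) * g⁻¹ := by group
      rcases hsq _ (hconjR x hxt) with h2 | h2
      · rw [h2, h] at e
        apply hz1
        rw [e]; group
      · rw [h2, h, ← htdef] at e
        exact htz e.symm
  have hDcomm : ∀ x ∈ (R : Subgroup L), x * t = t * x → ∀ y ∈ (R : Subgroup L),
      y * t = t * y → x * y = y * x := by
    intro x hx hxt y hy hyt
    by_contra hne
    have h1 : x * y * x⁻¹ * y⁻¹ = z := by
      rcases hcm x hx y hy with h | h
      · exact absurd ((comm_eq_one_iff x y).mp h) hne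
      · exact h
    have e : x * y * x⁻¹ * y⁻¹ = g * ((g⁻¹ * x * g) * (g⁻¹ * y * g) * (g⁻¹ * x * g)⁻¹ *
        (g⁻¹ * y * g)⁻¹) * g⁻¹ := by group
    rcases hcm _ (hconjR x hxt) _ (hconjR y hyt) with h2 | h2
    · rw [h2, h1] at e
      apply hz1
      rw [e]; group
    · rw [h2, h1, ← htdef] at e
      exact htz e.symm
  obtain ⟨r, hrR, hrt⟩ : ∃ r ∈ (R : Subgroup L), r * t ≠ t * r := by
    by_contra hcon
    push Not at hcon
    have hfr : frattini ↥(R : Subgroup L) = ⊥ := by
      apply Cfsg.Agent.Helper14.frattini_eq_bot_of_exponent_p (p := 2)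
      · intro a b
        apply Subtype.ext
        exact hDcomm a a.2 (hcon a a.2) b b.2 (hcon b b.2)
      · intro e
        apply Subtype.ext
        rw [Subgroup.coe_pow, pow_two]
        exact hDsq e e.2 (hcon e e.2)
    have hΦ' := hΦ
    rw [hfr, Subgroup.map_bot] at hΦ'
    apply hz1
    have h5 : z ∈ (⊥ : Subgroup L) := by rw [hΦ']; exact Subgroup.mem_zpowers z
    exact Subgroup.mem_bot.mp h5
  obtain ⟨y, hyR, hyt, hyy⟩ : ∃ y ∈ (R : Subgroup L), y * t ≠ t * y ∧ y * y = z := by
    rcases hsq r hrR with h | h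
    · refine ⟨r * t, Subgroup.mul_mem _ hrR htR, ?_, ?_⟩
      · intro h2
        apply hrt
        have h4 : r = t * (r * t) := by
          calc r = r * t * t := by rw [mul_assoc, htt, mul_one]
            _ = t * (r * t) := h2
        calc r * t = t * (r * t) * t := by rw [← h4]
          _ = t * r * (t * t) := by group
          _ = t * r := by rw [htt, mul_one]
      · have h3 := hanti r hrR t htR hrt
        calc r * t * (r * t) = (r * t) * r * t := by group
          _ = (z * t * r) * r * t := by rw [h3]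
          _ = z * t * (r * r) * t := by group
          _ = z * (t * t) := by rw [h, mul_one, mul_assoc]
          _ = z := by rw [htt, mul_one]
    · exact ⟨r, hrR, hrt, h⟩
  have hnorm : ∀ x : L, (∀ c ∈ (R : Subgroup L), x⁻¹ * c * x ∈ (R : Subgroup L)) →
      x ∈ (R : Subgroup L) := by
    intro x hx
    have h1 := hsq _ (hx y hyR)
    have e : (x⁻¹ * y * x) * (x⁻¹ * y * x) = x⁻¹ * z * x := by rw [← hyy]; group
    rw [e] at h1
    apply (hmem x).mpr
    rcases h1 with h | h
    · exfalso; apply hz1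
      have e2 : z = x * (x⁻¹ * z * x) * x⁻¹ := by group
      rw [e2, h]; group
    · calc x * z = x * (x⁻¹ * z * x) := by rw [h]
        _ = z * x := by group
  have hcentral : ∀ u ∈ (R : Subgroup L), u * u = 1 →
      (∀ c ∈ (R : Subgroup L), c * u = u * c) → u = 1 ∨ u = z := by
    intro u huR huu huc
    by_contra hne
    push Not at hne
    obtain ⟨T, hTn, huT, x, hx, hxT⟩ := hthom u huR huu hne.1 hne.2
    have hxR : x ∈ (R : Subgroup L) := hnorm x (fun c hc => hx c hc (huc c hc))
    apply huT
    have e : x⁻¹ * u * x = u := by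
      have h1 := huc x hxR
      calc x⁻¹ * u * x = x⁻¹ * (u * x) := by group
        _ = x⁻¹ * (x * u) := by rw [h1]
        _ = u := by group
    rw [e] at hxT
    exact hxT
  have hzcomm : ∀ x ∈ (R : Subgroup L), x * z = z * x := fun x hx => (hmem x).mp hx
  have hyt' : y * t = z * t * y := hanti y hyR t htR hyt
  have hty : t * y = z * y * t := by
    calc t * y = (z * z) * t * y := by rw [hzz, one_mul]
      _ = z * (z * t * y) := by group
      _ = z * (y * t) := by rw [hyt']
      _ = z * y * t := by group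
  have hyinv : ∀ c ∈ (R : Subgroup L), c * t ≠ t * c → (y⁻¹ * c) * t = t * (y⁻¹ * c) := by
    intro c hc hct
    have h1 : c * t = z * t * c := hanti c hc t htR hct
    calc (y⁻¹ * c) * t = y⁻¹ * (c * t) := by group
      _ = y⁻¹ * (z * t * c) := by rw [h1]
      _ = y⁻¹ * (z * t * y) * (y⁻¹ * c) := by group
      _ = y⁻¹ * (y * t) * (y⁻¹ * c) := by rw [hyt']
      _ = t * (y⁻¹ * c) := by group
  have hD1 : ∀ d ∈ (R : Subgroup L), d * t = t * d → d * y = y * d → d = 1 ∨ d = z := by
    intro d hd hdt hdy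
    apply hcentral d hd (hDsq d hd hdt)
    intro c hc
    by_cases hct : c * t = t * c
    · exact hDcomm c hc hct d hd hdt
    · have h2 := hyinv c hc hct
      have h3 : (y⁻¹ * c) * d = d * (y⁻¹ * c) :=
        hDcomm _ (Subgroup.mul_mem _ (Subgroup.inv_mem _ hyR) hc) h2 d hd hdt
      calc c * d = y * ((y⁻¹ * c) * d) := by group
        _ = y * (d * (y⁻¹ * c)) := by rw [h3]
        _ = (y * d) * (y⁻¹ * c) := by group
        _ = (d * y) * (y⁻¹ * c) := by rw [hdy]
        _ = d * c := by group
  have hD : ∀ d ∈ (R : Subgroup L), d * t = t * d → d = 1 ∨ d = z ∨ d = t ∨ d = z * t := by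
    intro d hd hdt
    by_cases hdy : d * y = y * d
    · rcases hD1 d hd hdt hdy with h | h
      · exact Or.inl h
      · exact Or.inr (Or.inl h)
    · have h1 : d * y = z * y * d := hanti d hd y hyR hdy
      have h3 : (d * t) * t = t * (d * t) := by
        calc (d * t) * t = (t * d) * t := by rw [hdt]
          _ = t * (d * t) := by group
      have h4 : (d * t) * y = y * (d * t) := by
        calc (d * t) * y = d * (t * y) := by group
          _ = d * (z * y * t) := by rw [hty]
          _ = (d * z) * y * t := by group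
          _ = (z * d) * y * t := by rw [hzcomm d hd]
          _ = z * (d * y) * t := by group
          _ = z * (z * y * d) * t := by rw [h1]
          _ = (z * z) * y * (d * t) := by group
          _ = y * (d * t) := by rw [hzz, one_mul]
      rcases hD1 (d * t) (Subgroup.mul_mem _ hd htR) h3 h4 with h | h
      · right; right; left
        calc d = (d * t) * t := by rw [mul_assoc, htt, mul_one]
          _ = t := by rw [h, one_mul]
      · right; right; right
        calc d = (d * t) * t := by rw [mul_assoc, htt, mul_one]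
          _ = z * t := by rw [h]
  have hall : ∀ x ∈ (R : Subgroup L),
      x ∈ [1, z, t, z * t, y, y * z, y * t, y * (z * t)] := by
    intro x hx
    by_cases hxt : x * t = t * x
    · rcases hD x hx hxt with h | h | h | h <;> rw [h] <;> simp
    · have h2 := hyinv x hx hxt
      have e : x = y * (y⁻¹ * x) := by group
      rcases hD _ (Subgroup.mul_mem _ (Subgroup.inv_mem _ hyR) hx) h2 with h | h | h | h
      · rw [e, h, mul_one]; simp
      · rw [e, h]; simp
      · rw [e, h]; simp
      · rw [e, h]; simp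
  have hcard_le : Nat.card ↥(R : Subgroup L) ≤ 8 := by
    by_contra hgt
    push Not at hgt
    obtain ⟨x, hx, hxn⟩ := exists_notMem_list (R : Subgroup L)
      [1, z, t, z * t, y, y * z, y * t, y * (z * t)] (by
        show 8 < Nat.card ↥(R : Subgroup L)
        exact hgt)
    exact hxn (hall x hx)
  have hcard_ge : 5 ≤ Nat.card ↥(R : Subgroup L) := by
    have hyc : ∀ w : L, w * t = t * w → w ≠ y := fun w hw h => hyt (by rw [← h]; exact hw)
    have e1 : (1 : L) ≠ z := fun h => hz1 h.symm
    have e2 : (1 : L) ≠ t := fun h => ht1 h.symm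
    have e3 : (1 : L) ≠ z * t := by
      intro h
      apply htz
      calc t = 1 * t := (one_mul t).symm
        _ = (z * t) * t := by rw [← h]
        _ = z := by rw [mul_assoc, htt, mul_one]
    have e4 : (1 : L) ≠ y := hyc 1 (by rw [one_mul, mul_one])
    have e5 : z ≠ t := fun h => htz h.symm
    have e6 : z ≠ z * t := by
      intro h
      apply ht1
      have h5 : z * t = z * 1 := by rw [mul_one]; exact h.symm
      exact mul_left_cancel h5
    have e7 : z ≠ y := hyc z htzc.symm
    have e8 : t ≠ z * t := by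
      intro h
      apply hz1
      have h5 : z * t = 1 * t := by rw [one_mul]; exact h.symm
      exact mul_right_cancel h5
    have e9 : t ≠ y := hyc t rfl
    have e10 : z * t ≠ y := hyc (z * t) (by
      calc (z * t) * t = (t * z) * t := by rw [htzc]
        _ = t * (z * t) := mul_assoc _ _ _)
    have hnd : ([1, z, t, z * t, y] : List L).Nodup := by
      refine List.nodup_cons.mpr ⟨?_, List.nodup_cons.mpr ⟨?_, List.nodup_cons.mpr ⟨?_,
        List.nodup_cons.mpr ⟨?_, List.nodup_singleton _⟩⟩⟩⟩
      · intro h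
        simp only [List.mem_cons, List.not_mem_nil, or_false] at h
        rcases h with h | h | h | h
        exacts [e1 h, e2 h, e3 h, e4 h]
      · intro h
        simp only [List.mem_cons, List.not_mem_nil, or_false] at h
        rcases h with h | h | h
        exacts [e5 h, e6 h, e7 h]
      · intro h
        simp only [List.mem_cons, List.not_mem_nil, or_false] at h
        rcases h with h | h
        exacts [e8 h, e9 h]
      · intro h
        simp only [List.mem_cons, List.not_mem_nil, or_false] at h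
        exact e10 h
    exact length_le_card (R : Subgroup L) [1, z, t, z * t, y] hnd (by
      intro x hx
      simp only [List.mem_cons, List.not_mem_nil, or_false] at hx
      rcases hx with h | h | h | h | h <;> rw [h]
      · exact Subgroup.one_mem _
      · exact hzR
      · exact htR
      · exact Subgroup.mul_mem _ hzR htR
      · exact hyR)
  have hcard : Nat.card ↥(R : Subgroup L) = 8 := by
    obtain ⟨k, hk⟩ := hR2.exists_card_eq
    rw [hk] at hcard_le hcard_ge ⊢
    have hk4 : k < 4 := by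
      by_contra h
      push Not at h
      have h5 := Nat.pow_le_pow_right (show 0 < 2 by norm_num) h
      omega
    interval_cases k <;> omega
  have hx4 : ∀ w : ↥(R : Subgroup L), w ^ 4 = 1 := by
    intro w
    apply Subtype.ext
    rw [Subgroup.coe_pow]
    have e : (w : L) ^ 4 = ((w : L) * (w : L)) * ((w : L) * (w : L)) := by
      rw [show (4 : ℕ) = 2 + 2 from rfl, pow_add, pow_two]
    rw [e]
    rcases hsq (w : L) w.2 with h | h
    · rw [h, one_mul]; rfl
    · rw [h, hzz]; rfl
  have htyty : (t * y) * (t * y) = 1 := by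
    calc (t * y) * (t * y) = (t * y) * t * y := by group
      _ = (z * y * t) * t * y := by rw [hty]
      _ = z * y * (t * t) * y := by group
      _ = z * (y * y) := by rw [htt, mul_one, mul_assoc]
      _ = 1 := by rw [hyy, hzz]
  obtain ⟨a1, ha1⟩ : ∃ a1 : ↥(R : Subgroup L), (a1 : L) = t := ⟨⟨t, htR⟩, rfl⟩
  obtain ⟨a2, ha2⟩ : ∃ a2 : ↥(R : Subgroup L), (a2 : L) = t * y :=
    ⟨⟨t * y, Subgroup.mul_mem _ htR hyR⟩, rfl⟩
  refine Cfsg.Agent.Helper26.d8_iso hcard a1 a2 ?_ ?_ (hx4 _) ?_
  · apply Subtype.ext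
    show (a1 : L) * (a1 : L) = 1
    rw [ha1]; exact htt
  · apply Subtype.ext
    show (a2 : L) * (a2 : L) = 1
    rw [ha2]; exact htyty
  · intro w
    obtain ⟨K, hK⟩ : ∃ K : Subgroup ↥(R : Subgroup L),
        K = Subgroup.closure ({a1, a2} : Set ↥(R : Subgroup L)) := ⟨_, rfl⟩
    rw [← hK]
    have h1 : a1 ∈ K := by rw [hK]; exact Subgroup.subset_closure (Set.mem_insert _ _)
    have h2 : a2 ∈ K := by
      rw [hK]; exact Subgroup.subset_closure (Set.mem_insert_of_mem _ rfl)
    have hyK : ∀ v : ↥(R : Subgroup L), (v : L) = y → v ∈ K := by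
      intro v hv
      have e : v = a1⁻¹ * a2 := by
        apply Subtype.ext
        show (v : L) = (a1 : L)⁻¹ * (a2 : L)
        rw [hv, ha1, ha2]; group
      rw [e]; exact K.mul_mem (K.inv_mem h1) h2
    have hzK : ∀ v : ↥(R : Subgroup L), (v : L) = z → v ∈ K := by
      intro v hv
      have e : v = (⟨y, hyR⟩ : ↥(R : Subgroup L)) * ⟨y, hyR⟩ := by
        apply Subtype.ext
        show (v : L) = y * y
        rw [hv, hyy]
      rw [e]; exact K.mul_mem (hyK _ rfl) (hyK _ rfl)
    have hw := hall (w : L) w.2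
    simp only [List.mem_cons, List.not_mem_nil, or_false] at hw
    rcases hw with h | h | h | h | h | h | h | h
    · have e : w = 1 := Subtype.ext h
      rw [e]; exact K.one_mem
    · exact hzK w h
    · have e : w = a1 := Subtype.ext (h.trans ha1.symm)
      rw [e]; exact h1
    · have e : w = (⟨z, hzR⟩ : ↥(R : Subgroup L)) * a1 := by
        apply Subtype.ext
        show (w : L) = z * (a1 : L)
        rw [h, ha1]
      rw [e]; exact K.mul_mem (hzK _ rfl) h1
    · exact hyK w h
    · have e : w = (⟨y, hyR⟩ : ↥(R : Subgroup L)) * ⟨z, hzR⟩ := Subtype.ext h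
      rw [e]; exact K.mul_mem (hyK _ rfl) (hzK _ rfl)
    · have e : w = (⟨y, hyR⟩ : ↥(R : Subgroup L)) * a1 := by
        apply Subtype.ext
        show (w : L) = y * (a1 : L)
        rw [h, ha1]
      rw [e]; exact K.mul_mem (hyK _ rfl) h1
    · have e : w = (⟨y, hyR⟩ : ↥(R : Subgroup L)) * (⟨z, hzR⟩ * a1) := by
        apply Subtype.ext
        show (w : L) = y * (z * (a1 : L))
        rw [h, ha1]
      rw [e]; exact K.mul_mem (hyK _ rfl) (K.mul_mem (hzK _ rfl) h1)

end Cfsg.Agent.Helper26.D8Cent
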