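import Mathlib
import Cfsg.Agent.Helper26.FusFactor

set_option autoImplicit false

namespace Cfsg.Agent.Helper26

open Cfsg Cfsg.FusionSystem

variable {Ω : Type*} [Group Ω] {S : Subgroup Ω}

theorem le_of_normalizer_le' {p : ℕ} [Fact p.Prime] [Finite S] (hS : IsPGroup p S)
    {P Q : Subgroup Ω} (hP : P ≤ S) (hQ : Q ≤ S) (hQn : ∀ g ∈ P, ∀ x ∈ Q, g * x * g⁻¹ ∈ Q)
    (h : ∀ g ∈ Q, g ∈ normalizerIn S P → g ∈ P) : Q ≤ P := by
  by_contra hcon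
  have hM : P ⊔ Q ≤ S := sup_le hP hQ
  have hne : P ≠ P ⊔ Q := by
    intro he
    apply hcon
    have : Q ≤ P ⊔ Q := le_sup_right
    rw [← he] at this
    exact this
  have : Finite ↥(P ⊔ Q) := finite_of_le hM
  obtain ⟨z, hz, hzP⟩ := exists_normalizerIn_not_mem (S := P ⊔ Q) (isPGroup_of_le hS hM)
    le_sup_left hne
  obtain ⟨x, hx, q, hq, rfl⟩ := mem_sup_of_normalizes (fun x hx q hq => hQn x hx q hq) hz.1
  have hqN : q ∈ normalizerIn S P := by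
    have h1 : q = x⁻¹ * (x * q) := by group
    rw [h1]
    exact Subgroup.mul_mem _ (Subgroup.inv_mem _ (le_normalizerIn hP hx)) ⟨hM hz.1, hz.2⟩
  exact hzP (P.mul_mem hx (h q hq hqN))

/-- An automorphism in `Aut_F(Q)` centralizing `Q ∩ T` and `Q / (Q ∩ T)`, for `T` strongly closed,
lies in `O_p(Aut_F(Q))`. -/
theorem mem_pCore_of_stab {p : ℕ} [Fact p.Prime] [Finite S] (hS : IsPGroup p S)
    (F : FusionSystem S) {T : Subgroup Ω} (hT : F.StronglyClosed T) {Q : Subgroup Ω} (hQS : Q ≤ S)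
    {a : MulAut Q} (ha : a ∈ F.autGroup Q) (h1 : ∀ y : Q, (y : Ω) ∈ T → a y = y)
    (h2 : ∀ y : Q, (y : Ω)⁻¹ * ((a y : Q) : Ω) ∈ T) :
    a ∈ (pCore p (F.autGroup Q)).map (F.autGroup Q).subtype := by
  have : Finite Q := finite_of_le hQS
  let B : Subgroup (F.autGroup Q) :=
    { carrier := {α | (∀ y : Q, (y : Ω) ∈ T → (α : MulAut Q) y = y) ∧
        ∀ y : Q, (y : Ω)⁻¹ * (((α : MulAut Q) y : Q) : Ω) ∈ T}
      one_mem' := ⟨fun y _ => rfl, fun y => by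
        show (y : Ω)⁻¹ * (y : Ω) ∈ T
        rw [inv_mul_cancel]; exact T.one_mem⟩
      mul_mem' := by
        rintro α β ⟨hα1, hα2⟩ ⟨hβ1, hβ2⟩
        refine ⟨fun y hy => ?_, fun y => ?_⟩
        · show (α : MulAut Q) ((β : MulAut Q) y) = y
          rw [hβ1 y hy, hα1 y hy]
        · have e : (y : Ω)⁻¹ * (((α : MulAut Q) ((β : MulAut Q) y) : Q) : Ω)
              = ((y : Ω)⁻¹ * (((β : MulAut Q) y : Q) : Ω))
                * ((((β : MulAut Q) y : Q) : Ω)⁻¹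
                  * (((α : MulAut Q) ((β : MulAut Q) y) : Q) : Ω)) := by group
          show (y : Ω)⁻¹ * (((α : MulAut Q) ((β : MulAut Q) y) : Q) : Ω) ∈ T
          rw [e]; exact T.mul_mem (hβ2 y) (hα2 _)
      inv_mem' := by
        rintro α ⟨hα1, hα2⟩
        refine ⟨fun y hy => ?_, fun y => ?_⟩
        · show (α : MulAut Q)⁻¹ y = y
          have := hα1 y hy
          calc (α : MulAut Q)⁻¹ y = (α : MulAut Q)⁻¹ ((α : MulAut Q) y) := by rw [this]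
            _ = y := MulAut.inv_apply_self _ _ _
        · have h := hα2 ((α : MulAut Q)⁻¹ y)
          rw [MulAut.apply_inv_self] at h
          have e : (y : Ω)⁻¹ * ((((α : MulAut Q)⁻¹ y : Q)) : Ω)
              = (((((α : MulAut Q)⁻¹ y : Q)) : Ω)⁻¹ * (y : Ω))⁻¹ := by group
          show (y : Ω)⁻¹ * ((((α : MulAut Q)⁻¹ y : Q)) : Ω) ∈ T
          rw [e]; exact T.inv_mem h }
  have hBn : B.Normal := by
    constructor
    rintro α ⟨hα1, hα2⟩ β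
    have hβ := (mem_autGroup_iff F hQS β.1).1 β.2
    have hβi := (mem_autGroup_iff F hQS (β.1)⁻¹).1 (Subgroup.inv_mem _ β.2)
    refine ⟨fun y hy => ?_, fun y => ?_⟩
    · show (β : MulAut Q) ((α : MulAut Q) ((β : MulAut Q)⁻¹ y)) = y
      have h3 : ((((β : MulAut Q)⁻¹ y : Q)) : Ω) ∈ T := stronglyClosed_iso F hT hβi y hy
      rw [hα1 _ h3, MulAut.apply_inv_self]
    · have h3 := hα2 ((β : MulAut Q)⁻¹ y)
      have h4 := stronglyClosed_iso F hT hβ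
        (((β : MulAut Q)⁻¹ y)⁻¹ * (α : MulAut Q) ((β : MulAut Q)⁻¹ y)) h3
      have e : (y : Ω)⁻¹ * (((β : MulAut Q) ((α : MulAut Q) ((β : MulAut Q)⁻¹ y)) : Q) : Ω)
          = ((((β : MulAut Q) (((β : MulAut Q)⁻¹ y)⁻¹
            * (α : MulAut Q) ((β : MulAut Q)⁻¹ y))) : Q) : Ω) := by
        rw [map_mul, map_inv, MulAut.apply_inv_self, Subgroup.coe_mul, Subgroup.coe_inv]
      show (y : Ω)⁻¹ * (((β : MulAut Q) ((α : MulAut Q) ((β : MulAut Q)⁻¹ y)) : Q) : Ω) ∈ T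
      rw [e]; exact h4
  have hBp : IsPGroup p B := by
    obtain ⟨k0, hk0⟩ := (IsPGroup.iff_card (p := p) (G := Q)).1 (isPGroup_of_le hS hQS)
    rintro ⟨α, hα1, hα2⟩
    refine ⟨k0, Subtype.ext (Subtype.ext ?_)⟩
    show (α : MulAut Q) ^ p ^ k0 = 1
    apply MulEquiv.ext
    intro y
    have h3 : (α : MulAut Q) (y⁻¹ * (α : MulAut Q) y) = y⁻¹ * (α : MulAut Q) y :=
      hα1 _ (hα2 y)
    have h4 := aut_pow_apply_of_fixed (α : MulAut Q) y (y⁻¹ * (α : MulAut Q) y) (by group) h3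
      (p ^ k0)
    rw [h4, ← hk0, pow_card_eq_one', mul_one]
    rfl
  have hle : B ≤ pCore p (F.autGroup Q) := le_pCore' hBn hBp
  exact ⟨⟨a, ha⟩, hle ⟨h1, h2⟩, rfl⟩

theorem centric_aux {p : ℕ} [Fact p.Prime] [Finite S] (hS : IsPGroup p S) (F : FusionSystem S)
    (hF : F.IsSaturated p) {T : Subgroup Ω} (E : FusionSystem T) (hsub : E.IsSubsystemOf F)
    (hT : F.StronglyClosed T) (P : Subgroup Ω) (hP : F.IsCentric P)
    (hPT : ¬ E.IsCentric (P ⊓ T)) :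
    ∃ φ ∈ F.Hom P, ∃ x ∈ normalizerIn S φ.range, x ∉ φ.range ∧ x ∈ T ∧
      ∀ y ∈ φ.range, y ∈ T → x * y * x⁻¹ = y := by
  have hPS := hP.1
  have hP₀S : P ⊓ T ≤ S := inf_le_left.trans hPS
  have hTn := stronglyClosed_conj F hT
  have hA : ∃ Q₀, E.IsConj (P ⊓ T) Q₀ ∧ ¬ centralizerIn T Q₀ ≤ Q₀ := by
    by_contra hcon
    apply hPT
    refine ⟨inf_le_right, fun Q hQ => ?_⟩
    by_contra hQ'
    exact hcon ⟨Q, hQ, hQ'⟩
  obtain ⟨Q₀, ⟨ε, hε, hεr⟩, hQ₀⟩ := hA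
  have hPQ₀ : F.IsConj (P ⊓ T) Q₀ := ⟨ε, hsub _ hε, hεr⟩
  obtain ⟨R₀, hPR, hRa, hRr⟩ := hF (P ⊓ T) hP₀S
  obtain ⟨χ, hχ, e₀, he₀, hχe, hχN⟩ := exists_normalizer_map hS F hRa hRr hPR
  have hQR : F.IsConj Q₀ R₀ := isConj_trans F (isConj_symm F hPQ₀) hPR
  obtain ⟨χ', hχ', e₁, he₁, hχ'e, hχ'N⟩ := exists_normalizer_map hS F hRa hRr hQR
  have hQ₀S : Q₀ ≤ S := he₁.le_left
  have hR₀S : R₀ ≤ S := hRr.1
  have hR₀T : R₀ ≤ T := by
    intro y hy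
    have := stronglyClosed_iso F hT he₀ (e₀.symm ⟨y, hy⟩) (e₀.symm ⟨y, hy⟩).2.2
    rw [MulEquiv.apply_symm_apply] at this
    exact this
  have hC : ¬ centralizerIn T R₀ ≤ R₀ := by
    intro hle
    apply hQ₀
    intro c hc
    have hcT : c ∈ T := hc.1
    have hcS : c ∈ S := hT.1 hcT
    have hcC : c ∈ centralizerIn S Q₀ := ⟨hcS, hc.2⟩
    have hcN : c ∈ normalizerIn S Q₀ := centralizerIn_le_normalizerIn S Q₀ hcC
    have h1 : χ' ⟨c, hcN⟩ ∈ centralizerIn S R₀ :=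
      hom_mem_centralizerIn F hχ' (Q := Q₀) (P := R₀) (c := ⟨c, hcN⟩)
        (fun y hy => ⟨⟨(e₁.symm ⟨y, hy⟩ : Ω), le_normalizerIn hQ₀S (e₁.symm ⟨y, hy⟩).2⟩,
          (e₁.symm ⟨y, hy⟩).2, by rw [hχ'e (e₁.symm ⟨y, hy⟩) _]; simp⟩) hcC
    have h2 : χ' ⟨c, hcN⟩ ∈ T :=
      hT.2 (normalizerIn S Q₀ ⊓ T) inf_le_right _ (fs_restrict F inf_le_left hχ') ⟨c, hcN, hcT⟩
    have h3 : χ' ⟨c, hcN⟩ ∈ R₀ := hle ⟨h2, h1.2⟩
    have h4 := hχ'e (e₁.symm ⟨_, h3⟩) (le_normalizerIn hQ₀S (e₁.symm ⟨_, h3⟩).2)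
    rw [MulEquiv.apply_symm_apply] at h4
    have h5 := F.injective_of_mem hχ' h4
    have h6 : ((e₁.symm ⟨_, h3⟩ : Q₀) : Ω) = c := congrArg Subtype.val h5
    rw [← h6]; exact (e₁.symm ⟨_, h3⟩).2
  have hPN : P ≤ normalizerIn S (P ⊓ T) := by
    intro g hg
    rw [mem_normalizerIn_iff]
    refine ⟨hPS hg, fun x => ⟨fun hx => ⟨P.mul_mem (P.mul_mem hg hx.1) (P.inv_mem hg),
      hTn g (hPS hg) x hx.2⟩, fun hx => ?_⟩⟩
    have e : x = g⁻¹ * (g * x * g⁻¹) * g⁻¹⁻¹ := by group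
    rw [e]
    exact ⟨P.mul_mem (P.mul_mem (P.inv_mem hg) hx.1) (P.inv_mem (P.inv_mem hg)),
      hTn g⁻¹ (S.inv_mem (hPS hg)) _ hx.2⟩
  have hφ : χ.comp (Subgroup.inclusion hPN) ∈ F.Hom P := fs_restrict F hPN hχ
  refine ⟨χ.comp (Subgroup.inclusion hPN), hφ, ?_⟩
  have hD1 : ∀ y ∈ (χ.comp (Subgroup.inclusion hPN)).range, y ∈ T → y ∈ R₀ := by
    rintro _ ⟨x, rfl⟩ hy
    have hxT : (x : Ω) ∈ T := sc_preimage_mem F hT hφ x hy
    have := hχe ⟨x, x.2, hxT⟩ (hPN x.2)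
    show χ ⟨x, hPN x.2⟩ ∈ R₀
    rw [this]; exact (e₀ _).2
  have hD2 : R₀ ≤ (χ.comp (Subgroup.inclusion hPN)).range := by
    intro y hy
    refine ⟨⟨(e₀.symm ⟨y, hy⟩ : Ω), (e₀.symm ⟨y, hy⟩).2.1⟩, ?_⟩
    show χ ⟨(e₀.symm ⟨y, hy⟩ : Ω), _⟩ = y
    rw [hχe (e₀.symm ⟨y, hy⟩) _]; simp
  have hPsS : (χ.comp (Subgroup.inclusion hPN)).range ≤ S := by
    rintro _ ⟨x, rfl⟩; exact (F.le_of_mem hφ).2 x
  have hQn : ∀ g ∈ (χ.comp (Subgroup.inclusion hPN)).range, ∀ c ∈ centralizerIn T R₀,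
      g * c * g⁻¹ ∈ centralizerIn T R₀ := by
    intro g hg c hc
    have hgS := hPsS hg
    refine ⟨hTn g hgS c hc.1, ?_⟩
    show g * c * g⁻¹ ∈ Subgroup.centralizer (R₀ : Set Ω)
    rw [Subgroup.mem_centralizer_iff]
    intro r hr
    have hr' : g⁻¹ * r * g⁻¹⁻¹ ∈ R₀ := by
      apply hD1
      · exact Subgroup.mul_mem _ (Subgroup.mul_mem _ (Subgroup.inv_mem _ hg) (hD2 hr))
          (Subgroup.inv_mem _ (Subgroup.inv_mem _ hg))
      · exact hTn g⁻¹ (S.inv_mem hgS) r (hR₀T hr)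
    have hcomm := (Subgroup.mem_centralizer_iff.1 hc.2) _ hr'
    calc r * (g * c * g⁻¹) = g * ((g⁻¹ * r * g⁻¹⁻¹) * c) * g⁻¹ := by group
      _ = g * (c * (g⁻¹ * r * g⁻¹⁻¹)) * g⁻¹ := by rw [hcomm]
      _ = g * c * g⁻¹ * r := by group
  have hex : ∃ x ∈ centralizerIn T R₀,
      x ∈ normalizerIn S (χ.comp (Subgroup.inclusion hPN)).range ∧
      x ∉ (χ.comp (Subgroup.inclusion hPN)).range := by
    by_contra hcon
    push Not at hcon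
    have hle := le_of_normalizer_le' hS hPsS (inf_le_left.trans hT.1) hQn hcon
    exact hC (fun c hc => hD1 c (hle hc) hc.1)
  obtain ⟨x, hxC, hxN, hxP⟩ := hex
  refine ⟨x, hxN, hxP, hxC.1, fun y hy hyT => ?_⟩
  have hyR := hD1 y hy hyT
  have := (Subgroup.mem_centralizer_iff.1 hxC.2) y hyR
  rw [← this]; group

end Cfsg.Agent.Helper26
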