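import Mathlib
import Cfsg.Prelude.Def_PLocal
import Cfsg.Agent.Helper26.FusSolv2
import Cfsg.Agent.Helper26.FusCentric
import Cfsg.Agent.S0120

set_option autoImplicit false

namespace Cfsg.Agent.Helper26

open Cfsg Cfsg.FusionSystem

open scoped commutatorElement

variable {Ω : Type*} [Group Ω] {S : Subgroup Ω}

theorem omegaOne_stronglyClosed [Finite S] (F : FusionSystem S) {p : ℕ} {P : Subgroup Ω}
    (hP : F.IsNormal P) : F.StronglyClosed (omegaOne p P) := by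
  have hWP : omegaOne p P ≤ P := (Subgroup.closure_le _).2 (fun x hx => hx.1)
  refine ⟨hWP.trans hP.1, ?_⟩
  intro R hR φ hφ x
  obtain ⟨ψ, hψ, hψa, hψP⟩ := hP.2 R φ hφ
  have hK : omegaOne p P ≤ ((omegaOne p P).comap ψ).map (R ⊔ P).subtype := by
    refine (Subgroup.closure_le _).2 ?_
    rintro y ⟨hyP, hyp⟩
    refine Subgroup.mem_map.2 ⟨⟨y, Subgroup.mem_sup_right hyP⟩, ?_, rfl⟩
    refine Subgroup.mem_comap.2 ?_
    apply Subgroup.subset_closure
    refine ⟨normExt_mem_Q hψP _ hyP, ?_⟩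
    rw [← map_pow]
    have : (⟨y, Subgroup.mem_sup_right hyP⟩ : ↥(R ⊔ P)) ^ p = 1 := Subtype.ext hyp
    rw [this, map_one]
  obtain ⟨y, hy, hyx⟩ := hK (hR x.2)
  have hyx' : y = Subgroup.inclusion le_sup_left x := Subtype.ext hyx
  rw [← hψa x, ← hyx']
  exact hy

theorem fix_of_coprime_of_fix {G : Type*} [Group G] {p : ℕ} [Fact p.Prime] (hG : IsPGroup p G)
    (b : MulAut G) (hco : Nat.Coprime (orderOf b) p) (y : G)
    (hfix : b (y⁻¹ * b y) = y⁻¹ * b y) : b y = y := by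
  have haq : b y = y * (y⁻¹ * b y) := by group
  have hpow := aut_pow_apply_of_fixed b y (y⁻¹ * b y) haq hfix (orderOf b)
  rw [pow_orderOf_eq_one] at hpow
  have hζm : (y⁻¹ * b y) ^ orderOf b = 1 := by
    have h3 : y * (y⁻¹ * b y) ^ orderOf b = y * 1 := by rw [mul_one]; exact hpow.symm
    exact mul_left_cancel h3
  obtain ⟨k, hk⟩ := (IsPGroup.iff_orderOf.1 hG) (y⁻¹ * b y)
  have hdvd : orderOf (y⁻¹ * b y) ∣ orderOf b := orderOf_dvd_of_pow_eq_one hζm
  have h1' : orderOf (y⁻¹ * b y) = 1 := by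
    rw [hk] at hdvd ⊢
    exact Nat.Coprime.eq_one_of_dvd (Nat.Coprime.pow_left k (Nat.Coprime.symm hco)) hdvd
  have hζ1 : y⁻¹ * b y = 1 := orderOf_eq_one_iff.1 h1'
  rw [haq, hζ1, mul_one]

theorem omega_coprime_trivial {p : ℕ} [Fact p.Prime] [Finite S] (hS : IsPGroup p S)
    (F : FusionSystem S) (hp : p ≠ 2) {P : Subgroup Ω} (hP : F.StronglyClosed P) (n : ℕ)
    (Q : Fin (n + 1) → Subgroup Ω) (hQ0 : Q 0 = ⊥) (hQn : Q (Fin.last n) = omegaOne p P)
    {R : Subgroup Ω} (hRS : R ≤ S) {b : MulAut R} (hb : b ∈ F.autGroup R)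
    (hco : Nat.Coprime (orderOf b) p) (h1 : ∀ y : R, (y : Ω)⁻¹ * ((b y : R) : Ω) ∈ P)
    (h2 : ∀ i : Fin n, ∀ y : R, (y : Ω) ∈ Q i.succ →
      (y : Ω)⁻¹ * ((b y : R) : Ω) ∈ Q i.castSucc) : b = 1 := by
  have : Finite R := finite_of_le hRS
  have hRp : IsPGroup p R := isPGroup_of_le hS hRS
  have hbI := (mem_autGroup_iff F hRS b).1 hb
  have hbiI := (mem_autGroup_iff F hRS b⁻¹).1 (Subgroup.inv_mem _ hb)
  have hstep1 : ∀ j : Fin (n + 1), ∀ y : R, (y : Ω) ∈ Q j → b y = y := by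
    intro j
    induction j using Fin.induction with
    | zero =>
      intro y hy
      rw [hQ0, Subgroup.mem_bot] at hy
      have : y = 1 := Subtype.ext hy
      rw [this, map_one]
    | succ i ih =>
      intro y hy
      exact fix_of_coprime_of_fix hRp b hco y (ih (y⁻¹ * b y) (h2 i y hy))
  have hstep3 : ∀ y : R, (y : Ω) ∈ P → b y = y := by
    let c : MulAut ↥(P.subgroupOf R) :=
      { toFun := fun x => ⟨b x.1, Subgroup.mem_subgroupOf.2
          (stronglyClosed_iso F hP hbI x.1 (Subgroup.mem_subgroupOf.1 x.2))⟩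
        invFun := fun x => ⟨b⁻¹ x.1, Subgroup.mem_subgroupOf.2
          (stronglyClosed_iso F hP hbiI x.1 (Subgroup.mem_subgroupOf.1 x.2))⟩
        left_inv := fun x => Subtype.ext (MulAut.inv_apply_self _ _ _)
        right_inv := fun x => Subtype.ext (MulAut.apply_inv_self _ _ _)
        map_mul' := fun x y => Subtype.ext (map_mul b _ _) }
    have hcpow : ∀ (k : ℕ) (x : ↥(P.subgroupOf R)),
        (((c ^ k) x : ↥(P.subgroupOf R)) : R) = (b ^ k) (x : R) := by
      intro k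
      induction k with
      | zero => intro x; simp
      | succ k ih =>
        intro x
        rw [pow_succ', pow_succ', MulAut.mul_apply, MulAut.mul_apply, ← ih x]
        rfl
    have hcm : c ^ orderOf b = 1 := by
      apply MulEquiv.ext
      intro x
      apply Subtype.ext
      rw [hcpow, pow_orderOf_eq_one]
      rfl
    have hcco : Nat.Coprime (orderOf c) p :=
      Nat.Coprime.coprime_dvd_left (orderOf_dvd_of_pow_eq_one hcm) hco
    have hc1 : c = 1 := Cfsg.Agent.S0120.result hp (hRp.to_subgroup _) c hcco (by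
      intro x hx
      apply Subtype.ext
      show b (x : R) = (x : R)
      apply hstep1 (Fin.last n)
      rw [hQn]
      apply Subgroup.subset_closure
      refine ⟨Subgroup.mem_subgroupOf.1 x.2, ?_⟩
      have h3 : (((x ^ p : ↥(P.subgroupOf R)) : R) : Ω) = 1 := by rw [hx]; rfl
      exact h3)
    intro y hy
    have h4 : c ⟨y, Subgroup.mem_subgroupOf.2 hy⟩ = ⟨y, Subgroup.mem_subgroupOf.2 hy⟩ := by
      rw [hc1]; rfl
    exact congrArg Subtype.val h4
  apply MulEquiv.ext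
  intro y
  exact fix_of_coprime_of_fix hRp b hco y (hstep3 (y⁻¹ * b y) (h1 y))

theorem mem_pCore_of_omega {p : ℕ} [Fact p.Prime] [Finite S] (hS : IsPGroup p S)
    (F : FusionSystem S) (hp : p ≠ 2) {P : Subgroup Ω} (hP : F.StronglyClosed P) (n : ℕ)
    (Q : Fin (n + 1) → Subgroup Ω) (hQ0 : Q 0 = ⊥) (hQn : Q (Fin.last n) = omegaOne p P)
    (hsc : ∀ i, F.StronglyClosed (Q i)) {R : Subgroup Ω} (hRS : R ≤ S) {a : MulAut R}
    (ha : a ∈ F.autGroup R) (h1 : ∀ y : R, (y : Ω)⁻¹ * ((a y : R) : Ω) ∈ P)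
    (h2 : ∀ i : Fin n, ∀ y : R, (y : Ω) ∈ Q i.succ →
      (y : Ω)⁻¹ * ((a y : R) : Ω) ∈ Q i.castSucc) :
    a ∈ (pCore p (F.autGroup R)).map (F.autGroup R).subtype := by
  have : Finite R := finite_of_le hRS
  let B : Subgroup (F.autGroup R) :=
    { carrier := {α | (∀ y : R, (y : Ω)⁻¹ * (((α : MulAut R) y : R) : Ω) ∈ P) ∧
        ∀ i : Fin n, ∀ y : R, (y : Ω) ∈ Q i.succ →
          (y : Ω)⁻¹ * (((α : MulAut R) y : R) : Ω) ∈ Q i.castSucc}
      one_mem' := ⟨fun y => by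
          show (y : Ω)⁻¹ * (y : Ω) ∈ P
          rw [inv_mul_cancel]; exact P.one_mem,
        fun i y _ => by
          show (y : Ω)⁻¹ * (y : Ω) ∈ Q i.castSucc
          rw [inv_mul_cancel]; exact (Q i.castSucc).one_mem⟩
      mul_mem' := by
        rintro α β ⟨hα1, hα2⟩ ⟨hβ1, hβ2⟩
        have e : ∀ y : R, (y : Ω)⁻¹ * (((α : MulAut R) ((β : MulAut R) y) : R) : Ω)
            = ((y : Ω)⁻¹ * (((β : MulAut R) y : R) : Ω))
              * ((((β : MulAut R) y : R) : Ω)⁻¹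
                * (((α : MulAut R) ((β : MulAut R) y) : R) : Ω)) := fun y => by group
        refine ⟨fun y => ?_, fun i y hy => ?_⟩
        · show (y : Ω)⁻¹ * (((α : MulAut R) ((β : MulAut R) y) : R) : Ω) ∈ P
          rw [e]; exact P.mul_mem (hβ1 y) (hα1 _)
        · have hβy : ((((β : MulAut R) y : R)) : Ω) ∈ Q i.succ :=
            stronglyClosed_iso F (hsc i.succ) ((mem_autGroup_iff F hRS β.1).1 β.2) y hy
          show (y : Ω)⁻¹ * (((α : MulAut R) ((β : MulAut R) y) : R) : Ω) ∈ Q i.castSucc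
          rw [e]; exact (Q i.castSucc).mul_mem (hβ2 i y hy) (hα2 i _ hβy)
      inv_mem' := by
        rintro α ⟨hα1, hα2⟩
        have e : ∀ y : R, (y : Ω)⁻¹ * ((((α : MulAut R)⁻¹ y : R)) : Ω)
            = (((((α : MulAut R)⁻¹ y : R)) : Ω)⁻¹ * (y : Ω))⁻¹ := fun y => by group
        refine ⟨fun y => ?_, fun i y hy => ?_⟩
        · have h := hα1 ((α : MulAut R)⁻¹ y)
          rw [MulAut.apply_inv_self] at h
          show (y : Ω)⁻¹ * ((((α : MulAut R)⁻¹ y : R)) : Ω) ∈ P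
          rw [e]; exact P.inv_mem h
        · have hz : ((((α : MulAut R)⁻¹ y : R)) : Ω) ∈ Q i.succ :=
            stronglyClosed_iso F (hsc i.succ)
              ((mem_autGroup_iff F hRS (α.1)⁻¹).1 (Subgroup.inv_mem _ α.2)) y hy
          have h := hα2 i ((α : MulAut R)⁻¹ y) hz
          rw [MulAut.apply_inv_self] at h
          show (y : Ω)⁻¹ * ((((α : MulAut R)⁻¹ y : R)) : Ω) ∈ Q i.castSucc
          rw [e]; exact (Q i.castSucc).inv_mem h }
  have hBn : B.Normal := by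
    constructor
    rintro α ⟨hα1, hα2⟩ β
    have hβ := (mem_autGroup_iff F hRS β.1).1 β.2
    have hβi := (mem_autGroup_iff F hRS (β.1)⁻¹).1 (Subgroup.inv_mem _ β.2)
    have e : ∀ y : R,
        (y : Ω)⁻¹ * (((β : MulAut R) ((α : MulAut R) ((β : MulAut R)⁻¹ y)) : R) : Ω)
        = ((((β : MulAut R) (((β : MulAut R)⁻¹ y)⁻¹
          * (α : MulAut R) ((β : MulAut R)⁻¹ y))) : R) : Ω) := fun y => by
      rw [map_mul, map_inv, MulAut.apply_inv_self, Subgroup.coe_mul, Subgroup.coe_inv]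
    refine ⟨fun y => ?_, fun i y hy => ?_⟩
    · show (y : Ω)⁻¹ * (((β : MulAut R) ((α : MulAut R) ((β : MulAut R)⁻¹ y)) : R) : Ω) ∈ P
      rw [e]; exact stronglyClosed_iso F hP hβ _ (hα1 _)
    · have hz : ((((β : MulAut R)⁻¹ y : R)) : Ω) ∈ Q i.succ :=
        stronglyClosed_iso F (hsc i.succ) hβi y hy
      show (y : Ω)⁻¹ * (((β : MulAut R) ((α : MulAut R) ((β : MulAut R)⁻¹ y)) : R) : Ω)
        ∈ Q i.castSucc
      rw [e]; exact stronglyClosed_iso F (hsc i.castSucc) hβ _ (hα2 i _ hz)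
  have hBp : IsPGroup p B := by
    rintro ⟨α, hαB⟩
    have hpos : orderOf (α : MulAut R) ≠ 0 := (orderOf_pos _).ne'
    obtain ⟨k, m, hm, hkm⟩ :=
      Nat.exists_eq_pow_mul_and_not_dvd hpos p (Fact.out : p.Prime).ne_one
    refine ⟨k, Subtype.ext (Subtype.ext ?_)⟩
    show (α : MulAut R) ^ p ^ k = 1
    have hβB : α ^ p ^ k ∈ B := B.pow_mem hαB _
    have hord : orderOf ((α : MulAut R) ^ p ^ k) ∣ m := by
      apply orderOf_dvd_of_pow_eq_one
      rw [← pow_mul, ← hkm, pow_orderOf_eq_one]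
    have hco : Nat.Coprime (orderOf ((α : MulAut R) ^ p ^ k)) p :=
      Nat.Coprime.coprime_dvd_left hord
        (Nat.Coprime.symm ((Nat.Prime.coprime_iff_not_dvd Fact.out).2 hm))
    exact omega_coprime_trivial hS F hp hP n Q hQ0 hQn hRS (b := (α : MulAut R) ^ p ^ k)
      (Subgroup.pow_mem _ α.2 _) hco hβB.1 hβB.2
  have hle : B ≤ pCore p (F.autGroup R) := le_pCore' hBn hBp
  exact ⟨⟨a, ha⟩, hle ⟨h1, h2⟩, rfl⟩

theorem normal_of_omega_chain {p : ℕ} [Fact p.Prime] [Finite S] (hS : IsPGroup p S)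
    (F : FusionSystem S) (hF : F.IsSaturated p) (hp : p ≠ 2) {P : Subgroup Ω}
    (hP : F.StronglyClosed P) (n : ℕ) (Q : Fin (n + 1) → Subgroup Ω) (hQ0 : Q 0 = ⊥)
    (hQn : Q (Fin.last n) = omegaOne p P) (hmono : Monotone Q)
    (hsc : ∀ i, F.StronglyClosed (Q i)) (hcomm : ∀ i : Fin n, ⁅Q i.succ, P⁆ ≤ Q i.castSucc) :
    F.IsNormal P := by
  have hPS := hP.1
  have hWP : omegaOne p P ≤ P := (Subgroup.closure_le _).2 (fun x hx => hx.1)
  have hWn : F.IsNormal (omegaOne p P) := by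
    have hWsc : F.StronglyClosed (omegaOne p P) := hQn ▸ hsc (Fin.last n)
    refine normal_of_chain hS F hF hWsc n Q hQ0 hQn hmono (fun i => ?_)
      (fun i => weaklyClosed_of_stronglyClosed F (hsc _))
    exact (Subgroup.commutator_mono le_rfl hWP).trans (hcomm i)
  apply normal_of_frc hS F hF hP
  intro R hRn hRa hRr hRc hRrad
  have hRS := hRc.1
  have hPn := stronglyClosed_conj F hP
  apply le_of_normalizer_le hS hRS hPS hPn
  intro g hgP hgN
  have hcg : conjAut R g hgN.2 ∈ F.autGroup R :=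
    autInducedBy_le_autGroup F hRS (conjAut_mem S R g hgN.1 hgN.2)
  have hcore : conjAut R g hgN.2 ∈ (pCore p (F.autGroup R)).map (F.autGroup R).subtype := by
    apply mem_pCore_of_omega hS F hp hP n Q hQ0 hQn hsc hRS hcg
    · intro y
      show (y : Ω)⁻¹ * (g * (y : Ω) * g⁻¹) ∈ P
      have e : (y : Ω)⁻¹ * (g * (y : Ω) * g⁻¹) = ((y : Ω)⁻¹ * g * (y : Ω)⁻¹⁻¹) * g⁻¹ := by group
      rw [e]
      exact P.mul_mem (hPn _ (S.inv_mem (hRS y.2)) g hgP) (P.inv_mem hgP)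
    · intro i y hy
      show (y : Ω)⁻¹ * (g * (y : Ω) * g⁻¹) ∈ Q i.castSucc
      have e : (y : Ω)⁻¹ * (g * (y : Ω) * g⁻¹) = ⁅(y : Ω)⁻¹, g⁆ := by
        rw [commutatorElement_def]; group
      rw [e]
      exact hcomm i (Subgroup.commutator_mem_commutator (Subgroup.inv_mem _ hy) hgP)
  rw [hRrad.2] at hcore
  exact mem_of_conjAut_mem_inn F hRc hgN hcore

end Cfsg.Agent.Helper26
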