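import Mathlib
import Cfsg.Agent.Helper26.FusOmega
import Cfsg.Agent.Helper26.FusNormal2
import Cfsg.Agent.Helper25.FusAut
import Cfsg.Agent.S5145

/-!
Helper library (helper26): constrained fusion systems and normal subsystems.

* `le_centric_radical_of_ext` : a subgroup `Q` invariant under `S` such that every automorphism in
  `Aut_F(P)` extends to a homomorphism on `PQ` preserving `Q` lies in every centric radical `P`.
* `normal_inf_stronglyClosed` : `R ⊴ F`, `T` strongly closed gives `R ⊓ T ⊴ F`.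
* `mem_pCore_of_stab3` : an automorphism of `P ≥ R` (with `C_S(R) ≤ R`) acting trivially on
  `R ∩ T` and on `R/(R ∩ T)` lies in `O_p(Aut_F(P))`.
* `constrained_of_normal` : a normal subsystem of a constrained system is constrained.
-/

set_option autoImplicit false

namespace Cfsg.Agent.Helper26

open Cfsg Cfsg.FusionSystem

variable {Ω : Type*} [Group Ω] {S : Subgroup Ω}

theorem le_centric_radical_of_ext {p : ℕ} [Fact p.Prime] [Finite S] (hS : IsPGroup p S)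
    (F : FusionSystem S) {Q : Subgroup Ω} (hQS : Q ≤ S)
    (hQn : ∀ g ∈ S, ∀ x ∈ Q, g * x * g⁻¹ ∈ Q) {P : Subgroup Ω}
    (hc : F.IsCentric P) (hr : F.IsRadical p P)
    (hext : ∀ α ∈ F.autGroup P, ∃ ψ : ↥(P ⊔ Q) →* Ω,
      (∀ x : P, ψ (Subgroup.inclusion le_sup_left x) = ((α x : P) : Ω)) ∧
      ∀ z : ↥(P ⊔ Q), (z : Ω) ∈ Q → ψ z ∈ Q) : Q ≤ P := by
  have hPS := hc.1
  apply le_of_normalizer_le hS hPS hQS hQn
  intro g hgQ hgN
  have hBp : IsPGroup p ((autInducedBy (Q ⊓ normalizerIn S P) P).subgroupOf (F.autGroup P)) := by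
    have h1 : autInducedBy (Q ⊓ normalizerIn S P) P ≤ autInducedBy S P := by
      intro β hβ
      obtain ⟨h, hh, hβh⟩ := (mem_autInducedBy_iff _ P β).1 hβ
      exact (mem_autInducedBy_iff S P β).2 ⟨h, hQS hh.1, hβh⟩
    exact ((isPGroup_autInducedBy hS P).to_le h1).comap_of_injective _
      (Subgroup.subtype_injective _)
  have hBn : ((autInducedBy (Q ⊓ normalizerIn S P) P).subgroupOf (F.autGroup P)).Normal := by
    constructor
    intro β hβ α
    obtain ⟨h, hh, hβh⟩ := (mem_autInducedBy_iff _ P _).1 (Subgroup.mem_subgroupOf.1 hβ)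
    obtain ⟨ψ, hψa, hψQ⟩ := hext α.1 α.2
    have hhQ : ψ ⟨h, Subgroup.mem_sup_right hh.1⟩ ∈ Q := hψQ _ hh.1
    apply Subgroup.mem_subgroupOf.2
    have hconj : ∀ x : P, ((((α * β * α⁻¹ : F.autGroup P) : MulAut P) x : P) : Ω)
        = ψ ⟨h, Subgroup.mem_sup_right hh.1⟩ * (x : Ω)
          * (ψ ⟨h, Subgroup.mem_sup_right hh.1⟩)⁻¹ := by
      intro x
      show (((α : MulAut P) ((β : MulAut P) ((α : MulAut P)⁻¹ x)) : P) : Ω) = _
      have h1 : ∀ y : P, (((α : MulAut P) y : P) : Ω) = ψ (Subgroup.inclusion le_sup_left y) :=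
        fun y => (hψa y).symm
      rw [h1]
      have h2 : (Subgroup.inclusion le_sup_left ((β : MulAut P) ((α : MulAut P)⁻¹ x)) : ↥(P ⊔ Q))
          = ⟨h, Subgroup.mem_sup_right hh.1⟩ * Subgroup.inclusion le_sup_left ((α : MulAut P)⁻¹ x)
            * ⟨h, Subgroup.mem_sup_right hh.1⟩⁻¹ := Subtype.ext (hβh _)
      rw [h2, map_mul, map_mul, map_inv, ← h1, MulAut.apply_inv_self]
    have hmemS : ψ ⟨h, Subgroup.mem_sup_right hh.1⟩ ∈ S := hQS hhQ
    exact (mem_autInducedBy_iff _ P _).2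
      ⟨_, ⟨hhQ, mem_normalizerIn_of_aut hmemS hconj⟩, hconj⟩
  have hle := le_pCore' hBn hBp
  have hcg : conjAut P g hgN.2 ∈ F.autGroup P :=
    autInducedBy_le_autGroup F hPS (conjAut_mem S P g hgN.1 hgN.2)
  have hmemB : (⟨conjAut P g hgN.2, hcg⟩ : F.autGroup P)
      ∈ (autInducedBy (Q ⊓ normalizerIn S P) P).subgroupOf (F.autGroup P) :=
    Subgroup.mem_subgroupOf.2 ((mem_autInducedBy_iff _ P _).2 ⟨g, ⟨hgQ, hgN⟩, fun _ => rfl⟩)
  have h1 : conjAut P g hgN.2 ∈ (pCore p (F.autGroup P)).map (F.autGroup P).subtype :=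
    ⟨_, hle hmemB, rfl⟩
  rw [hr.2] at h1
  exact mem_of_conjAut_mem_inn F hc hgN h1

theorem normal_inf_stronglyClosed [Finite S] (F : FusionSystem S) {R T : Subgroup Ω}
    (hR : F.IsNormal R) (hT : F.StronglyClosed T) : F.IsNormal (R ⊓ T) := by
  have hRsc := stronglyClosed_of_normal F hR
  have hsc : F.StronglyClosed (R ⊓ T) := stronglyClosed_inf F hRsc hT
  have : Finite ↥(R ⊓ T) := finite_of_le hsc.1
  refine ⟨hsc.1, fun P φ hφ => ?_⟩
  obtain ⟨ψ, hψ, hψa, hψR⟩ := hR.2 P φ hφ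
  have hle : P ⊔ (R ⊓ T) ≤ P ⊔ R := sup_le le_sup_left (inf_le_left.trans le_sup_right)
  have hψ' : ψ.comp (Subgroup.inclusion hle) ∈ F.Hom (P ⊔ (R ⊓ T)) := fs_restrict F hle hψ
  refine ⟨_, hψ', fun x => ?_, ?_⟩
  · rw [← hψa x]; rfl
  · have hχ : (ψ.comp (Subgroup.inclusion hle)).comp
        (Subgroup.inclusion (le_sup_right : R ⊓ T ≤ P ⊔ (R ⊓ T))) ∈ F.Hom (R ⊓ T) :=
      fs_restrict F le_sup_right hψ'
    obtain ⟨e, he, hex⟩ := exists_iso_of_hom_of_card F hχ (Q := R ⊓ T)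
      (fun y => hsc.2 _ le_rfl _ hχ y) le_rfl
    ext y
    constructor
    · rintro ⟨z, hz, rfl⟩
      have hz' : (z : Ω) ∈ R ⊓ T := Subgroup.mem_subgroupOf.1 hz
      have h1 := hsc.2 _ le_rfl _ hχ ⟨(z : Ω), hz'⟩
      exact h1
    · intro hy
      refine ⟨Subgroup.inclusion le_sup_right (e.symm ⟨y, hy⟩), ?_, ?_⟩
      · exact Subgroup.mem_subgroupOf.2 (e.symm ⟨y, hy⟩).2
      · have h1 := hex (e.symm ⟨y, hy⟩)
        rw [MulEquiv.apply_symm_apply] at h1
        exact h1.symm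

theorem mem_pCore_of_stab3 {p : ℕ} [Fact p.Prime] [Finite S] (hS : IsPGroup p S)
    (F : FusionSystem S) {R T : Subgroup Ω} (hR : F.StronglyClosed R)
    (hRcent : centralizerIn S R ≤ R) (hT : F.StronglyClosed T) {P : Subgroup Ω} (hPS : P ≤ S)
    (hRP : R ≤ P) {a : MulAut P} (ha : a ∈ F.autGroup P)
    (h1 : ∀ y : P, (y : Ω) ∈ R → (y : Ω) ∈ T → a y = y)
    (h2 : ∀ y : P, (y : Ω) ∈ R → (y : Ω)⁻¹ * ((a y : P) : Ω) ∈ T) :
    a ∈ (pCore p (F.autGroup P)).map (F.autGroup P).subtype := by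
  have : Finite P := finite_of_le hPS
  have hPp : IsPGroup p P := isPGroup_of_le hS hPS
  have hinvR : ∀ β ∈ F.autGroup P, ∀ y : P, (y : Ω) ∈ R → ((β y : P) : Ω) ∈ R :=
    fun β hβ y hy => stronglyClosed_iso F hR ((mem_autGroup_iff F hPS β).1 hβ) y hy
  have hinvT : ∀ β ∈ F.autGroup P, ∀ y : P, (y : Ω) ∈ T → ((β y : P) : Ω) ∈ T :=
    fun β hβ y hy => stronglyClosed_iso F hT ((mem_autGroup_iff F hPS β).1 hβ) y hy
  let B : Subgroup (F.autGroup P) :=
    { carrier := {β | (∀ y : P, (y : Ω) ∈ R → (y : Ω) ∈ T → (β : MulAut P) y = y) ∧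
        ∀ y : P, (y : Ω) ∈ R → (y : Ω)⁻¹ * (((β : MulAut P) y : P) : Ω) ∈ T}
      one_mem' := ⟨fun y _ _ => rfl, fun y _ => by
          show (y : Ω)⁻¹ * (y : Ω) ∈ T
          rw [inv_mul_cancel]; exact T.one_mem⟩
      mul_mem' := by
        rintro α β ⟨hα1, hα2⟩ ⟨hβ1, hβ2⟩
        refine ⟨fun y hyR hyT => ?_, fun y hyR => ?_⟩
        · show (α : MulAut P) ((β : MulAut P) y) = y
          rw [hβ1 y hyR hyT]; exact hα1 y hyR hyT
        · have e : (y : Ω)⁻¹ * (((α : MulAut P) ((β : MulAut P) y) : P) : Ω)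
              = ((y : Ω)⁻¹ * (((β : MulAut P) y : P) : Ω))
                * ((((β : MulAut P) y : P) : Ω)⁻¹
                  * (((α : MulAut P) ((β : MulAut P) y) : P) : Ω)) := by group
          show (y : Ω)⁻¹ * (((α : MulAut P) ((β : MulAut P) y) : P) : Ω) ∈ T
          rw [e]; exact T.mul_mem (hβ2 y hyR) (hα2 _ (hinvR _ β.2 y hyR))
      inv_mem' := by
        rintro β ⟨hβ1, hβ2⟩
        have hβi : (β : MulAut P)⁻¹ ∈ F.autGroup P := Subgroup.inv_mem _ β.2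
        refine ⟨fun y hyR hyT => ?_, fun y hyR => ?_⟩
        · show (β : MulAut P)⁻¹ y = y
          have h3 : (β : MulAut P)⁻¹ ((β : MulAut P) y) = (β : MulAut P)⁻¹ y := by
            rw [hβ1 y hyR hyT]
          rw [MulAut.inv_apply_self] at h3
          exact h3.symm
        · have e : (y : Ω)⁻¹ * ((((β : MulAut P)⁻¹ y : P)) : Ω)
              = (((((β : MulAut P)⁻¹ y : P)) : Ω)⁻¹ * (y : Ω))⁻¹ := by group
          have h3 := hβ2 ((β : MulAut P)⁻¹ y) (hinvR _ hβi y hyR)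
          rw [MulAut.apply_inv_self] at h3
          show (y : Ω)⁻¹ * ((((β : MulAut P)⁻¹ y : P)) : Ω) ∈ T
          rw [e]; exact T.inv_mem h3 }
  have hBn : B.Normal := by
    constructor
    rintro α ⟨hα1, hα2⟩ γ
    have hγi : (γ : MulAut P)⁻¹ ∈ F.autGroup P := Subgroup.inv_mem _ γ.2
    refine ⟨fun y hyR hyT => ?_, fun y hyR => ?_⟩
    · show (γ : MulAut P) ((α : MulAut P) ((γ : MulAut P)⁻¹ y)) = y
      rw [hα1 _ (hinvR _ hγi y hyR) (hinvT _ hγi y hyT), MulAut.apply_inv_self]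
    · have hzR := hinvR _ hγi y hyR
      have h3 := hα2 _ hzR
      have h4 := hinvT _ γ.2 (((γ : MulAut P)⁻¹ y)⁻¹ * (α : MulAut P) ((γ : MulAut P)⁻¹ y)) (by
        rw [Subgroup.coe_mul, Subgroup.coe_inv]; exact h3)
      have e : (y : Ω)⁻¹ * (((γ : MulAut P) ((α : MulAut P) ((γ : MulAut P)⁻¹ y)) : P) : Ω)
          = ((((γ : MulAut P) (((γ : MulAut P)⁻¹ y)⁻¹
            * (α : MulAut P) ((γ : MulAut P)⁻¹ y))) : P) : Ω) := by
        rw [map_mul, map_inv, MulAut.apply_inv_self, Subgroup.coe_mul, Subgroup.coe_inv]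
      show (y : Ω)⁻¹ * (((γ : MulAut P) ((α : MulAut P) ((γ : MulAut P)⁻¹ y)) : P) : Ω) ∈ T
      rw [e]; exact h4
  have hBp : IsPGroup p B := by
    rintro ⟨α, hαB⟩
    have hpos : orderOf (α : MulAut P) ≠ 0 := (orderOf_pos _).ne'
    obtain ⟨k, m, hm, hkm⟩ :=
      Nat.exists_eq_pow_mul_and_not_dvd hpos p (Fact.out : p.Prime).ne_one
    refine ⟨k, Subtype.ext (Subtype.ext ?_)⟩
    show (α : MulAut P) ^ p ^ k = 1
    have hβB : α ^ p ^ k ∈ B := B.pow_mem hαB _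
    have hord : orderOf ((α : MulAut P) ^ p ^ k) ∣ m := by
      apply orderOf_dvd_of_pow_eq_one
      rw [← pow_mul, ← hkm, pow_orderOf_eq_one]
    have hco : Nat.Coprime (orderOf ((α : MulAut P) ^ p ^ k)) p :=
      Nat.Coprime.coprime_dvd_left hord
        (Nat.Coprime.symm ((Nat.Prime.coprime_iff_not_dvd Fact.out).2 hm))
    obtain ⟨b, hbdef⟩ : ∃ b : MulAut P, b = (α : MulAut P) ^ p ^ k := ⟨_, rfl⟩
    rw [← hbdef] at hco ⊢
    have hbA : b ∈ F.autGroup P := by rw [hbdef]; exact Subgroup.pow_mem _ α.2 _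
    have hb1 : ∀ y : P, (y : Ω) ∈ R → (y : Ω) ∈ T → b y = y := by
      rw [hbdef]; exact hβB.1
    have hb2 : ∀ y : P, (y : Ω) ∈ R → (y : Ω)⁻¹ * ((b y : P) : Ω) ∈ T := by
      rw [hbdef]; exact hβB.2
    have hA : ∀ y : P, (y : Ω) ∈ R → b y = y := by
      intro y hyR
      apply fix_of_coprime_of_fix hPp b hco y
      apply hb1
      · rw [Subgroup.coe_mul, Subgroup.coe_inv]
        exact R.mul_mem (R.inv_mem hyR) (hinvR b hbA y hyR)
      · rw [Subgroup.coe_mul, Subgroup.coe_inv]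
        exact hb2 y hyR
    apply MulEquiv.ext
    intro x
    apply fix_of_coprime_of_fix hPp b hco x
    apply hA
    apply hRcent
    rw [mem_centralizerIn_iff]
    refine ⟨hPS (x⁻¹ * b x).2, fun r hr => ?_⟩
    have hxr : ((x * ⟨r, hRP hr⟩ * x⁻¹ : P) : Ω) ∈ R := by
      rw [Subgroup.coe_mul, Subgroup.coe_mul, Subgroup.coe_inv]
      exact stronglyClosed_conj F hR _ (hPS x.2) r hr
    have h3 := hA _ hxr
    rw [map_mul, map_mul, map_inv, hA ⟨r, hRP hr⟩ hr] at h3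
    have h4 : ((b x : P) : Ω) * r * ((b x : P) : Ω)⁻¹ = (x : Ω) * r * (x : Ω)⁻¹ := by
      have := congrArg Subtype.val h3
      simpa using this
    rw [Subgroup.coe_mul, Subgroup.coe_inv]
    calc r * ((x : Ω)⁻¹ * ((b x : P) : Ω))
        = (x : Ω)⁻¹ * ((x : Ω) * r * (x : Ω)⁻¹) * ((b x : P) : Ω) := by group
      _ = (x : Ω)⁻¹ * (((b x : P) : Ω) * r * ((b x : P) : Ω)⁻¹) * ((b x : P) : Ω) := by rw [h4]
      _ = (x : Ω)⁻¹ * ((b x : P) : Ω) * r := by group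
  have hle : B ≤ pCore p (F.autGroup P) := le_pCore' hBn hBp
  exact ⟨⟨a, ha⟩, hle ⟨h1, h2⟩, rfl⟩

theorem constrained_of_normal {p : ℕ} [Fact p.Prime] [Finite S] (hS : IsPGroup p S)
    (F : FusionSystem S) (hF : F.IsConstrained p) {T : Subgroup Ω} (E : FusionSystem T)
    (hE : E.IsNormalIn F p) : E.IsConstrained p := by
  obtain ⟨⟨hEsat, hFsat, hEsub, hTsc, -, -⟩, -⟩ := hE
  have hTS := hTsc.1
  have : Finite T := finite_of_le hTS
  have hTp : IsPGroup p T := isPGroup_of_le hS hTS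
  obtain ⟨Q, hQn, hQc⟩ := hF.2
  have hRn : F.IsNormal F.core := Cfsg.Agent.S5145.result F
  have hQR : Q ≤ F.core := le_sSup hQn
  have hRS := hRn.1
  have hRc : F.IsCentric F.core := Cfsg.Agent.Helper25.centric_of_le F hQc hQR hRS
  have hRsc := stronglyClosed_of_normal F hRn
  have hRcent : centralizerIn S F.core ≤ F.core := hRc.2 _ (isConj_refl F hRS)
  have hR₀sc : F.StronglyClosed (F.core ⊓ T) := stronglyClosed_inf F hRsc hTsc
  have hR₀n : F.IsNormal (F.core ⊓ T) := normal_inf_stronglyClosed F hRn hTsc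
  have hCsc : F.StronglyClosed (T ⊓ centralizerIn S (F.core ⊓ T)) :=
    stronglyClosed_inf F hTsc (centralizerIn_stronglyClosed F hR₀n)
  have hCn : F.IsNormal (T ⊓ centralizerIn S (F.core ⊓ T)) := by
    apply normal_of_frc hS F hFsat hCsc
    intro P hPn hPa hPr hPc hPrad
    have hPS := hPc.1
    have hRP : F.core ≤ P := normal_le_centric_radical hS F hRn hPc hPrad
    apply le_of_normalizer_le hS hPS hCsc.1 (stronglyClosed_conj F hCsc)
    intro g hgC hgN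
    have hgT : g ∈ T := hgC.1
    have hgcent := (mem_centralizerIn_iff.1 hgC.2).2
    have hcg : conjAut P g hgN.2 ∈ F.autGroup P :=
      autInducedBy_le_autGroup F hPS (conjAut_mem S P g hgN.1 hgN.2)
    have hcore : conjAut P g hgN.2 ∈ (pCore p (F.autGroup P)).map (F.autGroup P).subtype := by
      apply mem_pCore_of_stab3 hS F hRsc hRcent hTsc hPS hRP hcg
      · intro y hyR hyT
        apply Subtype.ext
        show g * (y : Ω) * g⁻¹ = (y : Ω)
        have h3 := hgcent (y : Ω) ⟨hyR, hyT⟩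
        rw [← h3, mul_inv_cancel_right]
      · intro y hyR
        show (y : Ω)⁻¹ * (g * (y : Ω) * g⁻¹) ∈ T
        have e : (y : Ω)⁻¹ * (g * (y : Ω) * g⁻¹) = ((y : Ω)⁻¹ * g * (y : Ω)⁻¹⁻¹) * g⁻¹ := by
          group
        rw [e]
        exact T.mul_mem (stronglyClosed_conj F hTsc _ (S.inv_mem (hPS y.2)) g hgT)
          (T.inv_mem hgT)
    rw [hPrad.2] at hcore
    exact mem_of_conjAut_mem_inn F hPc hgN hcore
  have hCR : T ⊓ centralizerIn S (F.core ⊓ T) ≤ F.core := le_sSup hCn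
  have hR₀scE : E.StronglyClosed (F.core ⊓ T) :=
    ⟨inf_le_right, fun R' hR' φ hφ x => hR₀sc.2 R' hR' φ (hEsub R' hφ) x⟩
  have hR₀nE : E.IsNormal (F.core ⊓ T) := by
    apply normal_of_frc hTp E hEsat hR₀scE
    intro P hPn hPa hPr hPc hPrad
    have hPT := hPc.1
    apply le_centric_radical_of_ext hTp E inf_le_right
      (fun g hg => stronglyClosed_conj F hR₀sc g (hTS hg)) hPc hPrad
    intro α hα
    have hαE : P.subtype.comp α.toMonoidHom ∈ E.Hom P := (mem_autGroup_iff E hPT α).1 hα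
    obtain ⟨ψ, hψ, hψa, hψR⟩ := hR₀n.2 P _ (hEsub P hαE)
    exact ⟨ψ, fun x => hψa x, fun z hz => normExt_mem_Q hψR z hz⟩
  refine ⟨hEsat, F.core ⊓ T, hR₀nE, inf_le_right, ?_⟩
  rintro Q' ⟨φ, hφ, rfl⟩
  rw [(weaklyClosed_of_stronglyClosed E hR₀scE).2 φ hφ]
  intro x hx
  have hx' := mem_centralizerIn_iff.1 hx
  have hxC : x ∈ T ⊓ centralizerIn S (F.core ⊓ T) :=
    ⟨hx'.1, mem_centralizerIn_iff.2 ⟨hTS hx'.1, hx'.2⟩⟩
  exact ⟨hCR hxC, hx'.1⟩

end Cfsg.Agent.Helper26
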