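import Mathlib
import Cfsg.Agent.Helper26.FusHyp
import Cfsg.Agent.S5134
import Cfsg.Agent.S5144
import Cfsg.Agent.S5084

set_option autoImplicit false

namespace Cfsg.Agent.Helper26

open Cfsg Cfsg.FusionSystem

variable {Ω : Type*} [Group Ω] {S : Subgroup Ω}

/-! ### Central subgroups -/

theorem central_fix {F : FusionSystem S} {Q : Subgroup Ω} (hQ : F.IsCentral Q) {M : Subgroup Ω}
    {ψ : M →* Ω} (hψ : ψ ∈ F.Hom M) (z : M) (hz : (z : Ω) ∈ Q) : ψ z = z := by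
  obtain ⟨Ψ, hΨ, hΨa, hΨQ⟩ := hQ.2 M ψ hψ
  have h1 := hΨa z
  have h2 := hΨQ ⟨z, hz⟩
  have e : Subgroup.inclusion (le_sup_left : M ≤ M ⊔ Q) z
      = Subgroup.inclusion (le_sup_right : Q ≤ M ⊔ Q) ⟨z, hz⟩ := Subtype.ext rfl
  rw [← h1, e]; exact h2

theorem central_comm {F : FusionSystem S} {Q : Subgroup Ω} (hQ : F.IsCentral Q) {g z : Ω}
    (hg : g ∈ S) (hz : z ∈ Q) : g * z = z * g := by
  have h := central_fix hQ (F.conj_mem hQ.1 hg) ⟨z, hz⟩ hz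
  have h' : g * z * g⁻¹ = z := h
  calc g * z = g * z * g⁻¹ * g := by group
    _ = z * g := by rw [h']

theorem central_stronglyClosed {F : FusionSystem S} {Q : Subgroup Ω} (hQ : F.IsCentral Q) :
    F.StronglyClosed Q :=
  ⟨hQ.1, fun R hR φ hφ x => by rw [central_fix hQ hφ x (hR x.2)]; exact hR x.2⟩

/-- A subgroup of `Z(S)` fixed pointwise by the automorphism groups of the fully automized centric
subgroups is central in the saturated system. -/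
theorem central_of_aut_fix {p : ℕ} [Fact p.Prime] [Finite S] (hS : IsPGroup p S)
    (F : FusionSystem S) (hF : F.IsSaturated p) {Q : Subgroup Ω} (hQS : Q ≤ S)
    (hQc : ∀ g ∈ S, ∀ x ∈ Q, g * x * g⁻¹ = x)
    (h : ∀ P : Subgroup Ω, F.IsFullyAutomized p P → F.IsCentric P → ∀ hQP : Q ≤ P,
      ∀ α ∈ F.autGroup P, ∀ q : Q, α ⟨q, hQP q.2⟩ = ⟨q, hQP q.2⟩) : F.IsCentral Q := by
  have hle : F ≤ Cfsg.Agent.S5084.centSys F Q hQS hQc := by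
    apply alperin hS F hF
    intro P hn ha hr hc hrad α hα
    have hPS := hc.1
    have hα' := (mem_autGroup_iff F hPS α).1 hα
    have hQP : Q ≤ P := by
      intro q hq
      apply hc.2 P (isConj_refl F hPS)
      rw [mem_centralizerIn_iff]
      refine ⟨hQS hq, fun x hx => ?_⟩
      have := hQc x (hPS hx) q hq
      exact mul_inv_eq_iff_eq_mul.1 this
    apply Subgroup.subset_closure
    show P.subtype.comp α.toMonoidHom ∈ F.Hom P ∧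
      Cfsg.Agent.S5084.CentExt F Q P (P.subtype.comp α.toMonoidHom)
    refine ⟨hα', (P.subtype.comp α.toMonoidHom).comp (Subgroup.inclusion (sup_le le_rfl hQP)),
        fs_restrict F (sup_le le_rfl hQP) hα', fun x => rfl, fun q => ?_⟩
    exact congrArg Subtype.val (h P ha hc hQP α hα q)
  exact ⟨hQS, fun P φ hφ =>
    (show φ ∈ F.Hom P ∧ Cfsg.Agent.S5084.CentExt F Q P φ from hle P hφ).2⟩

/-! ### Commutator identities with central elements -/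

theorem comm_central_left {G : Type*} [Group G] (g u z : G) (h1 : g * z = z * g)
    (h2 : u * z = z * u) : (g * z)⁻¹ * u⁻¹ * (g * z) * u = g⁻¹ * u⁻¹ * g * u := by
  have h3 : u⁻¹ * z = z * u⁻¹ := (Commute.inv_left (show Commute u z from h2)).eq
  calc (g * z)⁻¹ * u⁻¹ * (g * z) * u = g⁻¹ * (z⁻¹ * (u⁻¹ * z)) * g * u := by rw [h1]; group
    _ = g⁻¹ * (z⁻¹ * (z * u⁻¹)) * g * u := by rw [h3]
    _ = g⁻¹ * u⁻¹ * g * u := by group

theorem comm_central_right {G : Type*} [Group G] (g u z : G) (h1 : g * z = z * g)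
    (h2 : u * z = z * u) : g⁻¹ * (u * z)⁻¹ * g * (u * z) = g⁻¹ * u⁻¹ * g * u := by
  calc g⁻¹ * (u * z)⁻¹ * g * (u * z) = g⁻¹ * u⁻¹ * (z⁻¹ * (g * z)) * u := by rw [h2]; group
    _ = g⁻¹ * u⁻¹ * (z⁻¹ * (z * g)) * u := by rw [h1]
    _ = g⁻¹ * u⁻¹ * g * u := by group

theorem comm_of_central_comm {G : Type*} [Group G] (v w u c : G) (h1 : v * u = u * v * c)
    (h2 : w * u = u * w * c) (hcv : c * v = v * c) (hcw : c * w = w * c) :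
    v⁻¹ * w * u = u * (v⁻¹ * w) := by
  have e1 : u * v⁻¹ = v⁻¹ * u * c := by
    calc u * v⁻¹ = v⁻¹ * (v * u) * v⁻¹ := by group
      _ = v⁻¹ * (u * v * c) * v⁻¹ := by rw [h1]
      _ = v⁻¹ * u * (v * c) * v⁻¹ := by group
      _ = v⁻¹ * u * (c * v) * v⁻¹ := by rw [hcv]
      _ = v⁻¹ * u * c := by group
  calc v⁻¹ * w * u = v⁻¹ * (w * u) := by group
    _ = v⁻¹ * (u * w * c) := by rw [h2]
    _ = v⁻¹ * u * (w * c) := by group
    _ = v⁻¹ * u * (c * w) := by rw [hcw]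
    _ = (v⁻¹ * u * c) * w := by group
    _ = u * v⁻¹ * w := by rw [e1]
    _ = u * (v⁻¹ * w) := by group

/-! ### Lifting through the central quotient -/

section Grun

variable [Finite S] {p : ℕ} [Fact p.Prime] (hS : IsPGroup p S) (F : FusionSystem S)
  (hF : F.IsSaturated p) {Ω' : Type*} [Group Ω'] {S' : Subgroup Ω'} (θ : S →* Ω')
  (E : FusionSystem S') (hE : F.IsFactorSystem F.center θ E)

include hS hF hE

theorem exists_lift_central {P : Subgroup Ω} {φ : P →* Ω} (hφ : φ ∈ F.Hom P) :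
    ∃ (M : Subgroup Ω) (ψ : M →* Ω), ψ ∈ F.Hom M ∧ ∃ (hPM : P ≤ M)
      (hZM : preimageAlong θ E.center ≤ M),
      (∀ v : P, (φ v)⁻¹ * ψ ⟨v, hPM v.2⟩ ∈ F.center) ∧
      (∀ u (hu : u ∈ preimageAlong θ E.center), u⁻¹ * ψ ⟨u, hZM hu⟩ ∈ F.center) := by
  have hZ : F.IsCentral F.center := Cfsg.Agent.S5144.result F
  have hZsc := central_stronglyClosed hZ
  have hmor := Cfsg.Agent.S5134.result p hS F hF F.center hZsc θ E hE
  obtain ⟨hZS, hker, hrange, hhom⟩ := hE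
  have : Finite S' := by
    rw [← hrange]; exact Finite.of_surjective θ.rangeRestrict θ.rangeRestrict_surjective
  have hC : E.IsCentral E.center := Cfsg.Agent.S5144.result E
  obtain ⟨φ', hφ', hP, hφS, hPP', hind⟩ := hmor.1.2 P φ hφ
  obtain ⟨ψ', hψ', hψ'a, hψ'C⟩ := hC.2 _ φ' hφ'
  obtain ⟨-, ψ, hψ, hM, hψS, hMM', hindψ⟩ := (hhom _ ψ').1 hψ'
  have hPM : P ≤ preimageAlong θ (imageAlong θ P ⊔ E.center) := fun x hx =>
    (mem_preimageAlong θ _).2 ⟨hP hx, Subgroup.mem_sup_left (hPP' ⟨x, hx⟩)⟩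
  have hZM : preimageAlong θ E.center ≤ preimageAlong θ (imageAlong θ P ⊔ E.center) := by
    intro u hu
    obtain ⟨huS, hθu⟩ := (mem_preimageAlong θ _).1 hu
    exact (mem_preimageAlong θ _).2 ⟨huS, Subgroup.mem_sup_right hθu⟩
  have hkm : ∀ a b : S, θ a = θ b → (a : Ω)⁻¹ * b ∈ F.center := fun a b h =>
    (hker (a⁻¹ * b)).1 (by rw [map_mul, map_inv, h, inv_mul_cancel])
  refine ⟨_, ψ, hψ, hPM, hZM, fun v => ?_, fun u hu => ?_⟩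
  · apply hkm ⟨φ v, hφS v⟩ ⟨ψ ⟨v, hPM v.2⟩, hψS _⟩
    rw [← hind v, ← hindψ ⟨v, hPM v.2⟩]
    exact (hψ'a ⟨θ ⟨v, hP v.2⟩, hPP' v⟩).symm
  · obtain ⟨huS, hθu⟩ := (mem_preimageAlong θ _).1 hu
    apply hkm ⟨u, huS⟩ ⟨ψ ⟨u, hZM hu⟩, hψS _⟩
    rw [← hindψ ⟨u, hZM hu⟩]
    exact (hψ'C ⟨θ ⟨u, huS⟩, hθu⟩).symm

theorem lift_comm {P : Subgroup Ω} (hP : P ≤ S) {a : MulAut P} (ha : a ∈ F.autGroup P) (x : P)
    {u : Ω} (hu : u ∈ preimageAlong θ E.center) :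
    u * ((x : Ω)⁻¹ * ((a x : P) : Ω)) = (x : Ω)⁻¹ * ((a x : P) : Ω) * u := by
  have hZ : F.IsCentral F.center := Cfsg.Agent.S5144.result F
  have hφ : P.subtype.comp a.toMonoidHom ∈ F.Hom P := (mem_autGroup_iff F hP a).1 ha
  obtain ⟨M, ψ, hψ, hPM, hZM, h1, h2⟩ := exists_lift_central hS F hF θ E hE hφ
  obtain ⟨hZS, hker, hrange, hhom⟩ := hE
  have : Finite S' := by
    rw [← hrange]; exact Finite.of_surjective θ.rangeRestrict θ.rangeRestrict_surjective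
  have hC : E.IsCentral E.center := Cfsg.Agent.S5144.result E
  have hθS : ∀ s : S, θ s ∈ S' := fun s => by rw [← hrange]; exact ⟨s, rfl⟩
  obtain ⟨huS, hθu⟩ := (mem_preimageAlong θ _).1 hu
  have hVS : (x : Ω) ∈ S := hP x.2
  have hWS : ((a x : P) : Ω) ∈ S := hP (a x).2
  have hz1 : ((a x : P) : Ω)⁻¹ * ψ ⟨x, hPM x.2⟩ ∈ F.center := h1 x
  have hz2 : u⁻¹ * ψ ⟨u, hZM hu⟩ ∈ F.center := h2 u hu
  have hcZ : (x : Ω)⁻¹ * u⁻¹ * (x : Ω) * u ∈ F.center := by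
    have hc : θ ⟨x, hVS⟩ * θ ⟨u, huS⟩ = θ ⟨u, huS⟩ * θ ⟨x, hVS⟩ := central_comm hC (hθS _) hθu
    have := (hker ((⟨x, hVS⟩ : S)⁻¹ * (⟨u, huS⟩ : S)⁻¹ * ⟨x, hVS⟩ * ⟨u, huS⟩)).1 (by
      rw [map_mul, map_mul, map_mul, map_inv, map_inv]
      calc (θ ⟨x, hVS⟩)⁻¹ * (θ ⟨u, huS⟩)⁻¹ * θ ⟨x, hVS⟩ * θ ⟨u, huS⟩
          = (θ ⟨x, hVS⟩)⁻¹ * (θ ⟨u, huS⟩)⁻¹ * (θ ⟨x, hVS⟩ * θ ⟨u, huS⟩) := by group
        _ = (θ ⟨x, hVS⟩)⁻¹ * (θ ⟨u, huS⟩)⁻¹ * (θ ⟨u, huS⟩ * θ ⟨x, hVS⟩) := by rw [hc]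
        _ = 1 := by group)
    exact this
  have hψc : ψ ((⟨x, hPM x.2⟩ : M)⁻¹ * (⟨u, hZM hu⟩ : M)⁻¹ * ⟨x, hPM x.2⟩ * ⟨u, hZM hu⟩)
      = (x : Ω)⁻¹ * u⁻¹ * (x : Ω) * u := central_fix hZ hψ _ hcZ
  rw [map_mul, map_mul, map_mul, map_inv, map_inv] at hψc
  have comm : ∀ {g z : Ω}, g ∈ S → z ∈ F.center → g * z = z * g :=
    fun hg hz => central_comm hZ hg hz
  have e2 : (ψ ⟨x, hPM x.2⟩)⁻¹ * (ψ ⟨u, hZM hu⟩)⁻¹ * ψ ⟨x, hPM x.2⟩ * ψ ⟨u, hZM hu⟩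
      = ((a x : P) : Ω)⁻¹ * u⁻¹ * ((a x : P) : Ω) * u := by
    calc (ψ ⟨x, hPM x.2⟩)⁻¹ * (ψ ⟨u, hZM hu⟩)⁻¹ * ψ ⟨x, hPM x.2⟩ * ψ ⟨u, hZM hu⟩
        = (((a x : P) : Ω) * (((a x : P) : Ω)⁻¹ * ψ ⟨x, hPM x.2⟩))⁻¹
          * (u * (u⁻¹ * ψ ⟨u, hZM hu⟩))⁻¹
          * (((a x : P) : Ω) * (((a x : P) : Ω)⁻¹ * ψ ⟨x, hPM x.2⟩))
          * (u * (u⁻¹ * ψ ⟨u, hZM hu⟩)) := by group
      _ = ((a x : P) : Ω)⁻¹ * (u * (u⁻¹ * ψ ⟨u, hZM hu⟩))⁻¹ * ((a x : P) : Ω)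
          * (u * (u⁻¹ * ψ ⟨u, hZM hu⟩)) :=
        comm_central_left _ _ _ (comm hWS hz1) (comm (S.mul_mem huS (hZS hz2)) hz1)
      _ = ((a x : P) : Ω)⁻¹ * u⁻¹ * ((a x : P) : Ω) * u :=
        comm_central_right _ _ _ (comm hWS hz2) (comm huS hz2)
  have hc1 : (x : Ω)⁻¹ * u⁻¹ * (x : Ω) * u = ((a x : P) : Ω)⁻¹ * u⁻¹ * ((a x : P) : Ω) * u :=
    hψc.symm.trans e2
  refine (comm_of_central_comm (x : Ω) ((a x : P) : Ω) u ((x : Ω)⁻¹ * u⁻¹ * (x : Ω) * u)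
    (by group) (by rw [hc1]; group) (comm hVS hcZ).symm (comm hWS hcZ).symm).symm

theorem preimage_center_comm (hperf : F.hyperfocalSubgroup p = S) {g u : Ω} (hg : g ∈ S)
    (hu : u ∈ preimageAlong θ E.center) : u * g = g * u := by
  have hle : F.hyperfocalSubgroup p ≤ Subgroup.centralizer (preimageAlong θ E.center : Set Ω) := by
    apply hyperfocal_le
    intro P hP a ha _ x
    rw [Subgroup.mem_centralizer_iff]
    intro u hu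
    exact lift_comm hS F hF θ E hE hP ha x hu
  rw [hperf] at hle
  exact (Subgroup.mem_centralizer_iff.1 (hle hg)) u hu

theorem aut_fix_of_coprime {P : Subgroup Ω} (hP : P ≤ S) {a : MulAut P} (ha : a ∈ F.autGroup P)
    (hco : Nat.Coprime (orderOf a) p) (q : P) (hq : (q : Ω) ∈ preimageAlong θ E.center) :
    a q = q := by
  have hZ : F.IsCentral F.center := Cfsg.Agent.S5144.result F
  have hφ : P.subtype.comp a.toMonoidHom ∈ F.Hom P := (mem_autGroup_iff F hP a).1 ha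
  obtain ⟨M, ψ, hψ, hPM, hZM, h1, h2⟩ := exists_lift_central hS F hF θ E hE hφ
  have hA : ((a q : P) : Ω)⁻¹ * ψ ⟨q, hPM q.2⟩ ∈ F.center := h1 q
  have hB : (q : Ω)⁻¹ * ψ ⟨q, hZM hq⟩ ∈ F.center := h2 q hq
  have hζ : (q : Ω)⁻¹ * ((a q : P) : Ω) ∈ F.center := by
    have : (q : Ω)⁻¹ * ((a q : P) : Ω) = ((q : Ω)⁻¹ * ψ ⟨q, hPM q.2⟩)
        * (((a q : P) : Ω)⁻¹ * ψ ⟨q, hPM q.2⟩)⁻¹ := by group
    rw [this]; exact mul_mem hB (inv_mem hA)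
  have hζ' : ((q⁻¹ * a q : P) : Ω) ∈ F.center := hζ
  have haζ : a (q⁻¹ * a q) = q⁻¹ * a q := Subtype.ext (central_fix hZ hφ (q⁻¹ * a q) hζ')
  have haq : a q = q * (q⁻¹ * a q) := by group
  have hpow := aut_pow_apply_of_fixed a q (q⁻¹ * a q) haq haζ (orderOf a)
  rw [pow_orderOf_eq_one] at hpow
  have hζm : (q⁻¹ * a q) ^ orderOf a = 1 := by
    have h3 : q * (q⁻¹ * a q) ^ orderOf a = q * 1 := by rw [mul_one]; exact hpow.symm
    exact mul_left_cancel h3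
  have hPp : IsPGroup p P := isPGroup_of_le hS hP
  obtain ⟨k, hk⟩ := (IsPGroup.iff_orderOf.1 hPp) (q⁻¹ * a q)
  have hdvd : orderOf (q⁻¹ * a q) ∣ orderOf a := orderOf_dvd_of_pow_eq_one hζm
  have h1' : orderOf (q⁻¹ * a q) = 1 := by
    rw [hk] at hdvd ⊢
    exact Nat.Coprime.eq_one_of_dvd (Nat.Coprime.pow_left k (Nat.Coprime.symm hco)) hdvd
  have hζ1 : q⁻¹ * a q = 1 := orderOf_eq_one_iff.1 h1'
  rw [haq, hζ1, mul_one]

end Grun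

end Cfsg.Agent.Helper26
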