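import Mathlib
import Cfsg.Agent.Helper2.SLGen

set_option autoImplicit false

namespace Cfsg.Agent.Helper26

section GL2P

variable {p : ℕ} [hp : Fact p.Prime] {V : Type*} [AddCommGroup V] [Module (ZMod p) V]

/-- a pair of vectors that spans and is independent. -/
def GL2Pair (p : ℕ) [Fact p.Prime] {V : Type*} [AddCommGroup V] [Module (ZMod p) V] (u v : V) : Prop :=
  (∀ w : V, ∃ x y : ZMod p, w = x • u + y • v) ∧ ∀ x y : ZMod p, x • u + y • v = 0 → x = 0 ∧ y = 0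

theorem gl2pair_symm {u v : V} (h : GL2Pair p u v) : GL2Pair p v u := by
  refine ⟨fun w => ?_, fun x y hxy => ?_⟩
  · obtain ⟨x, y, hw⟩ := h.1 w
    exact ⟨y, x, by rw [hw, add_comm]⟩
  · have := h.2 y x (by rw [add_comm]; exact hxy)
    exact ⟨this.2, this.1⟩

theorem gl2pair_of_basis (b : Module.Basis (Fin 2) (ZMod p) V) : GL2Pair p (b 0) (b 1) := by
  refine ⟨fun w => ⟨b.repr w 0, b.repr w 1, ?_⟩, fun x y hxy => ?_⟩
  · conv_lhs => rw [← b.sum_repr w]
    rw [Fin.sum_univ_two]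
  · have h0 := congrArg (fun v => b.repr v 0) hxy
    have h1 := congrArg (fun v => b.repr v 1) hxy
    simp at h0 h1
    exact ⟨h0, h1⟩

theorem gl2pair_ext {u v : V} (h : GL2Pair p u v) {T T' : V ≃ₗ[ZMod p] V} (hu : T u = T' u)
    (hv : T v = T' v) : T = T' := by
  ext w
  obtain ⟨x, y, rfl⟩ := h.1 w
  rw [map_add, map_add, map_smul, map_smul, map_smul, map_smul, hu, hv]

theorem gl2p_pow_fix {u : V} {T : V ≃ₗ[ZMod p] V} (hu : T u = u) (n : ℕ) : (T ^ n) u = u := by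
  induction n with
  | zero => simp
  | succ n ih => rw [pow_succ, LinearEquiv.mul_apply, hu, ih]

theorem gl2p_pow_shear {u v : V} {T : V ≃ₗ[ZMod p] V} {a : ZMod p} (hu : T u = u)
    (hv : T v = v + a • u) (n : ℕ) : (T ^ n) v = v + ((n : ZMod p) * a) • u := by
  induction n with
  | zero => simp
  | succ n ih =>
    rw [pow_succ, LinearEquiv.mul_apply, hv, map_add, map_smul, ih, gl2p_pow_fix hu, Nat.cast_succ,
      add_mul, one_mul, add_smul, add_assoc]

theorem gl2p_upper {u v : V} (h : GL2Pair p u v) {T : V ≃ₗ[ZMod p] V} (hu : T u = u) {k : ℕ}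
    (hT : T ^ (p ^ k) = 1) : ∃ a : ZMod p, T v = v + a • u := by
  obtain ⟨a, d, hTv⟩ := h.1 (T v)
  have key : ∀ n : ℕ, ∃ a' : ZMod p, (T ^ n) v = a' • u + d ^ n • v := by
    intro n
    induction n with
    | zero => exact ⟨0, by simp⟩
    | succ n ih =>
      obtain ⟨a', ha'⟩ := ih
      refine ⟨a' + d ^ n * a, ?_⟩
      rw [pow_succ' T n, LinearEquiv.mul_apply, ha', map_add, map_smul, map_smul, hu, hTv, smul_add,
        smul_smul, smul_smul, add_smul, pow_succ d n, add_assoc]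
  obtain ⟨a', ha'⟩ := key (p ^ k)
  rw [hT, ZMod.pow_card_pow] at ha'
  have h0 : a' • u + (d - 1) • v = 0 := by
    rw [sub_smul, one_smul, ← add_sub_assoc, ← ha']
    simp
  have hd : d = 1 := sub_eq_zero.mp (h.2 _ _ h0).2
  exact ⟨a, by rw [hTv, hd, one_smul, add_comm]⟩

theorem gl2p_fixed [Finite V] (hdvd : p ∣ Nat.card V) (T : V ≃ₗ[ZMod p] V) (k : ℕ)
    (hT : T ^ (p ^ k) = 1) : ∃ w : V, w ≠ 0 ∧ T w = w := by
  have hpg : IsPGroup p (Subgroup.zpowers T) := by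
    rintro ⟨g, hg⟩
    obtain ⟨n, rfl⟩ := Subgroup.mem_zpowers_iff.mp hg
    refine ⟨k, Subtype.ext ?_⟩
    show (T ^ n) ^ (p ^ k) = 1
    rw [← zpow_natCast, ← zpow_mul, mul_comm, zpow_mul, zpow_natCast, hT, one_zpow]
  obtain ⟨w, hw, hne⟩ := hpg.exists_fixed_point_of_prime_dvd_card_of_fixed_point (α := V) hdvd (a := 0)
    (fun g => smul_zero g)
  refine ⟨w, fun h => hne h.symm, ?_⟩
  have := hw ⟨T, Subgroup.mem_zpowers T⟩
  exact this

/-- the homomorphism from `SL₂(p)` to linear automorphisms given by a basis. -/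
noncomputable def gl2pHom (b : Module.Basis (Fin 2) (ZMod p) V) :
    Matrix.SpecialLinearGroup (Fin 2) (ZMod p) →* (V ≃ₗ[ZMod p] V) where
  toFun M := LinearEquiv.ofLinear (Matrix.toLin b b (M : Matrix (Fin 2) (Fin 2) (ZMod p)))
    (Matrix.toLin b b
      ((M⁻¹ : Matrix.SpecialLinearGroup (Fin 2) (ZMod p)) : Matrix (Fin 2) (Fin 2) (ZMod p)))
    (by rw [← Matrix.toLin_mul b b b, ← Matrix.SpecialLinearGroup.coe_mul, mul_inv_cancel,
          Matrix.SpecialLinearGroup.coe_one, Matrix.toLin_one])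
    (by rw [← Matrix.toLin_mul b b b, ← Matrix.SpecialLinearGroup.coe_mul, inv_mul_cancel,
          Matrix.SpecialLinearGroup.coe_one, Matrix.toLin_one])
  map_one' := by
    ext v
    simp
  map_mul' M N := by
    ext v
    simp [Matrix.toLin_mul b b b]

theorem gl2pHom_apply (b : Module.Basis (Fin 2) (ZMod p) V)
    (M : Matrix.SpecialLinearGroup (Fin 2) (ZMod p)) (j : Fin 2) :
    gl2pHom b M (b j) = M.1 0 j • b 0 + M.1 1 j • b 1 := by
  show Matrix.toLin b b M.1 (b j) = _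
  rw [Matrix.toLin_self, Fin.sum_univ_two]

theorem gl2pHom_injective (b : Module.Basis (Fin 2) (ZMod p) V) : Function.Injective (gl2pHom b) := by
  intro M N h
  apply Subtype.ext
  apply (Matrix.toLin b b).injective
  refine LinearMap.ext fun v => ?_
  exact congrArg (fun T : V ≃ₗ[ZMod p] V => T v) h

theorem gl2p_caseI (b : Module.Basis (Fin 2) (ZMod p) V) (A : Subgroup (V ≃ₗ[ZMod p] V))
    {x₁ x₂ : V ≃ₗ[ZMod p] V} (h₁ : x₁ ∈ A) (h₂ : x₂ ∈ A) {k₁ k₂ : ℕ}
    (hp₁ : x₁ ^ (p ^ k₁) = 1) (hp₂ : x₂ ^ (p ^ k₂) = 1)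
    (hf₁ : x₁ (b 0) = b 0) (hf₂ : x₂ (b 1) = b 1) (hn₁ : x₁ ≠ 1) (hn₂ : x₂ ≠ 1)
    (M : Matrix.SpecialLinearGroup (Fin 2) (ZMod p)) : gl2pHom b M ∈ A := by
  haveI : NeZero p := ⟨hp.out.ne_zero⟩
  have hb := gl2pair_of_basis b
  obtain ⟨a, ha⟩ := gl2p_upper hb hf₁ hp₁
  obtain ⟨c, hc⟩ := gl2p_upper (gl2pair_symm hb) hf₂ hp₂
  have ha0 : a ≠ 0 := by
    rintro rfl
    apply hn₁
    apply gl2pair_ext hb
    · rw [hf₁]; simp
    · rw [ha]; simp
  have hc0 : c ≠ 0 := by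
    rintro rfl
    apply hn₂
    apply gl2pair_ext hb
    · rw [hc]; simp
    · rw [hf₂]; simp
  have h01 : ∀ (h : (0 : Fin 2) ≠ 1) (t : ZMod p),
      gl2pHom b (Matrix.SpecialLinearGroup.transvection h t) ∈ A := by
    intro h t
    have : gl2pHom b (Matrix.SpecialLinearGroup.transvection h t) = x₁ ^ (t * a⁻¹).val := by
      apply gl2pair_ext hb
      · rw [gl2pHom_apply, gl2p_pow_fix hf₁]
        simp [Matrix.SpecialLinearGroup.transvection_coe]
      · rw [gl2pHom_apply, gl2p_pow_shear hf₁ ha, ZMod.natCast_zmod_val, mul_assoc,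
          inv_mul_cancel₀ ha0, mul_one]
        simp [Matrix.SpecialLinearGroup.transvection_coe, add_comm]
    rw [this]
    exact A.pow_mem h₁ _
  have h10 : ∀ (h : (1 : Fin 2) ≠ 0) (t : ZMod p),
      gl2pHom b (Matrix.SpecialLinearGroup.transvection h t) ∈ A := by
    intro h t
    have : gl2pHom b (Matrix.SpecialLinearGroup.transvection h t) = x₂ ^ (t * c⁻¹).val := by
      apply gl2pair_ext hb
      · rw [gl2pHom_apply, gl2p_pow_shear hf₂ hc, ZMod.natCast_zmod_val, mul_assoc,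
          inv_mul_cancel₀ hc0, mul_one]
        simp [Matrix.SpecialLinearGroup.transvection_coe]
      · rw [gl2pHom_apply, gl2p_pow_fix hf₂]
        simp [Matrix.SpecialLinearGroup.transvection_coe]
    rw [this]
    exact A.pow_mem h₂ _
  have htop : A.comap (gl2pHom b) = ⊤ :=
    Cfsg.Agent.Helper2.SLGen.eq_top_of_transvection_mem _
      (Fin.forall_fin_two.mpr ⟨Fin.forall_fin_two.mpr ⟨fun h => absurd rfl h, h01⟩,
        Fin.forall_fin_two.mpr ⟨h10, fun h => absurd rfl h⟩⟩)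
  have : M ∈ A.comap (gl2pHom b) := by rw [htop]; trivial
  exact this

theorem gl2p_core [Finite V] (hcard : Nat.card V = p ^ 2) (A : Subgroup (V ≃ₗ[ZMod p] V))
    (hA : ¬ ∃ Q : Subgroup (V ≃ₗ[ZMod p] V), Q ≤ A ∧ IsPGroup p Q ∧
      (∀ a ∈ A, ∀ q ∈ Q, a * q * a⁻¹ ∈ Q) ∧ (∀ x ∈ A, (∃ k : ℕ, x ^ (p ^ k) = 1) → x ∈ Q)) :
    ∃ φ : Matrix.SpecialLinearGroup (Fin 2) (ZMod p) →* (V ≃ₗ[ZMod p] V),
      Function.Injective φ ∧ ∀ M, φ M ∈ A := by
  have hp2 : 2 ≤ p := hp.out.two_le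
  have hdvd : p ∣ Nat.card V := by rw [hcard]; exact dvd_pow_self p (by norm_num)
  have hfin : Module.finrank (ZMod p) V = 2 := by
    have h := Module.natCard_eq_pow_finrank (K := ZMod p) (V := V)
    rw [hcard, Nat.card_zmod] at h
    exact (Nat.pow_right_injective hp2 h).symm
  obtain ⟨x₁, hx₁A, ⟨k₁, hk₁⟩, hx₁ne⟩ : ∃ x₁ ∈ A, (∃ k : ℕ, x₁ ^ (p ^ k) = 1) ∧ x₁ ≠ 1 := by
    by_contra hcon
    apply hA
    refine ⟨⊥, bot_le, IsPGroup.of_bot, ?_, ?_⟩
    · intro a _ q hq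
      rw [Subgroup.mem_bot] at hq ⊢
      rw [hq, mul_one, mul_inv_cancel]
    · intro x hx hk
      rw [Subgroup.mem_bot]
      by_contra hne
      exact hcon ⟨x, hx, hk, hne⟩
  obtain ⟨w₁, hw₁ne, hw₁fix⟩ := gl2p_fixed hdvd x₁ k₁ hk₁
  by_cases hc : ∃ x₂ ∈ A, (∃ k : ℕ, x₂ ^ (p ^ k) = 1) ∧ x₂ w₁ ≠ w₁
  · obtain ⟨x₂, hx₂A, ⟨k₂, hk₂⟩, hx₂w₁⟩ := hc
    obtain ⟨w₂, hw₂ne, hw₂fix⟩ := gl2p_fixed hdvd x₂ k₂ hk₂
    have hli : LinearIndependent (ZMod p) ![w₁, w₂] := by
      rw [LinearIndependent.pair_iff]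
      intro s t hst
      have h2 := congrArg x₂ hst
      rw [map_add, map_smul, map_smul, hw₂fix, map_zero] at h2
      have h3 : s • (x₂ w₁ - w₁) = 0 := by
        rw [smul_sub, sub_eq_zero]
        exact add_right_cancel (h2.trans hst.symm)
      rcases smul_eq_zero.mp h3 with hs | hs
      · rw [hs, zero_smul, zero_add] at hst
        rcases smul_eq_zero.mp hst with ht | ht
        · exact ⟨hs, ht⟩
        · exact absurd ht hw₂ne
      · exact absurd (sub_eq_zero.mp hs) hx₂w₁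
    let b : Module.Basis (Fin 2) (ZMod p) V :=
      basisOfLinearIndependentOfCardEqFinrank hli (by simp [hfin])
    have hb0 : b 0 = w₁ := by simp [b]
    have hb1 : b 1 = w₂ := by simp [b]
    refine ⟨gl2pHom b, gl2pHom_injective b, fun M => ?_⟩
    refine gl2p_caseI b A hx₁A hx₂A hk₁ hk₂ (by rw [hb0]; exact hw₁fix) (by rw [hb1]; exact hw₂fix)
      hx₁ne ?_ M
    rintro rfl
    exact hx₂w₁ (by simp)
  · exfalso
    obtain ⟨w₂, hli⟩ := exists_linearIndependent_pair_of_one_lt_finrank (R := ZMod p)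
      (by rw [hfin]; norm_num) hw₁ne
    let b : Module.Basis (Fin 2) (ZMod p) V :=
      basisOfLinearIndependentOfCardEqFinrank hli (by simp [hfin])
    have hb0 : b 0 = w₁ := by simp [b]
    have hb := gl2pair_of_basis b
    let U : Subgroup (V ≃ₗ[ZMod p] V) :=
      { carrier := {T | T (b 0) = b 0 ∧ ∃ a : ZMod p, T (b 1) = b 1 + a • b 0}
        one_mem' := ⟨by simp, 0, by simp⟩
        mul_mem' := by
          rintro T T' ⟨h0, a, ha⟩ ⟨h0', a', ha'⟩
          refine ⟨by rw [LinearEquiv.mul_apply, h0', h0], a + a', ?_⟩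
          rw [LinearEquiv.mul_apply, ha', map_add, map_smul, h0, ha, add_smul, add_assoc]
        inv_mem' := by
          rintro T ⟨h0, a, ha⟩
          have h0' : T⁻¹ (b 0) = b 0 := by
            apply T.injective
            rw [← LinearEquiv.mul_apply, mul_inv_cancel, h0]
            simp
          refine ⟨h0', -a, ?_⟩
          apply T.injective
          rw [← LinearEquiv.mul_apply, mul_inv_cancel, map_add, map_smul, h0, ha, add_assoc,
            ← add_smul, add_neg_cancel, zero_smul, add_zero]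
          simp }
    have hUp : ∀ T ∈ U, T ^ p = 1 := by
      rintro T ⟨h0, a, ha⟩
      apply gl2pair_ext hb
      · rw [gl2p_pow_fix h0]; simp
      · rw [gl2p_pow_shear h0 ha, ZMod.natCast_self, zero_mul, zero_smul, add_zero]; simp
    have hUpg : IsPGroup p U := by
      rintro ⟨T, hT⟩
      refine ⟨1, Subtype.ext ?_⟩
      show T ^ p ^ 1 = 1
      rw [pow_one]
      exact hUp T hT
    have hall : ∀ x ∈ A, (∃ k : ℕ, x ^ (p ^ k) = 1) → x ∈ U := by
      rintro x hx ⟨k, hk⟩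
      have h0 : x (b 0) = b 0 := by
        by_contra hne
        rw [hb0] at hne
        exact hc ⟨x, hx, ⟨k, hk⟩, hne⟩
      exact ⟨h0, gl2p_upper hb h0 hk⟩
    apply hA
    refine ⟨A ⊓ U, inf_le_left, hUpg.to_le inf_le_right, ?_, fun x hx hk => ⟨hx, hall x hx hk⟩⟩
    intro a ha q hq
    have hmem : a * q * a⁻¹ ∈ A := A.mul_mem (A.mul_mem ha hq.1) (A.inv_mem ha)
    refine ⟨hmem, hall _ hmem ⟨1, ?_⟩⟩
    rw [pow_one, conj_pow, hUp q hq.2, mul_one, mul_inv_cancel]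

theorem gl2p_main [Finite V] (hcard : Nat.card V = p ^ 2) {G : Type*} [Group G]
    (ρ : G ≃* (V ≃ₗ[ZMod p] V)) (A : Subgroup G)
    (hA : ¬ ∃ Q : Subgroup G, Q ≤ A ∧ IsPGroup p Q ∧
      (∀ a ∈ A, ∀ q ∈ Q, a * q * a⁻¹ ∈ Q) ∧ (∀ x ∈ A, (∃ k : ℕ, x ^ (p ^ k) = 1) → x ∈ Q)) :
    ∃ φ : Matrix.SpecialLinearGroup (Fin 2) (ZMod p) →* G, Function.Injective φ ∧ ∀ M, φ M ∈ A := by
  obtain ⟨φ, hφ, hφA⟩ := gl2p_core hcard (A.map ρ.toMonoidHom) (by
    rintro ⟨Q', hle, hpg, hnorm, hall⟩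
    apply hA
    refine ⟨Q'.comap ρ.toMonoidHom, ?_, hpg.comap_of_injective _ ρ.injective, ?_, ?_⟩
    · intro x hx
      obtain ⟨y, hy, hyx⟩ := hle (Subgroup.mem_comap.mp hx)
      have : y = x := ρ.injective hyx
      rwa [← this]
    · intro a ha q hq
      rw [Subgroup.mem_comap] at hq ⊢
      have := hnorm (ρ a) (Subgroup.mem_map_of_mem _ ha) (ρ q) hq
      simpa using this
    · intro x hx ⟨k, hk⟩
      rw [Subgroup.mem_comap]
      exact hall (ρ x) (Subgroup.mem_map_of_mem _ hx) ⟨k, by rw [← map_pow, hk, map_one]⟩)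
  refine ⟨ρ.symm.toMonoidHom.comp φ, ρ.symm.injective.comp hφ, fun M => ?_⟩
  obtain ⟨y, hy, hyM⟩ := hφA M
  have : ρ.symm (φ M) = y := by rw [← hyM]; exact ρ.symm_apply_apply y
  show ρ.symm (φ M) ∈ A
  rw [this]; exact hy

/-- automorphisms of a commutative group of exponent `p` are the linear automorphisms. -/
noncomputable def gl2pRho (p : ℕ) {H : Type*} [CommGroup H] [Module (ZMod p) (Additive H)] :
    MulAut H ≃* (Additive H ≃ₗ[ZMod p] Additive H) where
  toFun e := AddEquiv.toLinearEquiv (MulEquiv.toAdditive e)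
    (fun c x => ZMod.map_smul (MulEquiv.toAdditive e) c x)
  invFun L := MulEquiv.toAdditive.symm L.toAddEquiv
  left_inv e := by ext x; rfl
  right_inv L := by ext x; rfl
  map_mul' e f := by
    apply LinearEquiv.ext
    intro x
    rw [LinearEquiv.mul_apply]
    rfl

/-- the version for automorphism groups of elementary abelian groups of order `p²`. -/
theorem gl2p_mulAut {H : Type*} [Group H] [Finite H] (hcomm : ∀ a b : H, a * b = b * a)
    (hexp : ∀ h : H, h ^ p = 1) (hcard : Nat.card H = p ^ 2) (A : Subgroup (MulAut H))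
    (hA : ¬ ∃ Q : Subgroup (MulAut H), Q ≤ A ∧ IsPGroup p Q ∧
      (∀ a ∈ A, ∀ q ∈ Q, a * q * a⁻¹ ∈ Q) ∧ (∀ x ∈ A, (∃ k : ℕ, x ^ (p ^ k) = 1) → x ∈ Q)) :
    ∃ φ : Matrix.SpecialLinearGroup (Fin 2) (ZMod p) →* MulAut H,
      Function.Injective φ ∧ ∀ M, φ M ∈ A := by
  letI : CommGroup H := { (inferInstance : Group H) with mul_comm := hcomm }
  letI : Module (ZMod p) (Additive H) := AddCommGroup.zmodModule (n := p) (fun v => by
    show Additive.ofMul ((Additive.toMul v) ^ p) = 0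
    rw [hexp]; rfl)
  have hcard' : Nat.card (Additive H) = p ^ 2 := (Nat.card_congr Additive.toMul).trans hcard
  exact gl2p_main hcard' (gl2pRho p) A hA

end GL2P

end Cfsg.Agent.Helper26
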