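import Mathlib
import Cfsg.Agent.Helper14.Frattini
import Cfsg.Agent.Helper26.AutChain

set_option autoImplicit false

namespace Cfsg.Agent.Helper26

open Cfsg

section HcBin

/-- binomial computation: `(1+X)^p = 1`, `qp X² = 0`, `q X⁴ = 0`, `p ≥ 5` give `qp X = 0`. -/
theorem hc_bin_ring {R : Type*} [Ring R] (X : R) (p q : ℕ) (hp : p.Prime) (hp5 : 5 ≤ p)
    (hT : (X + 1) ^ p = 1) (h2 : (q * p) • X ^ 2 = 0) (h4 : q • X ^ 4 = 0) :
    (q * p) • X = 0 := by
  have hexp : (X + 1) ^ p = ∑ m ∈ Finset.range (p + 1), (p.choose m) • X ^ m := by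
    rw [(Commute.one_right X).add_pow]
    refine Finset.sum_congr rfl fun m _ => ?_
    rw [one_pow, mul_one, nsmul_eq_mul]
    exact ((Nat.cast_commute _ _).eq).symm
  rw [hexp] at hT
  have hq : ∑ m ∈ Finset.range (p + 1), q • (p.choose m) • X ^ m = q • (1 : R) := by
    rw [← Finset.smul_sum, hT]
  have hsum : ∑ m ∈ Finset.range (p + 1), q • (p.choose m) • X ^ m =
      q • (1 : R) + (q * p) • X := by
    rw [Finset.sum_eq_add_of_mem 0 1 (Finset.mem_range.mpr (by omega))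
      (Finset.mem_range.mpr (by omega)) (by norm_num)]
    · rw [Nat.choose_zero_right, Nat.choose_one_right, pow_zero, pow_one, one_smul, smul_smul]
    · intro c hc hne
      obtain ⟨hc0, hc1⟩ := hne
      rw [Finset.mem_range] at hc
      rcases Nat.lt_or_ge c p with hcp | hcp
      · obtain ⟨d, hd⟩ := hp.dvd_choose_self hc0 hcp
        obtain ⟨m', rfl⟩ : ∃ m', c = 2 + m' := ⟨c - 2, by omega⟩
        rw [hd]
        have e1 : q • (p * d) • X ^ (2 + m') = d • (((q * p) • X ^ 2) * X ^ m') := by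
          rw [smul_smul, pow_add, smul_mul_assoc, smul_smul]
          congr 1
          ring
        rw [e1, h2, zero_mul, smul_zero]
      · have hcp' : c = p := by omega
        obtain ⟨m', hm'⟩ : ∃ m', p = 4 + m' := ⟨p - 4, by omega⟩
        rw [hcp', Nat.choose_self, one_smul]
        have e1 : q • X ^ p = (q • X ^ 4) * X ^ m' := by
          rw [smul_mul_assoc, ← pow_add, ← hm']
        rw [e1, h4, zero_mul]
  rw [hsum] at hq
  exact add_left_cancel (hq.trans (add_zero _).symm)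

end HcBin

section HcStr

/-- a group with a strongly `p`-embedded subgroup has no nontrivial normal `p`-subgroup. -/
theorem hc_normal_pSubgroup_trivial {A : Type*} [Group A] [Finite A] {p : ℕ} [Fact p.Prime]
    (E : Subgroup A) (hE : IsStronglyPEmbedded p E) (R : Subgroup A) (hRn : R.Normal)
    (hR : IsPGroup p R) : R = ⊥ := by
  obtain ⟨-, hEtop, P, hP⟩ := hE
  have hpp : p.Prime := Fact.out
  by_contra hne
  apply hEtop
  haveI := hRn
  have hRP : R ≤ P.toSubgroup := hR.le_sylow_of_normal P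
  have hRrank : ¬ PRankLE p (1 - 1) ↥R := by
    intro hr
    rcases hR.card_eq_or_dvd with h1 | hdvd'
    · exact hne (Subgroup.eq_bot_of_card_eq R h1)
    · obtain ⟨x, hx⟩ := exists_prime_orderOf_dvd_card' (G := ↥R) p hdvd'
      have hxp : x ^ p = 1 := orderOf_dvd_iff_pow_eq_one.mp (dvd_of_eq hx)
      have h1 := hr (Subgroup.zpowers x) inferInstance (by
        intro a ha
        obtain ⟨n, rfl⟩ := Subgroup.mem_zpowers_iff.mp ha
        rw [← zpow_natCast, ← zpow_mul, mul_comm, zpow_mul, zpow_natCast, hxp, one_zpow])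
      rw [Nat.card_zpowers, hx] at h1
      have h2 : p ^ (1 - 1) = 1 := by norm_num
      rw [h2] at h1
      have := hpp.two_le
      omega
  rw [eq_top_iff]
  have hle : Subgroup.normalizer (R : Set A) ≤ kGeneratedCore p 1 P.toSubgroup := by
    unfold kGeneratedCore
    exact le_iSup_of_le ⟨R, hRP, hRrank⟩ le_rfl
  refine le_trans ?_ (hle.trans hP)
  intro g _
  rw [Subgroup.mem_normalizer_iff]
  intro h
  exact ⟨fun hh => hRn.conj_mem h hh g, fun hh => by
    have := hRn.conj_mem _ hh g⁻¹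
    simpa [mul_assoc] using this⟩

/-- variant of `chain_pElement` for a chain invariant under a subgroup `B` of automorphisms. -/
theorem chain_pElement' {G : Type*} [Group G] [Finite G] {p : ℕ} [Fact p.Prime]
    {L M : Subgroup G} (B : Subgroup (MulAut G))
    (hL : ∀ β ∈ B, ∀ x ∈ L, β x ∈ L) (hM : ∀ β ∈ B, ∀ x ∈ M, β x ∈ M) (hLM : L ≤ M)
    (hLn : ∀ g l : G, l ∈ L → g * l * g⁻¹ ∈ L)
    (hidx : Nat.card M = p * Nat.card L) (α : MulAut G) (hαB : α ∈ B) (k : ℕ)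
    (hα : α ^ (p ^ k) = 1) : ∀ y ∈ M, y⁻¹ * α y ∈ L := by
  have hpp : p.Prime := Fact.out
  letI : MulAction ↥B (↥M ⧸ L.subgroupOf M) :=
    { smul := fun β q => Quotient.map' (fun y : ↥M => (⟨(β : MulAut G) y, hM β β.2 y y.2⟩ : ↥M))
        (fun a b hab =>
          QuotientGroup.leftRel_apply.mpr (Subgroup.mem_subgroupOf.mpr (by
            have := hL β β.2 _ (Subgroup.mem_subgroupOf.mp (QuotientGroup.leftRel_apply.mp hab))
            simpa using this))) q
      one_smul := fun q => by induction q using QuotientGroup.induction_on; rfl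
      mul_smul := fun β γ q => by induction q using QuotientGroup.induction_on; rfl }
  have hsmul : ∀ (β : ↥B) (y : ↥M), β • (y : ↥M ⧸ L.subgroupOf M) =
      ((⟨(β : MulAut G) y, hM β β.2 y y.2⟩ : ↥M) : ↥M ⧸ L.subgroupOf M) := fun β y => rfl
  have hαk : (⟨α, hαB⟩ : ↥B) ^ (p ^ k) = 1 := Subtype.ext hα
  have hpg : IsPGroup p (Subgroup.zpowers (⟨α, hαB⟩ : ↥B)) := by
    rintro ⟨g, hg⟩
    obtain ⟨n, rfl⟩ := Subgroup.mem_zpowers_iff.mp hg
    refine ⟨k, Subtype.ext ?_⟩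
    show ((⟨α, hαB⟩ : ↥B) ^ n) ^ (p ^ k) = 1
    rw [← zpow_natCast, ← zpow_mul, mul_comm, zpow_mul, zpow_natCast, hαk, one_zpow]
  have hcK : Nat.card (L.subgroupOf M) = Nat.card L :=
    Nat.card_congr (Subgroup.subgroupOfEquivOfLe hLM).toEquiv
  have hLpos : 0 < Nat.card L := Nat.card_pos
  have hindex : (L.subgroupOf M).index = p := by
    have h := Subgroup.card_mul_index (L.subgroupOf M)
    rw [hcK, hidx, mul_comm] at h
    exact Nat.eq_of_mul_eq_mul_right hLpos h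
  have hdvd : p ∣ Nat.card (↥M ⧸ L.subgroupOf M) := by
    rw [← Subgroup.index_eq_card, hindex]
  obtain ⟨q, hq, hne⟩ := hpg.exists_fixed_point_of_prime_dvd_card_of_fixed_point
    (α := ↥M ⧸ L.subgroupOf M) hdvd (a := ((1 : ↥M) : ↥M ⧸ L.subgroupOf M))
    (fun g => by
      have h1 : (⟨((g : ↥B) : MulAut G) ((1 : ↥M) : G), hM _ (g : ↥B).2 _ (1 : ↥M).2⟩ : ↥M) = 1 :=
        Subtype.ext (map_one _)
      show (g : ↥B) • ((1 : ↥M) : ↥M ⧸ L.subgroupOf M) = _
      rw [hsmul, h1])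
  obtain ⟨y₀, rfl⟩ := QuotientGroup.mk_surjective q
  have hfix := hq ⟨⟨α, hαB⟩, Subgroup.mem_zpowers _⟩
  have hfix' : ((⟨α y₀, hM α hαB y₀ y₀.2⟩ : ↥M) : ↥M ⧸ L.subgroupOf M) =
      (y₀ : ↥M ⧸ L.subgroupOf M) := hfix
  rw [QuotientGroup.eq, Subgroup.mem_subgroupOf] at hfix'
  have hy₀ : (y₀ : G)⁻¹ * α y₀ ∈ L := by
    have := L.inv_mem hfix'
    simpa using this
  have hy₀L : (y₀ : G) ∉ L := by
    intro h
    apply hne
    rw [QuotientGroup.eq, Subgroup.mem_subgroupOf]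
    simpa using h
  let T : Subgroup G :=
    { carrier := {y | y ∈ M ∧ y⁻¹ * α y ∈ L}
      one_mem' := ⟨M.one_mem, by simp⟩
      mul_mem' := by
        rintro y y' ⟨hy, hyL⟩ ⟨hy', hyL'⟩
        refine ⟨M.mul_mem hy hy', ?_⟩
        have h : (y * y')⁻¹ * α (y * y') = (y'⁻¹ * (y⁻¹ * α y) * y'⁻¹⁻¹) * (y'⁻¹ * α y') := by
          rw [map_mul]; group
        rw [h]
        exact L.mul_mem (hLn _ _ hyL) hyL'
      inv_mem' := by
        rintro y ⟨hy, hyL⟩
        refine ⟨M.inv_mem hy, ?_⟩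
        have h : y⁻¹⁻¹ * α y⁻¹ = y * (y⁻¹ * α y)⁻¹ * y⁻¹ := by
          rw [map_inv]; group
        rw [h]
        exact hLn _ _ (L.inv_mem hyL) }
  have hLT : L ≤ T := fun y hy => ⟨hLM hy, L.mul_mem (L.inv_mem hy) (hL α hαB y hy)⟩
  have hTM : T ≤ M := fun y hy => hy.1
  have hy₀T : (y₀ : G) ∈ T := ⟨y₀.2, hy₀⟩
  have hTeq : T = M := by
    apply Subgroup.eq_of_le_of_card_ge hTM
    obtain ⟨t, ht⟩ := Subgroup.card_dvd_of_le hLT
    have h2 : Nat.card T ∣ Nat.card M := Subgroup.card_dvd_of_le hTM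
    rw [ht, hidx, mul_comm p, Nat.mul_dvd_mul_iff_left hLpos] at h2
    rcases (Nat.dvd_prime hpp).mp h2 with h1 | h1
    · exfalso
      apply hy₀L
      have : L = T := Subgroup.eq_of_le_of_card_ge hLT (by rw [ht, h1, mul_one])
      rw [this]; exact hy₀T
    · rw [ht, h1, hidx]
      exact le_of_eq (mul_comm _ _)
  intro y hy
  have : y ∈ T := by rw [hTeq]; exact hy
  exact this.2

end HcStr

section HcMain

variable {G : Type*} [CommGroup G] {p : ℕ} [hp : Fact p.Prime]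

theorem hc_pow_mod {x : G} {n : ℕ} (h : x ^ n = 1) (k : ℕ) : x ^ (k % n) = x ^ k := by
  conv_rhs => rw [← Nat.mod_add_div k n, pow_add, pow_mul, h, one_pow, mul_one]

/-- elements killed by `n`. -/
def hcKer (G : Type*) [CommGroup G] (n : ℕ) : Subgroup G := (powMonoidHom n : G →* G).ker

theorem mem_hcKer {n : ℕ} {x : G} : x ∈ hcKer G n ↔ x ^ n = 1 := by
  rw [hcKer, MonoidHom.mem_ker, powMonoidHom_apply]

theorem hcKer_char {n : ℕ} (β : MulAut G) {x : G} (hx : x ∈ hcKer G n) : β x ∈ hcKer G n := by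
  rw [mem_hcKer] at hx ⊢
  rw [← map_pow, hx, map_one]

theorem hc_card_le_of_exponent [Finite G] (c : ℕ)
    (hrk : ∀ K : Subgroup G, (∀ x ∈ K, x ^ p = 1) → Nat.card K ≤ c) :
    ∀ (e : ℕ) (K : Subgroup G), (∀ x ∈ K, x ^ (p ^ e) = 1) → Nat.card K ≤ c ^ e := by
  intro e
  induction e with
  | zero =>
    intro K hK
    have hb : K = ⊥ := by
      rw [eq_bot_iff]
      intro x hx
      rw [Subgroup.mem_bot]
      have := hK x hx
      rwa [pow_zero, pow_one] at this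
    rw [hb, Subgroup.card_bot, pow_zero]
  | succ e ih =>
    intro K hK
    obtain ⟨f, hf⟩ : ∃ f : ↥K →* G, ∀ x : ↥K, f x = (x : G) ^ p :=
      ⟨(powMonoidHom p : G →* G).comp K.subtype, fun x => rfl⟩
    have h1 : Nat.card f.ker * Nat.card f.range = Nat.card K := by
      rw [← Subgroup.index_ker, Subgroup.card_mul_index]
    have h2 : Nat.card f.ker ≤ c := by
      have h := hrk (f.ker.map K.subtype) (by
        rintro _ ⟨x, hx, rfl⟩
        have h' := MonoidHom.mem_ker.mp hx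
        rw [hf] at h'
        exact h')
      rwa [Subgroup.card_map_of_injective K.subtype_injective] at h
    have h3 : Nat.card f.range ≤ c ^ e := ih f.range (by
      rintro _ ⟨x, rfl⟩
      rw [hf, ← pow_mul, ← pow_succ']
      exact hK x x.2)
    rw [← h1, pow_succ']
    exact Nat.mul_le_mul h2 h3

theorem hc_pow_fix {α : MulAut G} {z : G} (h : α z = z) (n : ℕ) : (α ^ n) z = z := by
  induction n with
  | zero => simp
  | succ n ih => rw [pow_succ, MulAut.mul_apply, h, ih]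

theorem hc_inv_fix {α : MulAut G} {z : G} (h : α z = z) : α⁻¹ z = z := by
  have h2 : α⁻¹ (α z) = z := by simp
  rw [h] at h2
  exact h2

theorem hc_zpowers_fix {α β : MulAut G} {z : G} (h : α z = z) (hβ : β ∈ Subgroup.zpowers α) :
    β z = z := by
  obtain ⟨n, rfl⟩ := Subgroup.mem_zpowers_iff.mp hβ
  rcases Int.eq_nat_or_neg n with ⟨m, rfl | rfl⟩
  · rw [zpow_natCast]; exact hc_pow_fix h m
  · rw [zpow_neg, zpow_natCast]; exact hc_inv_fix (hc_pow_fix h m)

theorem hc_fix_tower {α : MulAut G} (hfix : ∀ z : G, z ^ p = 1 → α z = z) :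
    ∀ (j : ℕ) (y : G), y ^ (p ^ (j + 1)) = 1 → (α ^ (p ^ j)) y = y := by
  intro j
  induction j with
  | zero =>
    intro y hy
    rw [pow_zero, pow_one]
    exact hfix y (by simpa using hy)
  | succ j ih =>
    intro y hy
    have hα : ∀ y ∈ hcKer G (p ^ (j + 1 + 1)), y⁻¹ * (α ^ (p ^ j)) y ∈ hcKer G p := by
      intro y hy
      rw [mem_hcKer] at hy ⊢
      have h1 : (α ^ (p ^ j)) (y ^ p) = y ^ p :=
        ih (y ^ p) (by rw [← pow_mul, ← pow_succ']; exact hy)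
      rw [mul_pow, inv_pow, ← map_pow, h1, inv_mul_cancel]
    have hf : ∀ l ∈ hcKer G p, (α ^ (p ^ j)) l = l :=
      fun l hl => hc_pow_fix (hfix l (mem_hcKer.mp hl)) _
    have := chain_pow_fix hα hf p (fun l hl => mem_hcKer.mp hl) y (mem_hcKer.mpr hy)
    rw [pow_succ, pow_mul]
    exact this

theorem hc_aut_pGroup_of_fix [Finite G] (hG : IsPGroup p G) {α : MulAut G}
    (hfix : ∀ z : G, z ^ p = 1 → α z = z) : ∃ k : ℕ, α ^ (p ^ k) = 1 := by
  obtain ⟨n, hn⟩ := IsPGroup.iff_card.mp hG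
  refine ⟨n, MulEquiv.ext fun y => ?_⟩
  refine hc_fix_tower hfix n y ?_
  rw [pow_succ, pow_mul, ← hn, pow_card_eq_one', one_pow]

theorem hc_faithful [Finite G] (hG : IsPGroup p G) (A : Subgroup (MulAut G))
    (hA1 : ∀ R : Subgroup (MulAut G), R ≤ A → IsPGroup p R →
      (∀ a ∈ A, ∀ q ∈ R, a * q * a⁻¹ ∈ R) → R = ⊥) :
    ∀ α ∈ A, (∀ z : G, z ^ p = 1 → α z = z) → α = 1 := by
  intro α hαA hα
  let Q : Subgroup (MulAut G) :=
    { carrier := {β | β ∈ A ∧ ∀ z : G, z ^ p = 1 → β z = z}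
      one_mem' := ⟨A.one_mem, fun z _ => rfl⟩
      mul_mem' := fun {a b} ha hb => ⟨A.mul_mem ha.1 hb.1, fun z hz => by
        rw [MulAut.mul_apply, hb.2 z hz, ha.2 z hz]⟩
      inv_mem' := fun {a} ha => ⟨A.inv_mem ha.1, fun z hz => hc_inv_fix (ha.2 z hz)⟩ }
  have hQ : Q = ⊥ := by
    apply hA1 Q (fun β hβ => hβ.1)
    · rintro ⟨β, hβ⟩
      obtain ⟨k, hk⟩ := hc_aut_pGroup_of_fix hG hβ.2
      exact ⟨k, Subtype.ext hk⟩
    · intro a ha q hq
      refine ⟨A.mul_mem (A.mul_mem ha hq.1) (A.inv_mem ha), fun z hz => ?_⟩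
      rw [MulAut.mul_apply, MulAut.mul_apply, hq.2 (a⁻¹ z) (by rw [← map_pow, hz, map_one]),
        MulAut.apply_inv_self]
  have hαQ : α ∈ Q := ⟨hαA, hα⟩
  rw [hQ, Subgroup.mem_bot] at hαQ
  exact hαQ

theorem hc_torsion_card [Finite G] (A : Subgroup (MulAut G))
    (hfaith : ∀ α ∈ A, (∀ z : G, z ^ p = 1 → α z = z) → α = 1)
    (x : MulAut G) (hxA : x ∈ A) (hx1 : x ≠ 1) (hxp : x ^ p = 1)
    (hrk : ∀ K : Subgroup G, (∀ y ∈ K, y ^ p = 1) → Nat.card K ≤ p ^ 2) :
    Nat.card (hcKer G p) = p ^ 2 := by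
  have hpp : p.Prime := Fact.out
  have hKp : IsPGroup p (hcKer G p) := by
    rintro ⟨z, hz⟩
    refine ⟨1, Subtype.ext ?_⟩
    show z ^ (p ^ 1) = 1
    rw [pow_one]; exact mem_hcKer.mp hz
  obtain ⟨i, hi⟩ := IsPGroup.iff_card.mp hKp
  have hle := hrk (hcKer G p) (fun z hz => mem_hcKer.mp hz)
  rw [hi] at hle
  have hi2 : i ≤ 2 := (Nat.pow_le_pow_iff_right hpp.one_lt).mp hle
  have hchar : ∀ β : MulAut G, ∀ z ∈ hcKer G p, β z ∈ hcKer G p :=
    fun β z hz => hcKer_char β hz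
  interval_cases i
  · exfalso
    apply hx1
    apply hfaith x hxA
    intro z hz
    have hb : hcKer G p = ⊥ := Subgroup.eq_bot_of_card_eq _ (by rw [hi, pow_zero])
    have hz' : z ∈ hcKer G p := mem_hcKer.mpr hz
    rw [hb, Subgroup.mem_bot] at hz'
    rw [hz', map_one]
  · exfalso
    apply hx1
    apply hfaith x hxA
    intro z hz
    have h := chain_pElement (L := (⊥ : Subgroup G)) (M := hcKer G p)
      (fun β y hy => by rw [Subgroup.mem_bot] at hy ⊢; rw [hy, map_one]) hchar bot_le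
      (by rw [hi, Subgroup.card_bot, pow_one, mul_one]) x 1 (by rw [pow_one]; exact hxp) z
      (mem_hcKer.mpr hz)
    rw [Subgroup.mem_bot] at h
    exact (inv_mul_eq_one.mp h).symm
  · exact hi

theorem hc_irred [Finite G] (hG : IsPGroup p G) (A : Subgroup (MulAut G))
    (hA1 : ∀ R : Subgroup (MulAut G), R ≤ A → IsPGroup p R →
      (∀ a ∈ A, ∀ q ∈ R, a * q * a⁻¹ ∈ R) → R = ⊥)
    (hK : Nat.card (hcKer G p) = p ^ 2)
    (x : MulAut G) (hxA : x ∈ A) (hx1 : x ≠ 1) (hxp : x ^ p = 1)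
    (U : Subgroup G) (hUK : U ≤ hcKer G p) (hU : ∀ a ∈ A, ∀ u ∈ U, a u ∈ U)
    (hUc : Nat.card U = p) : False := by
  have hchar : ∀ β : MulAut G, ∀ z ∈ hcKer G p, β z ∈ hcKer G p :=
    fun β z hz => hcKer_char β hz
  let Q : Subgroup (MulAut G) :=
    { carrier := {β | β ∈ A ∧ (∀ u ∈ U, β u = u) ∧ ∀ y ∈ hcKer G p, y⁻¹ * β y ∈ U}
      one_mem' := ⟨A.one_mem, fun u _ => rfl, fun y _ => by
        rw [MulAut.one_apply, inv_mul_cancel]; exact U.one_mem⟩
      mul_mem' := fun {a b} ha hb => ⟨A.mul_mem ha.1 hb.1, fun u hu => by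
        rw [MulAut.mul_apply, hb.2.1 u hu, ha.2.1 u hu], fun y hy => by
        have h : y⁻¹ * (a * b) y = (y⁻¹ * a y) * a (y⁻¹ * b y) := by
          rw [MulAut.mul_apply, map_mul, map_inv]; group
        rw [h]
        exact U.mul_mem (ha.2.2 y hy) (hU a ha.1 _ (hb.2.2 y hy))⟩
      inv_mem' := fun {a} ha => ⟨A.inv_mem ha.1, fun u hu => hc_inv_fix (ha.2.1 u hu),
        fun y hy => by
        have h := ha.2.2 (a⁻¹ y) (hchar a⁻¹ y hy)
        rw [MulAut.apply_inv_self] at h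
        have h2 := U.inv_mem h
        rwa [mul_inv_rev, inv_inv] at h2⟩ }
  have hQ : Q = ⊥ := by
    apply hA1 Q (fun β hβ => hβ.1)
    · rintro ⟨β, hβ⟩
      have h1 : ∀ y ∈ hcKer G p, (β ^ p) y = y :=
        chain_pow_fix hβ.2.2 hβ.2.1 p (fun l hl => mem_hcKer.mp (hUK hl))
      obtain ⟨k, hk⟩ := hc_aut_pGroup_of_fix hG (α := β ^ p)
        (fun z hz => h1 z (mem_hcKer.mpr hz))
      refine ⟨k + 1, Subtype.ext ?_⟩
      show β ^ (p ^ (k + 1)) = 1
      rw [pow_succ', pow_mul]; exact hk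
    · intro a ha q hq
      refine ⟨A.mul_mem (A.mul_mem ha hq.1) (A.inv_mem ha), fun u hu => ?_, fun y hy => ?_⟩
      · rw [MulAut.mul_apply, MulAut.mul_apply, hq.2.1 (a⁻¹ u) (hU a⁻¹ (A.inv_mem ha) u hu),
          MulAut.apply_inv_self]
      · have h : y⁻¹ * (a * q * a⁻¹) y = a ((a⁻¹ y)⁻¹ * q (a⁻¹ y)) := by
          simp [MulAut.mul_apply]
        rw [h]
        exact hU a ha _ (hq.2.2 _ (hchar a⁻¹ y hy))
  have hxQ : x ∈ Q := by
    refine ⟨hxA, fun u hu => ?_, ?_⟩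
    · have h := chain_pElement' A (L := (⊥ : Subgroup G)) (M := U)
        (fun β _ y hy => by rw [Subgroup.mem_bot] at hy ⊢; rw [hy, map_one]) hU bot_le
        (fun g l hl => by rw [Subgroup.mem_bot] at hl ⊢; rw [hl, mul_one, mul_inv_cancel])
        (by rw [hUc, Subgroup.card_bot, mul_one]) x hxA 1 (by rw [pow_one]; exact hxp) u hu
      rw [Subgroup.mem_bot] at h
      exact (inv_mul_eq_one.mp h).symm
    · exact chain_pElement' A (L := U) (M := hcKer G p) hU (fun β _ y hy => hchar β y hy) hUK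
        (fun g l hl => by rw [mul_comm g l, mul_inv_cancel_right]; exact hl)
        (by rw [hK, hUc, pow_two]) x hxA 1 (by rw [pow_one]; exact hxp)
  rw [hQ, Subgroup.mem_bot] at hxQ
  exact hx1 hxQ

theorem hc_exists_exponent [Finite G] (hG : IsPGroup p G) (x₁ : G) (hx₁ : x₁ ≠ 1) :
    ∃ e : ℕ, 1 ≤ e ∧ (∀ x : G, x ^ (p ^ e) = 1) ∧ ∃ x₀ : G, x₀ ^ (p ^ (e - 1)) ≠ 1 := by
  classical
  obtain ⟨n, hn⟩ := IsPGroup.iff_card.mp hG
  have hex : ∃ e : ℕ, ∀ x : G, x ^ (p ^ e) = 1 :=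
    ⟨n, fun x => by rw [← hn]; exact pow_card_eq_one'⟩
  have h0 : Nat.find hex ≠ 0 := by
    intro h
    have := Nat.find_spec hex x₁
    rw [h, pow_zero, pow_one] at this
    exact hx₁ this
  refine ⟨Nat.find hex, Nat.one_le_iff_ne_zero.mpr h0, Nat.find_spec hex, ?_⟩
  have := Nat.find_min hex (m := Nat.find hex - 1) (by omega)
  exact not_forall.mp this

theorem hc_pow_surj [Finite G] (hK : Nat.card (hcKer G p) = p ^ 2)
    (hirr : ∀ U : Subgroup G, U ≤ hcKer G p → (∀ β : MulAut G, ∀ u ∈ U, β u ∈ U) →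
      Nat.card U ≠ p)
    (e : ℕ) (he : 1 ≤ e) (hexp : ∀ x : G, x ^ (p ^ e) = 1) (x₀ : G)
    (hx₀ : x₀ ^ (p ^ (e - 1)) ≠ 1) :
    ∀ z : G, z ^ p = 1 → ∃ w, z = w ^ (p ^ (e - 1)) := by
  have hpp : p.Prime := Fact.out
  have hUK : (powMonoidHom (p ^ (e - 1)) : G →* G).range ≤ hcKer G p := by
    rintro _ ⟨w, rfl⟩
    rw [mem_hcKer, powMonoidHom_apply, ← pow_mul, ← pow_succ, Nat.sub_add_cancel he]
    exact hexp w
  have hUinv : ∀ β : MulAut G, ∀ u ∈ (powMonoidHom (p ^ (e - 1)) : G →* G).range,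
      β u ∈ (powMonoidHom (p ^ (e - 1)) : G →* G).range := by
    rintro β _ ⟨w, rfl⟩
    exact ⟨β w, by rw [powMonoidHom_apply, powMonoidHom_apply, map_pow]⟩
  have hdvd : Nat.card (powMonoidHom (p ^ (e - 1)) : G →* G).range ∣ p ^ 2 := by
    rw [← hK]; exact Subgroup.card_dvd_of_le hUK
  obtain ⟨i, hi2, hi⟩ := (Nat.dvd_prime_pow hpp).mp hdvd
  have hUeq : (powMonoidHom (p ^ (e - 1)) : G →* G).range = hcKer G p := by
    interval_cases i
    · exfalso
      apply hx₀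
      have hb := Subgroup.eq_bot_of_card_eq _ (hi.trans (pow_zero p))
      have hm : x₀ ^ (p ^ (e - 1)) ∈ (powMonoidHom (p ^ (e - 1)) : G →* G).range := ⟨x₀, rfl⟩
      rw [hb, Subgroup.mem_bot] at hm
      exact hm
    · exact absurd (hi.trans (pow_one p)) (hirr _ hUK hUinv)
    · exact Subgroup.eq_of_le_of_card_ge hUK (by rw [hK, hi])
  intro z hz
  have hzU : z ∈ (powMonoidHom (p ^ (e - 1)) : G →* G).range := by
    rw [hUeq]; exact mem_hcKer.mpr hz
  obtain ⟨w, hw⟩ := hzU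
  exact ⟨w, hw.symm⟩

theorem hc_exists_indep (hK : Nat.card (hcKer G p) = p ^ 2) :
    ∃ z₁ z₂ : G, z₁ ^ p = 1 ∧ z₂ ^ p = 1 ∧
      ∀ a b : ℕ, z₁ ^ a * z₂ ^ b = 1 → p ∣ a ∧ p ∣ b := by
  have hpp : p.Prime := Fact.out
  have hne : hcKer G p ≠ ⊥ := by
    intro h
    rw [h, Subgroup.card_bot] at hK
    have := hpp.one_lt
    nlinarith
  obtain ⟨⟨z₁, hz₁⟩, hz₁1⟩ := Subgroup.ne_bot_iff_exists_ne_one.mp hne
  have hz₁ne : z₁ ≠ 1 := fun h => hz₁1 (Subtype.ext h)
  have hord : orderOf z₁ = p := orderOf_eq_prime (mem_hcKer.mp hz₁) hz₁ne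
  obtain ⟨z₂, hz₂, hz₂n⟩ : ∃ z₂ ∈ hcKer G p, z₂ ∉ Subgroup.zpowers z₁ := by
    by_contra hcon
    push Not at hcon
    have hle : hcKer G p ≤ Subgroup.zpowers z₁ := fun z hz => hcon z hz
    have hfin : Finite (Subgroup.zpowers z₁) := by
      apply Nat.finite_of_card_ne_zero
      rw [Nat.card_zpowers, hord]
      exact hpp.ne_zero
    have := Subgroup.card_le_of_le hle
    rw [hK, Nat.card_zpowers, hord] at this
    have := hpp.one_lt
    nlinarith
  refine ⟨z₁, z₂, mem_hcKer.mp hz₁, mem_hcKer.mp hz₂, fun a b hab => ?_⟩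
  have hb : p ∣ b := by
    by_contra hb
    have hcop : Nat.Coprime b p := ((Nat.Prime.coprime_iff_not_dvd hpp).mpr hb).symm
    obtain ⟨m, -, hm⟩ := Nat.exists_mul_mod_eq_one_of_coprime hcop hpp.one_lt
    apply hz₂n
    have h1 : z₂ = (z₂ ^ b) ^ m := by
      rw [← pow_mul, ← hc_pow_mod (mem_hcKer.mp hz₂) (b * m), hm, pow_one]
    have h2 : z₂ ^ b = (z₁ ^ a)⁻¹ := eq_inv_of_mul_eq_one_right hab
    rw [h1, h2]
    exact Subgroup.pow_mem _ (Subgroup.inv_mem _ (Subgroup.pow_mem _ (Subgroup.mem_zpowers z₁) a)) m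
  refine ⟨?_, hb⟩
  obtain ⟨b', rfl⟩ := hb
  rw [pow_mul, mem_hcKer.mp hz₂, one_pow, mul_one] at hab
  have := orderOf_dvd_of_pow_eq_one hab
  rwa [hord] at this

theorem hc_indep_lift (e : ℕ) (u v : G)
    (hind : ∀ a b : ℕ, (u ^ (p ^ (e - 1))) ^ a * (v ^ (p ^ (e - 1))) ^ b = 1 → p ∣ a ∧ p ∣ b) :
    ∀ t : ℕ, t ≤ e → ∀ a b : ℕ, u ^ a * v ^ b = 1 → p ^ t ∣ a ∧ p ^ t ∣ b := by
  intro t
  induction t with
  | zero =>
    intro _ a b _
    rw [pow_zero]
    exact ⟨one_dvd _, one_dvd _⟩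
  | succ t ih =>
    intro ht a b hab
    obtain ⟨⟨a', rfl⟩, ⟨b', rfl⟩⟩ := ih (by omega) a b hab
    have hpe : p ^ (e - 1) = p ^ t * p ^ (e - 1 - t) := by
      rw [← pow_add]; congr 1; omega
    have h1 : (u ^ (p ^ (e - 1))) ^ a' * (v ^ (p ^ (e - 1))) ^ b' = 1 := by
      have h2 : (u ^ (p ^ t * a') * v ^ (p ^ t * b')) ^ (p ^ (e - 1 - t)) = 1 := by
        rw [hab, one_pow]
      rw [mul_pow, ← pow_mul, ← pow_mul] at h2
      rw [← pow_mul, ← pow_mul, hpe]
      have e1 : p ^ t * p ^ (e - 1 - t) * a' = p ^ t * a' * p ^ (e - 1 - t) := by ring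
      have e2 : p ^ t * p ^ (e - 1 - t) * b' = p ^ t * b' * p ^ (e - 1 - t) := by ring
      rw [e1, e2]
      exact h2
    obtain ⟨⟨a'', rfl⟩, ⟨b'', rfl⟩⟩ := hind a' b' h1
    exact ⟨⟨a'', by ring⟩, ⟨b'', by ring⟩⟩

theorem hc_exists_zmod_iso [Finite G] (n : ℕ) [NeZero n] (u v : G) (hu : u ^ n = 1)
    (hv : v ^ n = 1) (hind : ∀ a b : ℕ, u ^ a * v ^ b = 1 → n ∣ a ∧ n ∣ b)
    (hcard : Nat.card G ≤ n * n) :
    Nonempty (G ≃* Multiplicative (ZMod n × ZMod n)) := by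
  let ψ : Multiplicative (ZMod n × ZMod n) →* G :=
    { toFun := fun x => u ^ (Multiplicative.toAdd x).1.val * v ^ (Multiplicative.toAdd x).2.val
      map_one' := by
        show u ^ ((0 : ZMod n × ZMod n)).1.val * v ^ ((0 : ZMod n × ZMod n)).2.val = 1
        rw [Prod.fst_zero, Prod.snd_zero, ZMod.val_zero, pow_zero, pow_zero, mul_one]
      map_mul' := fun x y => by
        show u ^ ((Multiplicative.toAdd x).1 + (Multiplicative.toAdd y).1).val *
            v ^ ((Multiplicative.toAdd x).2 + (Multiplicative.toAdd y).2).val =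
          u ^ (Multiplicative.toAdd x).1.val * v ^ (Multiplicative.toAdd x).2.val *
            (u ^ (Multiplicative.toAdd y).1.val * v ^ (Multiplicative.toAdd y).2.val)
        rw [ZMod.val_add, ZMod.val_add, hc_pow_mod hu, hc_pow_mod hv, pow_add, pow_add]
        exact mul_mul_mul_comm _ _ _ _ }
  have hψ : ∀ x, ψ x =
      u ^ (Multiplicative.toAdd x).1.val * v ^ (Multiplicative.toAdd x).2.val := fun x => rfl
  have hinj : Function.Injective ψ := by
    rw [injective_iff_map_eq_one]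
    intro x hx
    rw [hψ] at hx
    obtain ⟨ha, hb⟩ := hind _ _ hx
    have h1 : (Multiplicative.toAdd x).1 = 0 :=
      (ZMod.val_eq_zero _).mp (Nat.eq_zero_of_dvd_of_lt ha (ZMod.val_lt _))
    have h2 : (Multiplicative.toAdd x).2 = 0 :=
      (ZMod.val_eq_zero _).mp (Nat.eq_zero_of_dvd_of_lt hb (ZMod.val_lt _))
    exact Multiplicative.toAdd.injective (Prod.ext h1 h2)
  have hc : Nat.card (Multiplicative (ZMod n × ZMod n)) = n * n := by
    rw [Nat.card_congr Multiplicative.toAdd, Nat.card_prod, Nat.card_zmod]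
  have hbij : Function.Bijective ψ :=
    hinj.bijective_of_nat_card_le (by rw [hc]; exact hcard)
  exact ⟨(MulEquiv.ofBijective ψ hbij).symm⟩

theorem hc_pow_root (e : ℕ) (hpow : ∀ z : G, z ^ p = 1 → ∃ w, z = w ^ (p ^ (e - 1))) :
    ∀ j : ℕ, j ≤ e → ∀ x : G, x ^ (p ^ j) = 1 → ∃ w, x = w ^ (p ^ (e - j)) := by
  intro j
  induction j with
  | zero =>
    intro _ x hx
    refine ⟨1, ?_⟩
    rw [one_pow]
    simpa using hx
  | succ j ih =>
    intro hj x hx
    obtain ⟨z, hz⟩ := hpow (x ^ (p ^ j)) (by rw [← pow_mul, ← pow_succ]; exact hx)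
    have hx' : (x * (z ^ (p ^ (e - 1 - j)))⁻¹) ^ (p ^ j) = 1 := by
      have h1 : e - 1 - j + j = e - 1 := by omega
      rw [mul_pow, inv_pow, ← pow_mul, ← pow_add, h1, ← hz, mul_inv_cancel]
    obtain ⟨w, hw⟩ := ih (by omega) _ hx'
    refine ⟨w ^ p * z, ?_⟩
    have h1 : p ^ (e - j) = p * p ^ (e - (j + 1)) := by
      rw [← pow_succ']; congr 1; omega
    have h2 : e - 1 - j = e - (j + 1) := by omega
    rw [mul_pow, ← pow_mul, ← h1, ← hw, ← h2, inv_mul_cancel_right]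

/-- an automorphism as an additive endomorphism. -/
def hcEnd (g : MulAut G) : Module.End ℤ (Additive G) :=
  (MonoidHom.toAdditive g.toMonoidHom).toIntLinearMap

theorem hcEnd_pow (g : MulAut G) (n : ℕ) : hcEnd (g ^ n) = hcEnd g ^ n := by
  induction n with
  | zero =>
    rw [pow_zero, pow_zero]
    exact LinearMap.ext fun m => rfl
  | succ n ih =>
    rw [pow_succ, pow_succ, ← ih]
    exact LinearMap.ext fun m => rfl

/-- for `p ≥ 5`: an automorphism of order `p` of a homocyclic group of rank two and exponent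
at least `p²` fixes the elements of order `p`. -/
theorem hc_fix_of_order_p [Finite G] (hp5 : 5 ≤ p) (e : ℕ) (he : 2 ≤ e)
    (hexp : ∀ x : G, x ^ (p ^ e) = 1)
    (hpow : ∀ z : G, z ^ p = 1 → ∃ w, z = w ^ (p ^ (e - 1)))
    (hK : Nat.card (hcKer G p) = p ^ 2) (g : MulAut G) (hg : g ^ p = 1) :
    ∀ z : G, z ^ p = 1 → g z = z := by
  have hpp : p.Prime := Fact.out
  have hsub1 : e - 1 + 1 = e := by omega
  have hsub2 : e - 2 + 1 = e - 1 := by omega
  have hchar : ∀ β : MulAut G, ∀ z ∈ hcKer G p, β z ∈ hcKer G p :=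
    fun β z hz => hcKer_char β hz
  obtain ⟨z₁, hz₁K, hz₁ne, hz₁fix⟩ : ∃ z₁ : G, z₁ ∈ hcKer G p ∧ z₁ ≠ 1 ∧ g z₁ = z₁ := by
    letI : MulAction ↥(Subgroup.zpowers g) ↥(hcKer G p) :=
      { smul := fun β y => ⟨(β : MulAut G) (y : G), hchar β y y.2⟩
        one_smul := fun y => Subtype.ext rfl
        mul_smul := fun β γ y => Subtype.ext rfl }
    have hpg : IsPGroup p (Subgroup.zpowers g) := by
      rintro ⟨β, hβ⟩
      obtain ⟨n, rfl⟩ := Subgroup.mem_zpowers_iff.mp hβ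
      refine ⟨1, Subtype.ext ?_⟩
      show (g ^ n) ^ (p ^ 1) = 1
      rw [pow_one, ← zpow_natCast, ← zpow_mul, mul_comm, zpow_mul, zpow_natCast, hg, one_zpow]
    obtain ⟨b, hb, hne⟩ := hpg.exists_fixed_point_of_prime_dvd_card_of_fixed_point
      (α := ↥(hcKer G p)) (by rw [hK]; exact dvd_pow_self p two_ne_zero)
      (a := (1 : ↥(hcKer G p))) (fun β => Subtype.ext (map_one (β : MulAut G)))
    refine ⟨b, b.2, fun h => hne (Subtype.ext h.symm), ?_⟩
    exact congrArg Subtype.val (hb ⟨g, Subgroup.mem_zpowers g⟩)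
  have hord : orderOf z₁ = p := orderOf_eq_prime (mem_hcKer.mp hz₁K) hz₁ne
  have hUK : Subgroup.zpowers z₁ ≤ hcKer G p := Subgroup.zpowers_le.mpr hz₁K
  have hUfix : ∀ β ∈ Subgroup.zpowers g, ∀ u ∈ Subgroup.zpowers z₁, β u = u := by
    intro β hβ u hu
    obtain ⟨n, rfl⟩ := Subgroup.mem_zpowers_iff.mp hu
    rw [map_zpow, hc_zpowers_fix hz₁fix hβ]
  have hDU : ∀ y ∈ hcKer G p, y⁻¹ * g y ∈ Subgroup.zpowers z₁ :=
    chain_pElement' (Subgroup.zpowers g) (L := Subgroup.zpowers z₁) (M := hcKer G p)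
      (fun β hβ u hu => by rw [hUfix β hβ u hu]; exact hu) (fun β _ y hy => hchar β y hy) hUK
      (fun a l hl => by rw [mul_comm a l, mul_inv_cancel_right]; exact hl)
      (by rw [hK, Nat.card_zpowers, hord, pow_two]) g (Subgroup.mem_zpowers g) 1
      (by rw [pow_one]; exact hg)
  obtain ⟨D, hD⟩ : ∃ D : G →* G, ∀ y, D y = y⁻¹ * g y :=
    ⟨{ toFun := fun y => y⁻¹ * g y
       map_one' := by
         show (1 : G)⁻¹ * g 1 = 1
         rw [map_one, inv_one, mul_one]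
       map_mul' := fun a b => by
         show (a * b)⁻¹ * g (a * b) = a⁻¹ * g a * (b⁻¹ * g b)
         rw [map_mul, mul_inv_rev, mul_comm b⁻¹ a⁻¹, mul_mul_mul_comm] }, fun y => rfl⟩
  have hDK : ∀ y : G, y ^ p = 1 → D (D y) = 1 := by
    intro y hy
    have h1 : D y ∈ Subgroup.zpowers z₁ := by rw [hD]; exact hDU y (mem_hcKer.mpr hy)
    have h2 : g (D y) = D y := hUfix g (Subgroup.mem_zpowers g) _ h1
    rw [hD (D y), h2, inv_mul_cancel]
  have hD2 : ∀ y : G, D (D y) ^ (p ^ (e - 1)) = 1 := by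
    intro y
    rw [← map_pow, ← map_pow]
    apply hDK
    rw [← pow_mul, ← pow_succ, hsub1]
    exact hexp y
  have hroot : ∀ x : G, x ^ (p ^ (e - 1)) = 1 → ∃ w, x = w ^ p := by
    intro x hx
    obtain ⟨w, hw⟩ := hc_pow_root e hpow (e - 1) (by omega) x hx
    have h1 : e - (e - 1) = 1 := by omega
    rw [h1, pow_one] at hw
    exact ⟨w, hw⟩
  have hD4 : ∀ y : G, D (D (D (D y))) ^ (p ^ (e - 2)) = 1 := by
    intro y
    obtain ⟨w, hw⟩ := hroot (D (D y)) (hD2 y)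
    rw [hw, map_pow, map_pow, ← pow_mul, ← pow_succ', hsub2]
    exact hD2 w
  have hXD : ∀ y : G, (hcEnd g - 1) (Additive.ofMul y) = Additive.ofMul (D y) := by
    intro y
    show Additive.ofMul (g y) - Additive.ofMul y = Additive.ofMul (D y)
    rw [hD, ← ofMul_div, div_eq_mul_inv, mul_comm]
  have e2 : ∀ m : Additive G, ((hcEnd g - 1) ^ 2 : Module.End ℤ (Additive G)) m = (hcEnd g - 1) ((hcEnd g - 1) m) :=
    fun m => by rw [Module.End.pow_apply]; rfl
  have e4 : ∀ m : Additive G, ((hcEnd g - 1) ^ 4 : Module.End ℤ (Additive G)) m =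
      (hcEnd g - 1) ((hcEnd g - 1) ((hcEnd g - 1) ((hcEnd g - 1) m))) :=
    fun m => by rw [Module.End.pow_apply]; rfl
  have hT : (hcEnd g - 1 + 1) ^ p = 1 := by
    rw [sub_add_cancel, ← hcEnd_pow, hg]
    exact LinearMap.ext fun m => rfl
  have h2 : (p ^ (e - 2) * p) • (hcEnd g - 1) ^ 2 = 0 := by
    apply LinearMap.ext
    intro m
    show (p ^ (e - 2) * p) • (((hcEnd g - 1) ^ 2 : Module.End ℤ (Additive G))
      (Additive.ofMul (Additive.toMul m))) = 0
    rw [e2, hXD, hXD, ← ofMul_pow, ← pow_succ, hsub2, hD2]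
    rfl
  have h4 : (p ^ (e - 2)) • (hcEnd g - 1) ^ 4 = 0 := by
    apply LinearMap.ext
    intro m
    show (p ^ (e - 2)) • (((hcEnd g - 1) ^ 4 : Module.End ℤ (Additive G))
      (Additive.ofMul (Additive.toMul m))) = 0
    rw [e4, hXD, hXD, hXD, hXD, ← ofMul_pow, hD4]
    rfl
  have h1 := hc_bin_ring (hcEnd g - 1) p (p ^ (e - 2)) hpp hp5 hT h2 h4
  intro z hz
  obtain ⟨w, rfl⟩ := hpow z hz
  have h5 : (p ^ (e - 2) * p) • ((hcEnd g - 1) (Additive.ofMul w)) = 0 :=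
    congrArg (fun f : Module.End ℤ (Additive G) => f (Additive.ofMul w)) h1
  rw [hXD, ← ofMul_pow, ← pow_succ, hsub2] at h5
  have h6 : D w ^ (p ^ (e - 1)) = 1 := ofMul_eq_zero.mp h5
  rw [← map_pow, hD] at h6
  exact (inv_mul_eq_one.mp h6).symm

theorem hc_card_le_of_frattini_index [Finite G] (c : ℕ) (hrk : (frattini G).index ≤ c) :
    ∀ K : Subgroup G, (∀ y ∈ K, y ^ p = 1) → Nat.card K ≤ c := by
  intro K hK
  have hKle : K ≤ hcKer G p := fun y hy => mem_hcKer.mpr (hK y hy)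
  have h1 : Nat.card (hcKer G p) * Nat.card (powMonoidHom p : G →* G).range = Nat.card G := by
    rw [← Subgroup.index_ker]; exact Subgroup.card_mul_index _
  have h2 : Nat.card (powMonoidHom p : G →* G).range * (powMonoidHom p : G →* G).range.index =
      Nat.card G := Subgroup.card_mul_index _
  have h3 : Nat.card (hcKer G p) = (powMonoidHom p : G →* G).range.index := by
    have hpos : 0 < Nat.card (powMonoidHom p : G →* G).range := Nat.card_pos
    rw [mul_comm] at h1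
    exact Nat.eq_of_mul_eq_mul_left hpos (h1.trans h2.symm)
  have h4 : frattini G ≤ (powMonoidHom p : G →* G).range := by
    have := Cfsg.Agent.Helper14.frattini_le_ker_of_elementary (p := p)
      (QuotientGroup.mk' (powMonoidHom p : G →* G).range)
      (fun a b => by rw [← map_mul, ← map_mul, mul_comm])
      (fun a => by
        rw [← map_pow]
        exact (QuotientGroup.eq_one_iff _).mpr ⟨a, rfl⟩)
    rwa [QuotientGroup.ker_mk'] at this
  have h5 : (powMonoidHom p : G →* G).range.index ∣ (frattini G).index :=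
    Subgroup.index_dvd_of_le h4
  have h6 : (frattini G).index ≠ 0 := Subgroup.index_ne_zero_of_finite
  calc Nat.card K ≤ Nat.card (hcKer G p) := Subgroup.card_le_of_le hKle
    _ = (powMonoidHom p : G →* G).range.index := h3
    _ ≤ (frattini G).index := Nat.le_of_dvd (Nat.pos_of_ne_zero h6) h5
    _ ≤ c := hrk

theorem hc_main [Finite G] (hG : IsPGroup p G) (A : Subgroup (MulAut G))
    (hA1 : ∀ R : Subgroup (MulAut G), R ≤ A → IsPGroup p R →
      (∀ a ∈ A, ∀ q ∈ R, a * q * a⁻¹ ∈ R) → R = ⊥)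
    (x : MulAut G) (hxA : x ∈ A) (hx1 : x ≠ 1) (hxp : x ^ p = 1)
    (hrk : ∀ K : Subgroup G, (∀ y ∈ K, y ^ p = 1) → Nat.card K ≤ p ^ 2) :
    ((∀ y : G, y ^ p = 1) ∧ Nat.card G = p ^ 2) ∨
      (p ≤ 3 ∧ ∃ k : ℕ, Nonempty (G ≃* Multiplicative (ZMod (p ^ k) × ZMod (p ^ k)))) := by
  have hpp : p.Prime := Fact.out
  have hfaith := hc_faithful hG A hA1
  have hK := hc_torsion_card A hfaith x hxA hx1 hxp hrk
  obtain ⟨z₁, z₂, hz₁, hz₂, hind⟩ := hc_exists_indep hK
  have hz₁ne : z₁ ≠ 1 := by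
    intro h
    have h1 := (hind 1 0 (by rw [h, one_pow, pow_zero, mul_one])).1
    exact hpp.one_lt.ne' (Nat.dvd_one.mp h1)
  obtain ⟨e, he1, hexp, x₀, hx₀⟩ := hc_exists_exponent hG z₁ hz₁ne
  have hpow := hc_pow_surj hK
    (fun U hU hinv hc => hc_irred hG A hA1 hK x hxA hx1 hxp U hU (fun a _ => hinv a) hc)
    e he1 hexp x₀ hx₀
  obtain ⟨u, hu⟩ := hpow z₁ hz₁
  obtain ⟨v, hv⟩ := hpow z₂ hz₂
  have hind' := hc_indep_lift e u v (by rw [← hu, ← hv]; exact hind) e le_rfl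
  have hcard : Nat.card G ≤ p ^ e * p ^ e := by
    have h := hc_card_le_of_exponent (p ^ 2) hrk e ⊤ (fun y _ => hexp y)
    rw [Subgroup.card_top] at h
    calc Nat.card G ≤ (p ^ 2) ^ e := h
      _ = p ^ e * p ^ e := by ring
  haveI : NeZero (p ^ e) := ⟨pow_ne_zero e hpp.ne_zero⟩
  have hiso := hc_exists_zmod_iso (p ^ e) u v (hexp u) (hexp v) hind' hcard
  by_cases h3 : p ≤ 3
  · right
    exact ⟨h3, e, hiso⟩
  · left
    have he : e = 1 := by
      by_contra hne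
      apply hx1
      apply hfaith x hxA
      have h4 : p ≠ 4 := fun h => by rw [h] at hpp; exact absurd hpp (by norm_num)
      exact hc_fix_of_order_p (by omega) e (by omega) hexp hpow hK x hxp
    subst he
    have hexp' : ∀ y : G, y ^ p = 1 := fun y => by
      have := hexp y
      rwa [pow_one] at this
    refine ⟨hexp', ?_⟩
    have htop : hcKer G p = ⊤ := by
      rw [eq_top_iff]; intro y _; exact mem_hcKer.mpr (hexp' y)
    rw [htop, Subgroup.card_top] at hK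
    exact hK

end HcMain

section HcWrap

theorem hc_card_le_of_frattini {G : Type*} [Group G] [Finite G]
    (hcomm : ∀ a b : G, a * b = b * a) {p : ℕ} [Fact p.Prime] (c : ℕ)
    (hrk : (frattini G).index ≤ c) :
    ∀ K : Subgroup G, (∀ y ∈ K, y ^ p = 1) → Nat.card K ≤ c := by
  letI : CommGroup G := { (inferInstance : Group G) with mul_comm := hcomm }
  exact hc_card_le_of_frattini_index c hrk

/-- a finite abelian `p`-group of rank at most two with a group of automorphisms having no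
nontrivial normal `p`-subgroup but an element of order `p` is homocyclic, and elementary abelian
if `p ≥ 5`. -/
theorem hc_homocyclic {G : Type*} [Group G] [Finite G] (hcomm : ∀ a b : G, a * b = b * a)
    {p : ℕ} [Fact p.Prime] (hG : IsPGroup p G) (A : Subgroup (MulAut G))
    (hA1 : ∀ R : Subgroup (MulAut G), R ≤ A → IsPGroup p R →
      (∀ a ∈ A, ∀ q ∈ R, a * q * a⁻¹ ∈ R) → R = ⊥)
    (x : MulAut G) (hxA : x ∈ A) (hx1 : x ≠ 1) (hxp : x ^ p = 1)
    (hrk : ∀ K : Subgroup G, (∀ y ∈ K, y ^ p = 1) → Nat.card K ≤ p ^ 2) :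
    ((∀ y : G, y ^ p = 1) ∧ Nat.card G = p ^ 2) ∨
      (p ≤ 3 ∧ ∃ k : ℕ, Nonempty (G ≃* Multiplicative (ZMod (p ^ k) × ZMod (p ^ k)))) := by
  letI : CommGroup G := { (inferInstance : Group G) with mul_comm := hcomm }
  exact hc_main hG A hA1 x hxA hx1 hxp hrk

end HcWrap

end Cfsg.Agent.Helper26
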