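import Mathlib
import Cfsg.Agent.Helper14.XS

/-!
Large extraspecial 2-subgroups (helper26).

`key`: let `Q` be an extraspecial 2-subgroup (given as `XS.Data Q z`) with `C_G(Q) ≤ Q` and
`C_G(z) ≤ N_G(Q)`.  If `g z g⁻¹ ∈ Q` then `g⁻¹ z g ∈ Q`.
`key_pCore`: in that situation `z ∈ O_2(C_G(g z g⁻¹))`.
`index6`: if `V = ⟨z, x⟩` is a four-group and two elements induce the transpositions
`(x, zx)` and `(z, zx)` on it, then `|N(V) : C(V)| = 6`.
-/

set_option autoImplicit false

namespace Cfsg.Agent.Helper26.LargeXS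

open Cfsg Cfsg.Agent.Helper14.XS

variable {G : Type*} [Group G]

/-- The centralizer of one element, with definitional membership. -/
def cen (x : G) : Subgroup G where
  carrier := {c | c * x = x * c}
  mul_mem' := fun {a b} ha hb => Commute.mul_left (a := a) (b := b) (c := x) ha hb
  one_mem' := Commute.one_left x
  inv_mem' := fun {a} ha => Commute.inv_left (a := a) (b := x) ha

theorem mem_cen {x c : G} : c ∈ cen x ↔ c * x = x * c := Iff.rfl

theorem mem_normalizer_of_conj {H : Subgroup G} [Finite H] {g : G}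
    (h : ∀ y ∈ H, g * y * g⁻¹ ∈ H) : g ∈ Subgroup.normalizer (H : Set G) := by
  rw [Subgroup.mem_normalizer_iff]
  intro x
  refine ⟨h x, fun hx => ?_⟩
  have hinj : Function.Injective (fun q : H => (⟨g * q * g⁻¹, h q q.2⟩ : H)) := by
    intro a b hab
    have h1 : g * (a : G) * g⁻¹ = g * (b : G) * g⁻¹ := congrArg Subtype.val hab
    exact Subtype.ext (mul_left_cancel (mul_right_cancel h1))
  obtain ⟨q, hq⟩ := Finite.surjective_of_injective hinj ⟨g * x * g⁻¹, hx⟩
  have h1 : g * (q : G) * g⁻¹ = g * x * g⁻¹ := congrArg Subtype.val hq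
  have h2 : (q : G) = x := mul_left_cancel (mul_right_cancel h1)
  rw [← h2]; exact q.2

/-- Normalizers grow in `p`-groups. -/
theorem exists_normalizing [Finite G] {p : ℕ} [Fact p.Prime] (S T : Subgroup G)
    (hT : IsPGroup p T) (hST : S < T) :
    ∃ t ∈ T, t ∉ S ∧ (∀ s ∈ S, t * s * t⁻¹ ∈ S) ∧ (∀ s ∈ S, t⁻¹ * s * t ∈ S) := by
  have : Group.IsNilpotent T := hT.isNilpotent
  have hlt : S.subgroupOf T < ⊤ := by
    rw [lt_top_iff_ne_top]
    intro h
    rw [Subgroup.subgroupOf_eq_top] at h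
    exact hST.ne (le_antisymm hST.le h)
  have hn := Group.normalizerCondition_of_isNilpotent (S.subgroupOf T) hlt
  obtain ⟨t, htn, htS⟩ := SetLike.exists_of_lt hn
  refine ⟨(t : G), t.2, fun h => htS (Subgroup.mem_subgroupOf.mpr h), ?_, ?_⟩
  · intro s hs
    have h1 := (Subgroup.mem_normalizer_iff.mp htn ⟨s, hST.le hs⟩).mp
      (Subgroup.mem_subgroupOf.mpr hs)
    exact Subgroup.mem_subgroupOf.mp h1
  · intro s hs
    have htn' := (Subgroup.normalizer _).inv_mem htn
    have h1 := (Subgroup.mem_normalizer_iff.mp htn' ⟨s, hST.le hs⟩).mp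
      (Subgroup.mem_subgroupOf.mpr hs)
    have h2 := Subgroup.mem_subgroupOf.mp h1
    simpa using h2

theorem sb_of_comm {Q : Subgroup G} {z : G} (d : Data Q z) {a b : G} (ha : a ∈ Q)
    (hb : b ∈ Q) : SemiconjBy a b b ∨ SemiconjBy a b (z * b) := by
  obtain ⟨hzQ, hz1, hzz, hcen, hcomm, hsqr, hrad⟩ := d
  rcases hcomm a ha b hb with h | h
  · left
    exact (comm_eq_one_iff a b).mp h
  · right
    show a * b = z * b * a
    calc a * b = (a * b * a⁻¹ * b⁻¹) * b * a := by group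
      _ = z * b * a := by rw [h]

theorem cover {Q : Subgroup G} {z x q : G} (d : Data Q z) (hxQ : x ∈ Q) (hqQ : q ∈ Q)
    (hq : SemiconjBy q x (z * x)) {v : G} (hv : v ∈ Q) :
    SemiconjBy v x x ∨ ∃ r ∈ Q, SemiconjBy r x x ∧ v = q * r := by
  rcases sb_of_comm d hv hxQ with h | h
  · exact Or.inl h
  · refine Or.inr ⟨q⁻¹ * v, Q.mul_mem (Q.inv_mem hqQ) hv, ?_, (mul_inv_cancel_left q v).symm⟩
    exact SemiconjBy.mul_left hq.inv_symm_left h

theorem cent_all {Q : Subgroup G} {z x q : G} (d : Data Q z) (hxQ : x ∈ Q) (hqQ : q ∈ Q)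
    (hq : SemiconjBy q x (z * x)) {c : G} (hR : ∀ r ∈ Q, SemiconjBy r x x → c * r = r * c)
    (hcq : c * q = q * c) : ∀ v ∈ Q, c * v = v * c := by
  intro v hv
  rcases cover d hxQ hqQ hq hv with h | ⟨r, hr, hrx, rfl⟩
  · exact hR v hv h
  · calc c * (q * r) = (c * q) * r := (mul_assoc _ _ _).symm
      _ = (q * c) * r := by rw [hcq]
      _ = q * (c * r) := mul_assoc _ _ _
      _ = q * (r * c) := by rw [hR r hr hrx]
      _ = q * r * c := (mul_assoc _ _ _).symm

theorem four_of_cases {Q : Subgroup G} {z x q : G} (d : Data Q z) (hxQ : x ∈ Q)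
    (hxx : x * x = 1) (hqQ : q ∈ Q) (hq : SemiconjBy q x (z * x))
    (hCQ : ∀ c : G, (∀ b ∈ Q, c * b = b * c) → c ∈ Q)
    {c : G} (hcz : c * z = z * c) (hR : ∀ r ∈ Q, SemiconjBy r x x → c * r = r * c)
    (hcq : SemiconjBy c q q ∨ SemiconjBy c q (z * q)) :
    c = 1 ∨ c = z ∨ c = x ∨ c = z * x := by
  have d' := d
  obtain ⟨hzQ, hz1, hzz, hcen, hcomm, hsqr, hrad⟩ := d'
  rcases hcq with h | h
  · have hall := cent_all d hxQ hqQ hq hR h.eq
    have hcQ : c ∈ Q := hCQ c hall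
    rcases hrad c hcQ (fun v hv => (hall v hv).symm) with h1 | h1
    · exact Or.inl h1
    · exact Or.inr (Or.inl h1)
  · have hR' : ∀ r ∈ Q, SemiconjBy r x x → (c * x) * r = r * (c * x) := by
      intro r hr hrx
      calc c * x * r = c * (x * r) := mul_assoc _ _ _
        _ = c * (r * x) := by rw [hrx.eq]
        _ = (c * r) * x := (mul_assoc _ _ _).symm
        _ = (r * c) * x := by rw [hR r hr hrx]
        _ = r * (c * x) := mul_assoc _ _ _
    have hxq : SemiconjBy x q (z * q) := by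
      show x * q = z * q * x
      have h1 : q * x = z * x * q := hq
      calc x * q = (z * z) * x * q := by rw [hzz, one_mul]
        _ = z * (z * x * q) := by group
        _ = z * (q * x) := by rw [h1]
        _ = z * q * x := (mul_assoc _ _ _).symm
    have hcq' : SemiconjBy (c * x) q q := by
      have hcz' : SemiconjBy c z z := hcz
      have h2 : SemiconjBy c (z * q) (z * (z * q)) := hcz'.mul_right h
      have e : z * (z * q) = q := by rw [← mul_assoc, hzz, one_mul]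
      rw [e] at h2
      exact SemiconjBy.mul_left h2 hxq
    have hall := cent_all d hxQ hqQ hq hR' hcq'.eq
    have hcQ : c * x ∈ Q := hCQ _ hall
    rcases hrad _ hcQ (fun v hv => (hall v hv).symm) with h1 | h1
    · refine Or.inr (Or.inr (Or.inl ?_))
      calc c = c * (x * x) := by rw [hxx, mul_one]
        _ = (c * x) * x := (mul_assoc _ _ _).symm
        _ = x := by rw [h1, one_mul]
    · refine Or.inr (Or.inr (Or.inr ?_))
      calc c = c * (x * x) := by rw [hxx, mul_one]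
        _ = (c * x) * x := (mul_assoc _ _ _).symm
        _ = z * x := by rw [h1]

theorem four_of_cent {Q : Subgroup G} {z x q : G} (d : Data Q z) (hxQ : x ∈ Q)
    (hxx : x * x = 1) (hqQ : q ∈ Q) (hq : SemiconjBy q x (z * x))
    (hCQ : ∀ c : G, (∀ b ∈ Q, c * b = b * c) → c ∈ Q)
    (hN : ∀ c : G, c * z = z * c → ∀ b ∈ Q, c * b * c⁻¹ ∈ Q)
    {c : G} (hcz : c * z = z * c) (hR : ∀ r ∈ Q, SemiconjBy r x x → c * r = r * c) :
    c = 1 ∨ c = z ∨ c = x ∨ c = z * x := by
  have d' := d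
  obtain ⟨hzQ, hz1, hzz, hcen, hcomm, hsqr, hrad⟩ := d'
  have hwQ : c * q * c⁻¹ * q⁻¹ ∈ Q := Q.mul_mem (hN c hcz q hqQ) (Q.inv_mem hqQ)
  have hwR : ∀ r ∈ Q, SemiconjBy r x x →
      (c * q * c⁻¹ * q⁻¹) * r = r * (c * q * c⁻¹ * q⁻¹) := by
    intro r hr hrx
    have hrc : SemiconjBy r c c := (hR r hr hrx).symm
    rcases sb_of_comm d hr hqQ with h | h
    · have h3 : SemiconjBy r (c * q * c⁻¹ * q⁻¹) (c * q * c⁻¹ * q⁻¹) :=
        ((hrc.mul_right h).mul_right hrc.inv_right).mul_right h.inv_right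
      exact h3.eq.symm
    · have h3 : SemiconjBy r (c * q * c⁻¹ * q⁻¹) (c * (z * q) * c⁻¹ * (z * q)⁻¹) :=
        ((hrc.mul_right h).mul_right hrc.inv_right).mul_right h.inv_right
      have e : c * (z * q) * c⁻¹ * (z * q)⁻¹ = c * q * c⁻¹ * q⁻¹ := by
        calc c * (z * q) * c⁻¹ * (z * q)⁻¹ = (c * z) * (q * c⁻¹ * q⁻¹) * z⁻¹ := by group
          _ = (z * c) * (q * c⁻¹ * q⁻¹) * z⁻¹ := by rw [hcz]
          _ = z * (c * q * c⁻¹ * q⁻¹) * z⁻¹ := by group
          _ = (c * q * c⁻¹ * q⁻¹) * z * z⁻¹ := by rw [hcen _ hwQ]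
          _ = c * q * c⁻¹ * q⁻¹ := mul_inv_cancel_right _ _
      rw [e] at h3
      exact h3.eq.symm
  have hw4 := four_of_cases d hxQ hxx hqQ hq hCQ (hcen _ hwQ) hwR (sb_of_comm d hwQ hqQ)
  have hsq : c * (q * q) * c⁻¹ = q * q := by
    rcases hsqr q hqQ with h | h
    · rw [h, mul_one, mul_inv_cancel]
    · rw [h, hcz, mul_inv_cancel_right]
  have hwq : (c * q * c⁻¹ * q⁻¹ * q) * (c * q * c⁻¹ * q⁻¹ * q) = q * q := by
    calc (c * q * c⁻¹ * q⁻¹ * q) * (c * q * c⁻¹ * q⁻¹ * q) = c * (q * q) * c⁻¹ := by group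
      _ = q * q := hsq
  have hxqxq : (x * q) * (x * q) = z * (q * q) := by
    have h1 : q * x = z * x * q := hq
    have hzx : x * z = z * x := hcen x hxQ
    calc (x * q) * (x * q) = x * (q * x) * q := by group
      _ = x * (z * x * q) * q := by rw [h1]
      _ = (x * z) * x * (q * q) := by group
      _ = (z * x) * x * (q * q) := by rw [hzx]
      _ = z * (x * x) * (q * q) := by group
      _ = z * (q * q) := by rw [hxx, mul_one]
  have hbad : (x * q) * (x * q) ≠ q * q := by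
    intro h
    rw [hxqxq] at h
    have h5 : z * (q * q) = 1 * (q * q) := by rw [one_mul]; exact h
    exact hz1 (mul_right_cancel h5)
  rcases hw4 with h | h | h | h
  · have h1 : c * q = q * c := (comm_eq_one_iff c q).mp h
    exact four_of_cases d hxQ hxx hqQ hq hCQ hcz hR (Or.inl h1)
  · have h1 : SemiconjBy c q (z * q) := by
      show c * q = z * q * c
      calc c * q = (c * q * c⁻¹ * q⁻¹) * q * c := by group
        _ = z * q * c := by rw [h]
    exact four_of_cases d hxQ hxx hqQ hq hCQ hcz hR (Or.inr h1)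
  · exfalso
    rw [h] at hwq
    exact hbad hwq
  · exfalso
    rw [h] at hwq
    have hzxq : (x * q) * z = z * (x * q) := hcen _ (Q.mul_mem hxQ hqQ)
    have h6 : (z * x * q) * (z * x * q) = (x * q) * (x * q) := by
      calc (z * x * q) * (z * x * q) = z * ((x * q) * z) * (x * q) := by group
        _ = z * (z * (x * q)) * (x * q) := by rw [hzxq]
        _ = (z * z) * ((x * q) * (x * q)) := by group
        _ = (x * q) * (x * q) := by rw [hzz, one_mul]
    rw [h6] at hwq
    exact hbad hwq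

/-- **Key lemma** (orthogonality of singular involutions is symmetric). -/
theorem key [Finite G] {Q : Subgroup G} {z : G} (d : Data Q z) (hQ2 : IsPGroup 2 Q)
    (hCQ : ∀ c : G, (∀ b ∈ Q, c * b = b * c) → c ∈ Q)
    (hN : ∀ c : G, c * z = z * c → ∀ b ∈ Q, c * b * c⁻¹ ∈ Q)
    (g : G) (hx : g * z * g⁻¹ ∈ Q) : g⁻¹ * z * g ∈ Q := by
  have d' := d
  obtain ⟨hzQ, hz1, hzz, hcen, hcomm, hsqr, hrad⟩ := d'
  by_cases hxz : g * z * g⁻¹ = z
  · have e : g⁻¹ * z * g = z := by
      calc g⁻¹ * z * g = g⁻¹ * (g * z * g⁻¹) * g := by rw [hxz]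
        _ = z := by group
    rw [e]; exact hzQ
  obtain ⟨x, hxdef⟩ : ∃ x, x = g * z * g⁻¹ := ⟨_, rfl⟩
  rw [← hxdef] at hx hxz
  have hgzx : SemiconjBy g z x := by rw [hxdef]; exact SemiconjBy.conj_mk g z
  have hxx : x * x = 1 := by
    rw [hxdef]
    calc g * z * g⁻¹ * (g * z * g⁻¹) = g * (z * z) * g⁻¹ := by group
      _ = 1 := by rw [hzz, mul_one, mul_inv_cancel]
  have hx1 : x ≠ 1 := by
    intro h
    rw [h] at hgzx
    have h1 : g * z = 1 * g := hgzx.eq
    rw [one_mul] at h1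
    exact hz1 (mul_left_cancel (h1.trans (mul_one g).symm))
  obtain ⟨q, hqQ, hq⟩ : ∃ q ∈ Q, SemiconjBy q x (z * x) := by
    by_contra hcon
    push Not at hcon
    have h1 : x = 1 ∨ x = z := by
      apply hrad x hx
      intro v hv
      rcases sb_of_comm d hv hx with h | h
      · exact h
      · exact absurd h (hcon v hv)
    rcases h1 with h | h
    · exact hx1 h
    · exact hxz h
  have hR2 : IsPGroup 2 (Q ⊓ cen x : Subgroup G) := hQ2.to_le inf_le_left
  have hRCE : Q ⊓ cen x ≤ cen z ⊓ cen x := by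
    intro r hr
    exact Subgroup.mem_inf.mpr
      ⟨mem_cen.mpr (hcen r (Subgroup.mem_inf.mp hr).1), (Subgroup.mem_inf.mp hr).2⟩
  obtain ⟨S, hRS, hSmax⟩ := Finite.exists_le_maximal
    (p := fun S : Subgroup G => IsPGroup 2 S ∧ S ≤ cen z ⊓ cen x) (a := Q ⊓ cen x) ⟨hR2, hRCE⟩
  have hS2 : IsPGroup 2 S := hSmax.1.1
  have hSCE : S ≤ cen z ⊓ cen x := hSmax.1.2
  obtain ⟨Qx, hQxdef⟩ : ∃ Qx : Subgroup G, Qx = Q.comap (MulAut.conj g⁻¹).toMonoidHom :=
    ⟨_, rfl⟩
  have hmemQx : ∀ a : G, a ∈ Qx ↔ g⁻¹ * a * g ∈ Q := by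
    intro a
    rw [hQxdef, Subgroup.mem_comap]
    show (MulAut.conj g⁻¹) a ∈ Q ↔ _
    rw [MulAut.conj_apply, inv_inv]
  have hQx2 : IsPGroup 2 Qx := by
    rw [hQxdef]
    exact hQ2.comap_of_injective _ (MulAut.conj g⁻¹).injective
  have hNx : ∀ s : G, s * x = x * s → ∀ a ∈ Qx, s * a * s⁻¹ ∈ Qx := by
    intro s hs a ha
    rw [hmemQx] at ha ⊢
    have hs' : SemiconjBy s x x := hs
    have h1 : SemiconjBy (g⁻¹ * s * g) z z :=
      SemiconjBy.mul_left (SemiconjBy.mul_left hgzx.inv_symm_left hs') hgzx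
    have h2 := hN _ h1.eq _ ha
    have e : g⁻¹ * s * g * (g⁻¹ * a * g) * (g⁻¹ * s * g)⁻¹ = g⁻¹ * (s * a * s⁻¹) * g := by
      group
    rw [e] at h2
    exact h2
  have hSN : S ≤ Subgroup.normalizer (Qx : Set G) := by
    intro s hs
    have hsx : s * x = x * s := (Subgroup.mem_inf.mp (hSCE hs)).2
    exact mem_normalizer_of_conj (hNx s hsx)
  have hT2 : IsPGroup 2 (S ⊔ Qx : Subgroup G) := IsPGroup.to_sup_of_normal_right' hS2 hQx2 hSN
  by_cases hQS : Qx ≤ S
  · apply hCQ
    intro b hb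
    have h1 : g * b * g⁻¹ ∈ Qx := by
      rw [hmemQx]
      have e : g⁻¹ * (g * b * g⁻¹) * g = b := by group
      rw [e]; exact hb
    have h2 : (g * b * g⁻¹) * z = z * (g * b * g⁻¹) := (Subgroup.mem_inf.mp (hSCE (hQS h1))).1
    calc g⁻¹ * z * g * b = g⁻¹ * (z * (g * b * g⁻¹)) * g := by group
      _ = g⁻¹ * ((g * b * g⁻¹) * z) * g := by rw [h2]
      _ = b * (g⁻¹ * z * g) := by group
  have hlt : S < S ⊔ Qx :=
    lt_of_le_of_ne le_sup_left (fun h => hQS (le_sup_right.trans h.ge))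
  obtain ⟨t, htT, htS, htn, htn'⟩ := exists_normalizing S (S ⊔ Qx) hT2 hlt
  have hTx : S ⊔ Qx ≤ cen x := by
    apply sup_le
    · exact fun s hs => (Subgroup.mem_inf.mp (hSCE hs)).2
    · intro a ha
      rw [hmemQx] at ha
      have h1 : SemiconjBy (g⁻¹ * a * g) z z := hcen _ ha
      have h2 : SemiconjBy (g * (g⁻¹ * a * g) * g⁻¹) x x :=
        SemiconjBy.mul_left (SemiconjBy.mul_left hgzx h1) hgzx.inv_symm_left
      have e : g * (g⁻¹ * a * g) * g⁻¹ = a := by group
      rw [e] at h2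
      exact h2.eq
  have htx : SemiconjBy t x x := hTx htT
  have hzS : z ∈ S := hRS (Subgroup.mem_inf.mpr ⟨hzQ, mem_cen.mpr (hcen x hx).symm⟩)
  have hcS : t * z * t⁻¹ ∈ S := htn z hzS
  have hcz : (t * z * t⁻¹) * z = z * (t * z * t⁻¹) := (Subgroup.mem_inf.mp (hSCE hcS)).1
  have hcR : ∀ r ∈ Q, SemiconjBy r x x → (t * z * t⁻¹) * r = r * (t * z * t⁻¹) := by
    intro r hr hrx
    have hrS : r ∈ S := hRS (Subgroup.mem_inf.mpr ⟨hr, mem_cen.mpr hrx.eq⟩)
    have h1 : (t⁻¹ * r * t) * z = z * (t⁻¹ * r * t) :=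
      (Subgroup.mem_inf.mp (hSCE (htn' r hrS))).1
    calc t * z * t⁻¹ * r = t * (z * (t⁻¹ * r * t)) * t⁻¹ := by group
      _ = t * ((t⁻¹ * r * t) * z) * t⁻¹ := by rw [h1]
      _ = r * (t * z * t⁻¹) := by group
  rcases four_of_cent d hx hxx hqQ hq hCQ hN hcz hcR with h | h | h | h
  · exfalso; apply hz1
    calc z = t⁻¹ * (t * z * t⁻¹) * t := by group
      _ = 1 := by rw [h, mul_one, inv_mul_cancel]
  · exfalso
    have htz : t * z = z * t := by
      calc t * z = (t * z * t⁻¹) * t := by group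
        _ = z * t := by rw [h]
    have hle : S ⊔ Subgroup.zpowers t ≤ S := by
      apply hSmax.2 (y := S ⊔ Subgroup.zpowers t) ⟨?_, ?_⟩ le_sup_left
      · exact hT2.to_le (sup_le le_sup_left ((Subgroup.zpowers_le).mpr htT))
      · exact sup_le hSCE ((Subgroup.zpowers_le).mpr
          (Subgroup.mem_inf.mpr ⟨mem_cen.mpr htz, mem_cen.mpr htx.eq⟩))
    exact htS (hle (Subgroup.mem_sup_right (Subgroup.mem_zpowers t)))
  · exfalso; apply hxz
    have h1 : SemiconjBy t z x := by rw [← h]; exact SemiconjBy.conj_mk t z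
    exact mul_left_cancel (htx.eq.trans h1.eq.symm)
  · have htz : SemiconjBy t z (z * x) := by rw [← h]; exact SemiconjBy.conj_mk t z
    have hqz : SemiconjBy q z z := hcen q hqQ
    have h1 : SemiconjBy q (z * x) x := by
      have h2 : SemiconjBy q (z * x) (z * (z * x)) := hqz.mul_right hq
      have e : z * (z * x) = x := by rw [← mul_assoc, hzz, one_mul]
      rw [e] at h2
      exact h2
    have hhz : SemiconjBy (q * t) z x := SemiconjBy.mul_left h1 htz
    have hhx : SemiconjBy (q * t) x (z * x) := SemiconjBy.mul_left hq htx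
    have hiz : SemiconjBy (q * t)⁻¹ z (x * z) := by
      have h3 : SemiconjBy (q * t)⁻¹ ((z * x) * x) (x * z) :=
        hhx.inv_symm_left.mul_right hhz.inv_symm_left
      have e : (z * x) * x = z := by rw [mul_assoc, hxx, mul_one]
      rw [e] at h3
      exact h3
    have hkz : SemiconjBy (g⁻¹ * (q * t)) z z := SemiconjBy.mul_left hgzx.inv_symm_left hhz
    have h4 := hN _ hkz.eq (x * z) (Q.mul_mem hx hzQ)
    have e : g⁻¹ * (q * t) * (x * z) * (g⁻¹ * (q * t))⁻¹ = g⁻¹ * z * g := by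
      have h5 : (q * t)⁻¹ * z = x * z * (q * t)⁻¹ := hiz.eq
      have h6 : x * z = (q * t)⁻¹ * z * (q * t) := by
        rw [h5, inv_mul_cancel_right]
      rw [h6]; group
    rw [e] at h4
    exact h4

/-- In the situation of `key`, `z` lies in `O_2(C_G(g z g⁻¹))`. -/
theorem key_pCore [Finite G] {Q : Subgroup G} {z : G} (d : Data Q z) (hQ2 : IsPGroup 2 Q)
    (hCQ : ∀ c : G, (∀ b ∈ Q, c * b = b * c) → c ∈ Q)
    (hN : ∀ c : G, c * z = z * c → ∀ b ∈ Q, c * b * c⁻¹ ∈ Q)
    (g : G) (hx : g * z * g⁻¹ ∈ Q) :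
    z ∈ (Cfsg.pCore 2 ↥(Subgroup.centralizer ({g * z * g⁻¹} : Set G))).map
      (Subgroup.centralizer ({g * z * g⁻¹} : Set G)).subtype := by
  have hkey := key d hQ2 hCQ hN g hx
  obtain ⟨hzQ, hz1, hzz, hcen, hcomm, hsqr, hrad⟩ := d
  obtain ⟨x, hxdef⟩ : ∃ x, x = g * z * g⁻¹ := ⟨_, rfl⟩
  rw [← hxdef] at hx ⊢
  have hgzx : SemiconjBy g z x := by rw [hxdef]; exact SemiconjBy.conj_mk g z
  obtain ⟨Qx, hQxdef⟩ : ∃ Qx : Subgroup G, Qx = Q.comap (MulAut.conj g⁻¹).toMonoidHom :=
    ⟨_, rfl⟩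
  have hmemQx : ∀ a : G, a ∈ Qx ↔ g⁻¹ * a * g ∈ Q := by
    intro a
    rw [hQxdef, Subgroup.mem_comap]
    show (MulAut.conj g⁻¹) a ∈ Q ↔ _
    rw [MulAut.conj_apply, inv_inv]
  have hQx2 : IsPGroup 2 Qx := by
    rw [hQxdef]
    exact hQ2.comap_of_injective _ (MulAut.conj g⁻¹).injective
  have hNx : ∀ s : G, s * x = x * s → ∀ a ∈ Qx, s * a * s⁻¹ ∈ Qx := by
    intro s hs a ha
    rw [hmemQx] at ha ⊢
    have hs' : SemiconjBy s x x := hs
    have h1 : SemiconjBy (g⁻¹ * s * g) z z :=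
      SemiconjBy.mul_left (SemiconjBy.mul_left hgzx.inv_symm_left hs') hgzx
    have h2 := hN _ h1.eq _ ha
    have e : g⁻¹ * s * g * (g⁻¹ * a * g) * (g⁻¹ * s * g)⁻¹ = g⁻¹ * (s * a * s⁻¹) * g := by
      group
    rw [e] at h2
    exact h2
  have hzQx : z ∈ Qx := (hmemQx z).mpr hkey
  have hzC : z ∈ Subgroup.centralizer ({x} : Set G) := by
    rw [Subgroup.mem_centralizer_iff]
    intro y hy
    rw [Set.mem_singleton_iff] at hy
    rw [hy]
    exact hcen x hx
  have hnorm : (Qx.subgroupOf (Subgroup.centralizer ({x} : Set G))).Normal := by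
    constructor
    intro a ha c
    rw [Subgroup.mem_subgroupOf] at ha ⊢
    have hc : (c : G) * x = x * (c : G) :=
      (Subgroup.mem_centralizer_iff.mp c.2 x (Set.mem_singleton x)).symm
    exact hNx c hc a ha
  have h2 : IsPGroup 2 (Qx.subgroupOf (Subgroup.centralizer ({x} : Set G))) :=
    hQx2.comap_of_injective _ (Subgroup.subtype_injective _)
  have hle : Qx.subgroupOf (Subgroup.centralizer ({x} : Set G)) ≤
      Cfsg.pCore 2 ↥(Subgroup.centralizer ({x} : Set G)) :=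
    le_sSup ⟨hnorm, h2⟩
  exact Subgroup.mem_map.mpr ⟨⟨z, hzC⟩, hle (Subgroup.mem_subgroupOf.mpr hzQx), rfl⟩

/-- A non-central element of an extraspecial 2-subgroup is moved by some element. -/
theorem exists_moving {Q : Subgroup G} {z : G} (d : Data Q z) {x : G} (hx : x ∈ Q)
    (hx1 : x ≠ 1) (hxz : x ≠ z) : ∃ q ∈ Q, SemiconjBy q x (z * x) := by
  have d' := d
  obtain ⟨hzQ, hz1, hzz, hcen, hcomm, hsqr, hrad⟩ := d'
  by_contra hcon
  push Not at hcon
  have h1 : x = 1 ∨ x = z := by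
    apply hrad x hx
    intro v hv
    rcases sb_of_comm d hv hx with h | h
    · exact h
    · exact absurd h (hcon v hv)
  rcases h1 with h | h
  · exact hx1 h
  · exact hxz h

/-- The four-group `{1, z, x, zx}` on commuting involutions. -/
def four (z x : G) (hzz : z * z = 1) (hxx : x * x = 1) (hc : x * z = z * x) : Subgroup G where
  carrier := {v | v = 1 ∨ v = z ∨ v = x ∨ v = z * x}
  mul_mem' := by
    have hzz' : ∀ a : G, z * (z * a) = a := fun a => by rw [← mul_assoc, hzz, one_mul]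
    have hc' : ∀ a : G, x * (z * a) = z * (x * a) := fun a => by
      rw [← mul_assoc, hc, mul_assoc]
    rintro a b (rfl | rfl | rfl | rfl) (rfl | rfl | rfl | rfl) <;>
      simp only [Set.mem_setOf_eq, mul_assoc, hzz, hxx, hc, hzz', hc', mul_one, one_mul] <;>
      simp
  one_mem' := Or.inl rfl
  inv_mem' := by
    have hzi : z⁻¹ = z := inv_eq_of_mul_eq_one_left hzz
    have hxi : x⁻¹ = x := inv_eq_of_mul_eq_one_left hxx
    rintro a (rfl | rfl | rfl | rfl)
    · simp
    · rw [hzi]; simp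
    · rw [hxi]; simp
    · simp only [Set.mem_setOf_eq, mul_inv_rev, hzi, hxi, hc]; simp

theorem mem_four {z x : G} {hzz : z * z = 1} {hxx : x * x = 1} {hc : x * z = z * x} {v : G} :
    v ∈ four z x hzz hxx hc ↔ v = 1 ∨ v = z ∨ v = x ∨ v = z * x := Iff.rfl

/-- Ordered pairs (a private copy of the product type, so that only one action is in sight). -/
structure Pr (G : Type*) where
  fst : G
  snd : G

/-- Simultaneous conjugation of pairs by the elements of a subgroup. -/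
@[reducible] def pairAct (N : Subgroup G) : MulAction ↥N (Pr G) where
  smul n p := ⟨(n : G) * p.fst * (n : G)⁻¹, (n : G) * p.snd * (n : G)⁻¹⟩
  one_smul p := by
    show (⟨(1 : G) * p.fst * (1 : G)⁻¹, (1 : G) * p.snd * (1 : G)⁻¹⟩ : Pr G) = p
    cases p; simp
  mul_smul a b p := by
    show (⟨((a : G) * (b : G)) * p.fst * ((a : G) * (b : G))⁻¹,
        ((a : G) * (b : G)) * p.snd * ((a : G) * (b : G))⁻¹⟩ : Pr G) =
      ⟨(a : G) * ((b : G) * p.fst * (b : G)⁻¹) * (a : G)⁻¹,
        (a : G) * ((b : G) * p.snd * (b : G)⁻¹) * (a : G)⁻¹⟩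
    simp [mul_assoc]

/-- If `V = ⟨z, x⟩` is a four-group, `q` induces the transposition `(x, zx)` and `q'` the
transposition `(z, zx)` on it, then `|N(V) : C(V)| = 6`. -/
theorem index6 [Finite G] {z x : G} (hzz : z * z = 1) (hxx : x * x = 1) (hc : x * z = z * x)
    (hz1 : z ≠ 1) (hx1 : x ≠ 1) (hxz : x ≠ z)
    (V : Subgroup G) (hzV : z ∈ V) (hxV : x ∈ V)
    (hVle : ∀ A : Subgroup G, z ∈ A → x ∈ A → V ≤ A)
    {q q' : G} (hq1 : SemiconjBy q z z) (hq2 : SemiconjBy q x (z * x))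
    (hq1' : SemiconjBy q' x x) (hq2' : SemiconjBy q' z (z * x)) :
    (Subgroup.centralizer (V : Set G)).relIndex (Subgroup.normalizer (V : Set G)) = 6 := by
  classical
  have hVel : ∀ v ∈ V, v = 1 ∨ v = z ∨ v = x ∨ v = z * x := by
    intro v hv
    exact mem_four.mp (hVle (four z x hzz hxx hc) (mem_four.mpr (Or.inr (Or.inl rfl)))
      (mem_four.mpr (Or.inr (Or.inr (Or.inl rfl)))) hv)
  have hnorm : ∀ n a b : G, SemiconjBy n z a → SemiconjBy n x b → a ∈ V → b ∈ V →
      n ∈ Subgroup.normalizer (V : Set G) := by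
    intro n a b ha hb haV hbV
    apply mem_normalizer_of_conj
    intro v hv
    have hle : V ≤ V.comap (MulAut.conj n).toMonoidHom := by
      apply hVle
      · rw [Subgroup.mem_comap]
        show (MulAut.conj n) z ∈ V
        rw [MulAut.conj_apply, ha.eq, mul_inv_cancel_right]
        exact haV
      · rw [Subgroup.mem_comap]
        show (MulAut.conj n) x ∈ V
        rw [MulAut.conj_apply, hb.eq, mul_inv_cancel_right]
        exact hbV
    have h1 := hle hv
    rw [Subgroup.mem_comap] at h1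
    exact h1
  have hzxV : z * x ∈ V := V.mul_mem hzV hxV
  have hqN : q ∈ Subgroup.normalizer (V : Set G) := hnorm q z (z * x) hq1 hq2 hzV hzxV
  have hqN' : q' ∈ Subgroup.normalizer (V : Set G) := hnorm q' (z * x) x hq2' hq1' hzxV hxV
  have hq3 : SemiconjBy q (z * x) x := by
    have h2 : SemiconjBy q (z * x) (z * (z * x)) := hq1.mul_right hq2
    have e : z * (z * x) = x := by rw [← mul_assoc, hzz, one_mul]
    rw [e] at h2
    exact h2
  have hq3' : SemiconjBy q' (z * x) z := by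
    have h2 : SemiconjBy q' (z * x) ((z * x) * x) := hq2'.mul_right hq1'
    have e : (z * x) * x = z := by rw [mul_assoc, hxx, mul_one]
    rw [e] at h2
    exact h2
  letI : MulAction ↥(Subgroup.normalizer (V : Set G)) (Pr G) := pairAct _
  have hsmul : ∀ (n : ↥(Subgroup.normalizer (V : Set G))) (p : Pr G),
      n • p = ⟨(n : G) * p.fst * (n : G)⁻¹, (n : G) * p.snd * (n : G)⁻¹⟩ := fun _ _ => rfl
  have hstab : MulAction.stabilizer ↥(Subgroup.normalizer (V : Set G)) (⟨z, x⟩ : Pr G) =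
      (Subgroup.centralizer (V : Set G)).subgroupOf (Subgroup.normalizer (V : Set G)) := by
    ext n
    rw [MulAction.mem_stabilizer_iff, hsmul, Subgroup.mem_subgroupOf, Pr.mk.injEq]
    constructor
    · rintro ⟨h1, h2⟩
      have h1' : (n : G) * z * (n : G)⁻¹ = z := h1
      have h2' : (n : G) * x * (n : G)⁻¹ = x := h2
      have hle : V ≤ cen (n : G) := by
        apply hVle
        · rw [mem_cen]
          calc z * (n : G) = ((n : G) * z * (n : G)⁻¹) * (n : G) := by rw [h1']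
            _ = (n : G) * z := by group
        · rw [mem_cen]
          calc x * (n : G) = ((n : G) * x * (n : G)⁻¹) * (n : G) := by rw [h2']
            _ = (n : G) * x := by group
      rw [Subgroup.mem_centralizer_iff]
      intro v hv
      exact mem_cen.mp (hle hv)
    · intro h
      rw [Subgroup.mem_centralizer_iff] at h
      have h1 : z * (n : G) = (n : G) * z := h z hzV
      have h2 : x * (n : G) = (n : G) * x := h x hxV
      constructor
      · show (n : G) * z * (n : G)⁻¹ = z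
        rw [← h1, mul_inv_cancel_right]
      · show (n : G) * x * (n : G)⁻¹ = x
        rw [← h2, mul_inv_cancel_right]
  have h0 : (⟨z, x⟩ : Pr G) ∈
      MulAction.orbit ↥(Subgroup.normalizer (V : Set G)) (⟨z, x⟩ : Pr G) :=
    MulAction.mem_orbit_self _
  have hstep : ∀ (n : G) (hn : n ∈ Subgroup.normalizer (V : Set G)) (a b a' b' : G),
      SemiconjBy n a a' → SemiconjBy n b b' →
      (⟨a, b⟩ : Pr G) ∈ MulAction.orbit ↥(Subgroup.normalizer (V : Set G)) (⟨z, x⟩ : Pr G) →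
      (⟨a', b'⟩ : Pr G) ∈
        MulAction.orbit ↥(Subgroup.normalizer (V : Set G)) (⟨z, x⟩ : Pr G) := by
    intro n hn a b a' b' ha hb hm
    have h1 := MulAction.mem_orbit_of_mem_orbit
      (⟨n, hn⟩ : ↥(Subgroup.normalizer (V : Set G))) hm
    rw [hsmul] at h1
    have e1 : n * a * n⁻¹ = a' := by rw [ha.eq, mul_inv_cancel_right]
    have e2 : n * b * n⁻¹ = b' := by rw [hb.eq, mul_inv_cancel_right]
    rw [← e1, ← e2]
    exact h1
  have h1 := hstep q hqN _ _ _ _ hq1 hq2 h0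
  have h2 := hstep q' hqN' _ _ _ _ hq2' hq3' h1
  have h3 := hstep q hqN _ _ _ _ hq3 hq1 h2
  have h4 := hstep q' hqN' _ _ _ _ hq1' hq2' h3
  have h5 := hstep q hqN _ _ _ _ hq2 hq3 h4
  have hzxz : z * x ≠ z := fun h => hx1 (mul_left_cancel (h.trans (mul_one z).symm))
  have hzxx : z * x ≠ x := fun h => hz1 (mul_right_cancel (h.trans (one_mul x).symm))
  have hzx' : z ≠ x := fun h => hxz h.symm
  have horb : MulAction.orbit ↥(Subgroup.normalizer (V : Set G)) (⟨z, x⟩ : Pr G) =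
      ({⟨z, x⟩, ⟨z, z * x⟩, ⟨z * x, z⟩, ⟨x, z⟩, ⟨x, z * x⟩, ⟨z * x, x⟩} : Set (Pr G)) := by
    apply Set.Subset.antisymm
    · intro p hp
      obtain ⟨n, hn⟩ := MulAction.mem_orbit_iff.mp hp
      rw [← hn, hsmul]
      have ha : (n : G) * z * (n : G)⁻¹ ∈ V := (Subgroup.mem_normalizer_iff.mp n.2 z).mp hzV
      have hb : (n : G) * x * (n : G)⁻¹ ∈ V := (Subgroup.mem_normalizer_iff.mp n.2 x).mp hxV
      have ha1 : (n : G) * z * (n : G)⁻¹ ≠ 1 := by
        intro h
        apply hz1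
        calc z = (n : G)⁻¹ * ((n : G) * z * (n : G)⁻¹) * (n : G) := by group
          _ = 1 := by rw [h, mul_one, inv_mul_cancel]
      have hb1 : (n : G) * x * (n : G)⁻¹ ≠ 1 := by
        intro h
        apply hx1
        calc x = (n : G)⁻¹ * ((n : G) * x * (n : G)⁻¹) * (n : G) := by group
          _ = 1 := by rw [h, mul_one, inv_mul_cancel]
      have hab : (n : G) * z * (n : G)⁻¹ ≠ (n : G) * x * (n : G)⁻¹ := by
        intro h
        exact hxz (mul_left_cancel (mul_right_cancel h)).symm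
      rcases hVel _ ha with e | e | e | e <;> rcases hVel _ hb with e' | e' | e' | e'
      all_goals first
        | exact absurd e ha1
        | exact absurd e' hb1
        | exact absurd (e.trans e'.symm) hab
        | (show (⟨(n : G) * z * (n : G)⁻¹, (n : G) * x * (n : G)⁻¹⟩ : Pr G) ∈ _
           rw [e, e']; simp)
    · intro p hp
      simp only [Set.mem_insert_iff, Set.mem_singleton_iff] at hp
      rcases hp with rfl | rfl | rfl | rfl | rfl | rfl
      exacts [h0, h1, h2, h3, h4, h5]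
  have hfin : ({⟨z, x⟩, ⟨z, z * x⟩, ⟨z * x, z⟩, ⟨x, z⟩, ⟨x, z * x⟩, ⟨z * x, x⟩} : Set (Pr G)) =
      ((({⟨z, x⟩, ⟨z, z * x⟩, ⟨z * x, z⟩, ⟨x, z⟩, ⟨x, z * x⟩, ⟨z * x, x⟩} : Finset (Pr G)) :
        Set (Pr G))) := by
    simp
  rw [Subgroup.relIndex, ← hstab, MulAction.index_stabilizer, horb, hfin, Set.ncard_coe_finset,
    Finset.card_insert_of_notMem, Finset.card_insert_of_notMem, Finset.card_insert_of_notMem,
    Finset.card_insert_of_notMem, Finset.card_pair]
  all_goals simp [hxz, hzx', hzxz, hzxx, hzxz.symm, hzxx.symm]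

end Cfsg.Agent.Helper26.LargeXS
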