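import Mathlib
import Cfsg.Prelude.Def_FusionSystem
import Cfsg.Prelude.Def_Transfer
import Cfsg.Agent.Helper16.QuatExt
import Cfsg.Agent.Helper26.OrderP4
import Cfsg.Agent.Helper26.Homocyclic

set_option autoImplicit false

namespace Cfsg.Agent.Helper26

open Cfsg
open scoped commutatorElement

section OrderP4b

variable {G : Type*} [Group G]

theorem p4_mul_central_aux {m₁ m₂ u v : G} (h : m₂ * u = u * m₂) :
    m₁ * m₂ * (u * v) = (m₁ * u) * (m₂ * v) := by
  calc m₁ * m₂ * (u * v) = m₁ * (m₂ * u) * v := by group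
    _ = m₁ * (u * m₂) * v := by rw [h]
    _ = _ := by group

/-- splitting off a central factor of order `p`. -/
theorem p4_split [Finite G] {p : ℕ} [Fact p.Prime] (hcard : Nat.card G = p ^ 4)
    (hnc : ¬ ∀ a b : G, a * b = b * a) (hZ : Nat.card (Subgroup.center G) = p ^ 2)
    (c : G) (hcZ : c ∈ Subgroup.center G) (hcF : c ∈ frattini G)
    (hKcard : Nat.card (Subgroup.zpowers c) = p)
    (hK : ∀ a b : G, a * b * a⁻¹ * b⁻¹ ∈ Subgroup.zpowers c)
    (hpK : ∀ g : G, g ^ p ∈ Subgroup.zpowers c)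
    (hZp : ∀ z ∈ Subgroup.center G, z ^ p = 1) :
    ∃ M : Subgroup G, Nat.card M = p ^ 3 ∧ (¬ ∀ a b : ↥M, a * b = b * a) ∧ c ∈ M ∧
      (∀ t ∈ M, t ∈ Subgroup.center G → t ∈ Subgroup.zpowers c) ∧
      Nonempty (↥M × Multiplicative (ZMod p) ≃* G) := by
  classical
  have hpp : p.Prime := Fact.out
  haveI : Fact (1 < p) := ⟨hpp.one_lt⟩
  haveI : NeZero p := ⟨hpp.ne_zero⟩
  have hKZ : Subgroup.zpowers c ≤ Subgroup.center G := by
    rw [Subgroup.zpowers_le]; exact hcZ
  have hplt : p < p ^ 2 := by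
    calc p = p ^ 1 := (pow_one p).symm
      _ < p ^ 2 := Nat.pow_lt_pow_right hpp.one_lt (by norm_num)
  obtain ⟨z₁, hz₁Z, hz₁K⟩ : ∃ z₁ ∈ Subgroup.center G, z₁ ∉ Subgroup.zpowers c := by
    by_contra hall
    push Not at hall
    have hle : Subgroup.center G ≤ Subgroup.zpowers c := hall
    have := Subgroup.card_le_of_le hle
    rw [hZ, hKcard] at this
    omega
  have hz₁p : z₁ ^ p = 1 := hZp z₁ hz₁Z
  haveI hKn : (Subgroup.zpowers c).Normal := ⟨fun n hn g => by
    have h := Subgroup.mem_center_iff.mp (hKZ hn) g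
    rw [h, mul_inv_cancel_right]; exact hn⟩
  have hFK : frattini G ≤ Subgroup.zpowers c := by
    have h := Cfsg.Agent.Helper14.frattini_le_ker_of_elementary (p := p)
      (QuotientGroup.mk' (Subgroup.zpowers c))
      (fun a b => by
        rw [← map_mul, ← map_mul]
        show ((a * b : G) : G ⧸ Subgroup.zpowers c) = ((b * a : G) : G ⧸ Subgroup.zpowers c)
        rw [QuotientGroup.eq]
        have h1 := hK b⁻¹ a⁻¹
        have e : (a * b)⁻¹ * (b * a) = b⁻¹ * a⁻¹ * b⁻¹⁻¹ * a⁻¹⁻¹ := by group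
        rw [e]; exact h1)
      (fun a => by
        rw [← map_pow]
        exact (QuotientGroup.eq_one_iff _).mpr (hpK a))
    rwa [QuotientGroup.ker_mk'] at h
  have hz₁F : z₁ ∉ frattini G := fun h => hz₁K (hFK h)
  simp only [frattini, Order.radical, Subgroup.mem_iInf] at hz₁F
  push Not at hz₁F
  obtain ⟨M, hM, hz₁M⟩ := hz₁F
  have hM' : IsCoatom M := hM
  have hcM : c ∈ M := by
    have h := hcF
    simp only [frattini, Order.radical, Subgroup.mem_iInf] at h
    exact h M hM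
  let ψ : ↥M × Multiplicative (ZMod p) →* G :=
    { toFun := fun t => (t.1 : G) * z₁ ^ (Multiplicative.toAdd t.2).val
      map_one' := by
        show ((1 : ↥M) : G) * z₁ ^ ((0 : ZMod p)).val = 1
        rw [ZMod.val_zero, pow_zero, mul_one, Subgroup.coe_one]
      map_mul' := fun s t => by
        show ((s.1 * t.1 : ↥M) : G) *
            z₁ ^ (Multiplicative.toAdd s.2 + Multiplicative.toAdd t.2).val =
          ((s.1 : G) * z₁ ^ (Multiplicative.toAdd s.2).val) *
            ((t.1 : G) * z₁ ^ (Multiplicative.toAdd t.2).val)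
        rw [ZMod.val_add, p4_pow_mod hz₁p, pow_add, Subgroup.coe_mul]
        exact p4_mul_central_aux
          (Subgroup.mem_center_iff.mp (Subgroup.pow_mem _ hz₁Z _) (t.1 : G)) }
  have hψ : ∀ t, ψ t = (t.1 : G) * z₁ ^ (Multiplicative.toAdd t.2).val := fun t => rfl
  have hinj : Function.Injective ψ := by
    rw [injective_iff_map_eq_one]
    intro t ht
    rw [hψ] at ht
    have hzM : z₁ ^ (Multiplicative.toAdd t.2).val ∈ M := by
      have h1 : z₁ ^ (Multiplicative.toAdd t.2).val = ((t.1⁻¹ : ↥M) : G) := by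
        rw [Subgroup.coe_inv]; exact eq_inv_of_mul_eq_one_right ht
      rw [h1]; exact SetLike.coe_mem _
    have hk0 : (Multiplicative.toAdd t.2).val = 0 := by
      by_contra hne
      apply hz₁M
      have hlt : (Multiplicative.toAdd t.2).val < p := ZMod.val_lt _
      have hcop : Nat.Coprime (Multiplicative.toAdd t.2).val p :=
        Nat.Coprime.symm ((Nat.Prime.coprime_iff_not_dvd hpp).mpr
          (fun hd => hne (Nat.eq_zero_of_dvd_of_lt hd hlt)))
      obtain ⟨j, -, hj⟩ := Nat.exists_mul_mod_eq_one_of_coprime hcop hpp.one_lt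
      have h2 : z₁ = (z₁ ^ (Multiplicative.toAdd t.2).val) ^ j := by
        rw [← pow_mul, ← p4_pow_mod hz₁p ((Multiplicative.toAdd t.2).val * j), hj, pow_one]
      rw [h2]; exact Subgroup.pow_mem _ hzM j
    have h2 : Multiplicative.toAdd t.2 = 0 := (ZMod.val_eq_zero _).mp hk0
    have h1 : t.1 = 1 := by
      rw [hk0, pow_zero, mul_one] at ht
      exact Subtype.ext ht
    exact Prod.ext h1 (Multiplicative.toAdd.injective h2)
  have hsurj : Function.Surjective ψ := by
    have hMr : M ≤ ψ.range := by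
      intro m hm
      refine ⟨(⟨m, hm⟩, 1), ?_⟩
      rw [hψ]
      show m * z₁ ^ ((0 : ZMod p)).val = m
      rw [ZMod.val_zero, pow_zero, mul_one]
    have hzr : z₁ ∈ ψ.range := by
      refine ⟨(1, Multiplicative.ofAdd (1 : ZMod p)), ?_⟩
      rw [hψ]
      show ((1 : ↥M) : G) * z₁ ^ ((1 : ZMod p)).val = z₁
      rw [ZMod.val_one p, pow_one, Subgroup.coe_one, one_mul]
    have hlt : M < ψ.range := lt_of_le_of_ne hMr (fun h => hz₁M (by rw [h]; exact hzr))
    have htop := hM'.2 _ hlt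
    intro g
    have hg : g ∈ ψ.range := by rw [htop]; exact Subgroup.mem_top g
    exact MonoidHom.mem_range.mp hg
  have hMcard : Nat.card M = p ^ 3 := by
    have h1 : Nat.card (↥M × Multiplicative (ZMod p)) = Nat.card G :=
      Nat.card_congr (Equiv.ofBijective ψ ⟨hinj, hsurj⟩)
    rw [Nat.card_prod, Nat.card_congr (Multiplicative.toAdd (α := ZMod p)), Nat.card_zmod,
      hcard] at h1
    exact Nat.eq_of_mul_eq_mul_right hpp.pos (by rw [h1]; ring)
  have hMnc : ¬ ∀ a b : ↥M, a * b = b * a := by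
    intro hMc
    apply hnc
    intro a b
    obtain ⟨s, rfl⟩ := hsurj a
    obtain ⟨t, rfl⟩ := hsurj b
    rw [← map_mul, ← map_mul]
    congr 1
    exact Prod.ext (hMc s.1 t.1) (mul_comm s.2 t.2)
  have hMZ : ∀ t ∈ M, t ∈ Subgroup.center G → t ∈ Subgroup.zpowers c := by
    intro t htM htZ
    have hle : Subgroup.zpowers c ≤ M ⊓ Subgroup.center G := by
      rw [Subgroup.zpowers_le]; exact Subgroup.mem_inf.mpr ⟨hcM, hcZ⟩
    obtain ⟨j, hj2, hj⟩ := (Nat.dvd_prime_pow hpp).mp
      (show Nat.card ↥(M ⊓ Subgroup.center G) ∣ p ^ 2 by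
        rw [← hZ]; exact Subgroup.card_dvd_of_le inf_le_right)
    have hj2' : j ≠ 2 := by
      intro h
      apply hz₁M
      have h3 : M ⊓ Subgroup.center G = Subgroup.center G :=
        Subgroup.eq_of_le_of_card_ge inf_le_right (by rw [hj, h, hZ])
      have h4 : z₁ ∈ M ⊓ Subgroup.center G := by rw [h3]; exact hz₁Z
      exact (Subgroup.mem_inf.mp h4).1
    have hj1 : j ≤ 1 := by omega
    have heq : Subgroup.zpowers c = M ⊓ Subgroup.center G :=
      Subgroup.eq_of_le_of_card_ge hle (by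
        rw [hj, hKcard]
        calc p ^ j ≤ p ^ 1 := Nat.pow_le_pow_right hpp.pos hj1
          _ = p := pow_one p)
    rw [heq]; exact Subgroup.mem_inf.mpr ⟨htM, htZ⟩
  exact ⟨M, hMcard, hMnc, hcM, hMZ, ⟨MulEquiv.ofBijective ψ ⟨hinj, hsurj⟩⟩⟩

theorem p4_shrink_extraspecial {M : Type*} [Group M] [Finite M] {p : ℕ} [Fact p.Prime]
    (hcard : Nat.card M = p ^ 3) (hnc : ¬ ∀ a b : M, a * b = b * a)
    (hexp : ∀ x : M, x ^ p = 1) :
    ∃ (E : Type) (_ : Group E) (_ : Finite E), IsExtraspecial p E ∧ Nat.card E = p ^ 3 ∧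
      (∀ x : E, x ^ p = 1) ∧ Nonempty (M ≃* E) := by
  haveI : Finite (Shrink.{0} M) := Finite.of_equiv M (equivShrink.{0} M)
  have e : Shrink.{0} M ≃* M := Shrink.mulEquiv
  have hc : Nat.card (Shrink.{0} M) = p ^ 3 := by
    rw [Nat.card_congr e.toEquiv]; exact hcard
  have hnc' : ¬ ∀ a b : Shrink.{0} M, a * b = b * a := by
    intro h
    apply hnc
    intro a b
    have h1 := h (e.symm a) (e.symm b)
    have h2 := congrArg e h1
    rwa [map_mul, map_mul, e.apply_symm_apply, e.apply_symm_apply] at h2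
  have hexp' : ∀ x : Shrink.{0} M, x ^ p = 1 := by
    intro x
    apply e.injective
    rw [map_pow, map_one]; exact hexp _
  exact ⟨Shrink.{0} M, inferInstance, inferInstance, p3_extraspecial hc hnc' hexp', hc, hexp',
    ⟨e.symm⟩⟩

theorem p4_odd_case [Finite G] {p : ℕ} [Fact p.Prime] (hp2 : p ≠ 2)
    (hcard : Nat.card G = p ^ 4) (hZ : Nat.card (Subgroup.center G) = p ^ 2)
    (c : G) (hcZ : c ∈ Subgroup.center G) (hcp : c ^ p = 1)
    (hKchar : ∀ β : MulAut G, ∀ y ∈ Subgroup.zpowers c, β y ∈ Subgroup.zpowers c)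
    (hKcard : Nat.card (Subgroup.zpowers c) = p)
    (hK : ∀ a b : G, a * b * a⁻¹ * b⁻¹ ∈ Subgroup.zpowers c)
    (hpK : ∀ g : G, g ^ p ∈ Subgroup.zpowers c)
    (hZp : ∀ z ∈ Subgroup.center G, z ^ p = 1) (hexp : ¬ ∀ g : G, g ^ p = 1) :
    P4Chain G p := by
  have hpp : p.Prime := Fact.out
  have hKZ : Subgroup.zpowers c ≤ Subgroup.center G := by
    rw [Subgroup.zpowers_le]; exact hcZ
  have hKp : ∀ k ∈ Subgroup.zpowers c, k ^ p = 1 := by
    intro k hk
    obtain ⟨n, rfl⟩ := Subgroup.mem_zpowers_iff.mp hk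
    rw [← zpow_natCast, ← zpow_mul, mul_comm, zpow_mul, zpow_natCast, hcp, one_zpow]
  have hmul : ∀ a b : G, (a * b) ^ p = a ^ p * b ^ p := fun a b => by
    have he : b⁻¹ * a⁻¹ * b * a ∈ Subgroup.zpowers c := by
      have e : b⁻¹ * a⁻¹ * b⁻¹⁻¹ * a⁻¹⁻¹ = b⁻¹ * a⁻¹ * b * a := by rw [inv_inv, inv_inv]
      rw [← e]; exact hK b⁻¹ a⁻¹
    have hec := Subgroup.mem_center_iff.mp (hKZ he)
    exact Cfsg.Agent.Helper23.mul_pow_prime_of_central hpp hp2 (e := b⁻¹ * a⁻¹ * b * a)
      (by group) (show Commute _ a from (hec a).symm) (show Commute _ b from (hec b).symm)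
      (hKp _ he)
  let φ : G →* G := MonoidHom.mk' (fun x => x ^ p) hmul
  have hφ : ∀ x, φ x = x ^ p := fun x => rfl
  have hker : ∀ β : MulAut G, ∀ x ∈ φ.ker, β x ∈ φ.ker := fun β x hx => by
    rw [MonoidHom.mem_ker, hφ] at hx ⊢
    rw [← map_pow, hx, map_one]
  have hrle : φ.range ≤ Subgroup.zpowers c := by
    rintro _ ⟨y, rfl⟩
    exact hpK y
  have hrne : φ.range ≠ ⊥ := fun h => hexp (fun g => by
    have : g ^ p ∈ φ.range := ⟨g, rfl⟩
    rwa [h, Subgroup.mem_bot] at this)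
  have hr : Nat.card φ.range = p := by
    have hd : Nat.card φ.range ∣ p := by rw [← hKcard]; exact Subgroup.card_dvd_of_le hrle
    rcases (Nat.dvd_prime hpp).mp hd with h1 | h1
    · exact absurd (Subgroup.card_eq_one.mp h1) hrne
    · exact h1
  have hk : Nat.card φ.ker = p ^ 3 := by
    have h : Nat.card φ.ker * Nat.card φ.range = p ^ 4 := by
      rw [← Subgroup.index_ker, Subgroup.card_mul_index, hcard]
    rw [hr] at h
    exact Nat.eq_of_mul_eq_mul_right hpp.pos (by rw [h]; ring)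
  exact ⟨Subgroup.zpowers c, Subgroup.center G, φ.ker, hKchar, p4_char_center, hker, hKZ,
    fun z hz => by rw [MonoidHom.mem_ker, hφ]; exact hZp z hz, hKcard, hZ, hk⟩

theorem p4_odd_exp [Finite G] {p : ℕ} [Fact p.Prime] (hp2 : p ≠ 2) (M : Subgroup G)
    (hMcard : Nat.card M = p ^ 3) (hMnc : ¬ ∀ a b : ↥M, a * b = b * a)
    (e : ↥M × Multiplicative (ZMod p) ≃* G) (hexp : ∀ g : G, g ^ p = 1) :
    Odd p ∧ ∃ (E : Type) (_ : Group E) (_ : Finite E), IsExtraspecial p E ∧
      Nat.card E = p ^ 3 ∧ (∀ x : E, x ^ p = 1) ∧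
      Nonempty (G ≃* E × Multiplicative (ZMod p)) := by
  have hpp : p.Prime := Fact.out
  refine ⟨hpp.odd_of_ne_two hp2, ?_⟩
  obtain ⟨E, iE, fE, hE, hEc, hEexp, ⟨eM⟩⟩ :=
    p4_shrink_extraspecial hMcard hMnc (fun x => Subtype.ext (hexp x))
  exact ⟨E, iE, fE, hE, hEc, hEexp, ⟨e.symm.trans (MulEquiv.prodCongr eM (MulEquiv.refl _))⟩⟩

theorem p4_sq_aux {g g₀ c : G} (hrel : g₀ * g = c * (g * g₀)) (hg : g * g = c)
    (hg₀ : g₀ * g₀ = c) (hc : c * c = 1) (hcg : g * c = c * g) :
    (g₀ * g) * (g₀ * g) = c := by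
  calc (g₀ * g) * (g₀ * g) = (c * (g * g₀)) * (g₀ * g) :=
        congrArg (fun t => t * (g₀ * g)) hrel
    _ = c * (g * (g₀ * g₀) * g) := by group
    _ = c * (g * c * g) := by rw [hg₀]
    _ = c * (c * g * g) := by rw [hcg]
    _ = (c * c) * (g * g) := by group
    _ = c := by rw [hc, hg, one_mul]

theorem p4_sq_contra {t u c : G} (ht : t * t = c) (hu : u * u = 1)
    (hz : t * u ∈ Subgroup.center G) (hz2 : (t * u) * (t * u) = 1) : c = 1 := by
  have hcomm : u * t = t * u := by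
    have h := Subgroup.mem_center_iff.mp hz t
    have h' : t * (t * u) = t * (u * t) := by rw [h]; group
    exact (mul_left_cancel h').symm
  calc c = t * t := ht.symm
    _ = t * t * (u * u) := by rw [hu, mul_one]
    _ = t * (t * u) * u := by group
    _ = t * (u * t) * u := by rw [← hcomm]
    _ = (t * u) * (t * u) := by group
    _ = 1 := hz2

theorem p4_zpowers_two [Finite G] (c : G) (hcp : c ^ 2 = 1) :
    ∀ k ∈ Subgroup.zpowers c, k = 1 ∨ k = c := by
  intro k hk
  obtain ⟨n, rfl⟩ := (Submonoid.mem_powers_iff _ _).mp (mem_powers_iff_mem_zpowers.mpr hk)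
  rw [← p4_pow_mod hcp n]
  rcases Nat.mod_two_eq_zero_or_one n with h | h
  · left; rw [h, pow_zero]
  · right; rw [h, pow_one]

/-- `p = 2`: a non-central involution gives a characteristic chain. -/
theorem p4_two_chain [Finite G] (hcard : Nat.card G = 2 ^ 4)
    (hnc : ¬ ∀ a b : G, a * b = b * a) (hZ : Nat.card (Subgroup.center G) = 2 ^ 2)
    (c : G) (hc1 : c ≠ 1) (hcZ : c ∈ Subgroup.center G) (hcp : c ^ 2 = 1)
    (hKchar : ∀ β : MulAut G, ∀ y ∈ Subgroup.zpowers c, β y ∈ Subgroup.zpowers c)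
    (hKcard : Nat.card (Subgroup.zpowers c) = 2)
    (hK : ∀ a b : G, a * b * a⁻¹ * b⁻¹ ∈ Subgroup.zpowers c)
    (hpK : ∀ g : G, g ^ 2 ∈ Subgroup.zpowers c)
    (hZp : ∀ z ∈ Subgroup.center G, z ^ 2 = 1)
    (u : G) (huZ : u ∉ Subgroup.center G) (hu2 : u ^ 2 = 1) : P4Chain G 2 := by
  classical
  have hK2 := p4_zpowers_two c hcp
  obtain ⟨g₀, hg₀⟩ : ∃ g₀ : G, g₀ ^ 2 ≠ 1 := by
    by_contra hall
    push Not at hall
    apply hnc
    intro a b
    have h1 : a⁻¹ = a := inv_eq_of_mul_eq_one_left (by rw [← pow_two]; exact hall a)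
    have h2 : b⁻¹ = b := inv_eq_of_mul_eq_one_left (by rw [← pow_two]; exact hall b)
    have h3 : (a * b)⁻¹ = a * b :=
      inv_eq_of_mul_eq_one_left (by rw [← pow_two]; exact hall (a * b))
    rw [mul_inv_rev, h1, h2] at h3
    exact h3.symm
  have hsq : ∀ g : G, g ^ 2 ≠ 1 → g * g = c := by
    intro g hg
    rcases hK2 _ (hpK g) with h | h
    · exact absurd h hg
    · rw [← pow_two]; exact h
  have hnZ : ∀ g : G, g ^ 2 ≠ 1 → g ∉ Subgroup.center G := fun g hg hz => hg (hZp g hz)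
  have hCcard : ∀ g : G, g ∉ Subgroup.center G →
      Nat.card (Subgroup.centralizer ({g} : Set G)) = 2 ^ 3 :=
    fun g hg => p4_sq_centralizer hcard hZ g hg
  have hCab : ∀ g : G, g ∉ Subgroup.center G →
      ∀ a ∈ Subgroup.centralizer ({g} : Set G), ∀ b ∈ Subgroup.centralizer ({g} : Set G),
        a * b = b * a :=
    fun g hg => p4_centralizer_abelian g hg (hCcard g hg) (by rw [hZ]; norm_num)
  have hCidx : ∀ g : G, g ∉ Subgroup.center G →
      (Subgroup.centralizer ({g} : Set G)).index = 2 := by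
    intro g hg
    have h := Subgroup.card_mul_index (Subgroup.centralizer ({g} : Set G))
    rw [hCcard g hg, hcard] at h
    omega
  have hc2 : c * c = 1 := by rw [← pow_two]; exact hcp
  have hZ2 : ∀ z ∈ Subgroup.center G, z * z = 1 := fun z hz => by
    rw [← pow_two]; exact hZp z hz
  have hu2' : u * u = 1 := by rw [← pow_two]; exact hu2
  have hcommA : ∀ g : G, g ^ 2 ≠ 1 → g * g₀ = g₀ * g := by
    intro g hg
    by_contra hgg
    have hgZ := hnZ g hg
    have hg₀Z := hnZ g₀ hg₀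
    have hgc := hsq g hg
    have hg₀c := hsq g₀ hg₀
    have hrel : g₀ * g = c * (g * g₀) := by
      have hd : g₀ * g * g₀⁻¹ * g⁻¹ = c := by
        rcases hK2 _ (hK g₀ g) with h | h
        · exfalso
          apply hgg
          have h7 : g₀ * g = g * g₀ := by
            calc g₀ * g = (g₀ * g * g₀⁻¹ * g⁻¹) * (g * g₀) := by group
              _ = g * g₀ := by rw [h, one_mul]
          exact h7.symm
        · exact h
      calc g₀ * g = (g₀ * g * g₀⁻¹ * g⁻¹) * (g * g₀) := by group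
        _ = c * (g * g₀) := by rw [hd]
    have hcg : g * c = c * g := Subgroup.mem_center_iff.mp hcZ g
    have htc : (g₀ * g) * (g₀ * g) = c := p4_sq_aux hrel hgc hg₀c hc2 hcg
    have hgC₀ : g ∉ Subgroup.centralizer ({g₀} : Set G) :=
      fun h => hgg (Subgroup.mem_centralizer_singleton_iff.mp h)
    have hg₀Cg : g₀ ∉ Subgroup.centralizer ({g} : Set G) :=
      fun h => hgg (Subgroup.mem_centralizer_singleton_iff.mp h).symm
    have hg₀C₀ : g₀ ∈ Subgroup.centralizer ({g₀} : Set G) :=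
      Subgroup.mem_centralizer_singleton_iff.mpr rfl
    have hI : ∀ d : G, d ∈ Subgroup.centralizer ({g₀} : Set G) →
        d ∈ Subgroup.centralizer ({g} : Set G) → d ∈ Subgroup.center G := by
      intro d hd1 hd2
      by_contra hdZ
      apply hgg
      have h1 : g ∈ Subgroup.centralizer ({d} : Set G) :=
        Subgroup.mem_centralizer_singleton_iff.mpr
          (Subgroup.mem_centralizer_singleton_iff.mp hd2).symm
      have h2 : g₀ ∈ Subgroup.centralizer ({d} : Set G) :=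
        Subgroup.mem_centralizer_singleton_iff.mpr
          (Subgroup.mem_centralizer_singleton_iff.mp hd1).symm
      exact hCab d hdZ g h1 g₀ h2
    have hfin : ∀ t : G, t * t = c → t * u ∈ Subgroup.center G → False := by
      intro t ht hz
      exact hc1 (p4_sq_contra ht hu2' hz (hZ2 _ hz))
    by_cases huC₀ : u ∈ Subgroup.centralizer ({g₀} : Set G)
    · by_cases huCg : u ∈ Subgroup.centralizer ({g} : Set G)
      · exact huZ (hI u huC₀ huCg)
      · have h1 : g₀ * u ∈ Subgroup.centralizer ({g} : Set G) :=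
          (Subgroup.mul_mem_iff_of_index_two (hCidx g hgZ)).mpr
            ⟨fun h => absurd h hg₀Cg, fun h => absurd h huCg⟩
        have h2 : g₀ * u ∈ Subgroup.centralizer ({g₀} : Set G) :=
          Subgroup.mul_mem _ hg₀C₀ huC₀
        exact hfin g₀ hg₀c (hI _ h2 h1)
    · have hgu : g * u ∈ Subgroup.centralizer ({g₀} : Set G) :=
        (Subgroup.mul_mem_iff_of_index_two (hCidx g₀ hg₀Z)).mpr
          ⟨fun h => absurd h hgC₀, fun h => absurd h huC₀⟩
      by_cases hguCg : g * u ∈ Subgroup.centralizer ({g} : Set G)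
      · exact hfin g hgc (hI _ hgu hguCg)
      · have h1 : g₀ * (g * u) ∈ Subgroup.centralizer ({g} : Set G) :=
          (Subgroup.mul_mem_iff_of_index_two (hCidx g hgZ)).mpr
            ⟨fun h => absurd h hg₀Cg, fun h => absurd h hguCg⟩
        have h2 : g₀ * (g * u) ∈ Subgroup.centralizer ({g₀} : Set G) :=
          Subgroup.mul_mem _ hg₀C₀ hgu
        have h3 := hI _ h2 h1
        rw [← mul_assoc] at h3
        exact hfin (g₀ * g) htc h3
  have hAchar : ∀ β : MulAut G, ∀ g ∈ {g : G | g ^ 2 ≠ 1}, β g ∈ {g : G | g ^ 2 ≠ 1} := by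
    intro β g hg
    have hg' : g ^ 2 ≠ 1 := hg
    show β g ^ 2 ≠ 1
    intro h
    apply hg'
    have h1 : β (g ^ 2) = β 1 := by rw [map_pow, h, map_one]
    exact β.injective h1
  have hLeq : Subgroup.centralizer {g : G | g ^ 2 ≠ 1} =
      Subgroup.centralizer ({g₀} : Set G) := by
    apply le_antisymm
    · intro h hh
      rw [Subgroup.mem_centralizer_singleton_iff]
      exact (Subgroup.mem_centralizer_iff.mp hh g₀ hg₀).symm
    · intro h hh
      rw [Subgroup.mem_centralizer_iff]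
      intro g hg
      have hg' : g ^ 2 ≠ 1 := hg
      have hgC : g ∈ Subgroup.centralizer ({g₀} : Set G) :=
        Subgroup.mem_centralizer_singleton_iff.mpr (hcommA g hg')
      exact hCab g₀ (hnZ g₀ hg₀) g hgC h hh
  refine ⟨Subgroup.zpowers c, Subgroup.center G, Subgroup.centralizer {g : G | g ^ 2 ≠ 1},
    hKchar, p4_char_center, p4_char_centralizer' _ hAchar, ?_,
    Subgroup.center_le_centralizer _, hKcard, hZ, ?_⟩
  · rw [Subgroup.zpowers_le]; exact hcZ
  · rw [hLeq]; exact hCcard g₀ (hnZ g₀ hg₀)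

/-- `p = 2`: no non-central involution gives `Q₈ × C₂`. -/
theorem p4_two_quat [Finite G] (c : G) (hc1 : c ≠ 1) (hcp : c ^ 2 = 1) (M : Subgroup G)
    (hMcard : Nat.card M = 2 ^ 3) (hMnc : ¬ ∀ a b : ↥M, a * b = b * a) (hcM : c ∈ M)
    (hMZ : ∀ t ∈ M, t ∈ Subgroup.center G → t ∈ Subgroup.zpowers c)
    (e : ↥M × Multiplicative (ZMod 2) ≃* G)
    (hQ : ∀ g : G, g ∉ Subgroup.center G → g ^ 2 ≠ 1) :
    Nonempty (G ≃* QuaternionGroup 2 × Multiplicative (ZMod 2)) := by
  have hK2 := p4_zpowers_two c hcp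
  have hMp : IsPGroup 2 ↥M := IsPGroup.of_card hMcard
  have huniq : ∃! x : ↥M, orderOf x = 2 := by
    refine ⟨⟨c, hcM⟩, ?_, ?_⟩
    · exact orderOf_eq_prime (Subtype.ext hcp) (fun h => hc1 (congrArg Subtype.val h))
    · intro y hy
      have hy2 : y ^ 2 = 1 := by
        have h := pow_orderOf_eq_one y
        rwa [hy] at h
      have hy1 : y ≠ 1 := by
        intro h
        rw [h, orderOf_one] at hy
        norm_num at hy
      have hyZ : (y : G) ∈ Subgroup.center G := by
        by_contra hn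
        exact hQ _ hn (congrArg Subtype.val hy2)
      have hyK := hMZ _ y.2 hyZ
      rcases hK2 _ hyK with h | h
      · exact absurd (Subtype.ext h) hy1
      · exact Subtype.ext h
  obtain ⟨k, hk1, ⟨eQ⟩⟩ := Cfsg.Agent.Helper16.QuatExt.exists_quat hMp
    (fun h => hMnc (fun a b => h.is_comm.comm a b)) huniq
  have hk : k = 1 := by
    haveI : NeZero (2 ^ k) := ⟨pow_ne_zero k (by norm_num)⟩
    have h1 : Nat.card (QuaternionGroup (2 ^ k)) = 4 * 2 ^ k := by
      rw [Nat.card_eq_fintype_card, QuaternionGroup.card]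
    have h2 : Nat.card ↥M = Nat.card (QuaternionGroup (2 ^ k)) := Nat.card_congr eQ.toEquiv
    rw [hMcard, h1] at h2
    have h3 : 2 ^ k = 2 ^ 1 := by omega
    exact Nat.pow_right_injective (le_refl 2) h3
  subst hk
  have eQ' : ↥M ≃* QuaternionGroup 2 := eQ
  exact ⟨e.symm.trans (MulEquiv.prodCongr eQ' (MulEquiv.refl _))⟩

theorem p4_noncyclic_center [Finite G] {p : ℕ} [Fact p.Prime] (hcard : Nat.card G = p ^ 4)
    (hnc : ¬ ∀ a b : G, a * b = b * a) (hZ : Nat.card (Subgroup.center G) = p ^ 2)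
    (c : G) (hc1 : c ≠ 1) (hcZ : c ∈ Subgroup.center G) (hcp : c ^ p = 1)
    (hcF : c ∈ frattini G)
    (hKchar : ∀ β : MulAut G, ∀ y ∈ Subgroup.zpowers c, β y ∈ Subgroup.zpowers c)
    (hKcard : Nat.card (Subgroup.zpowers c) = p)
    (hK : ∀ a b : G, a * b * a⁻¹ * b⁻¹ ∈ Subgroup.zpowers c)
    (hpK : ∀ g : G, g ^ p ∈ Subgroup.zpowers c)
    (hZp : ∀ z ∈ Subgroup.center G, z ^ p = 1) :
    P4Chain G p ∨
    (Odd p ∧ ∃ (E : Type) (_ : Group E) (_ : Finite E), IsExtraspecial p E ∧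
      Nat.card E = p ^ 3 ∧ (∀ x : E, x ^ p = 1) ∧
      Nonempty (G ≃* E × Multiplicative (ZMod p))) ∨
    (p = 2 ∧ Nonempty (G ≃* QuaternionGroup 2 × Multiplicative (ZMod 2))) := by
  obtain ⟨M, hMcard, hMnc, hcM, hMZ, ⟨e⟩⟩ :=
    p4_split hcard hnc hZ c hcZ hcF hKcard hK hpK hZp
  by_cases hp2 : p = 2
  · subst hp2
    by_cases hQ : ∀ g : G, g ∉ Subgroup.center G → g ^ 2 ≠ 1
    · right; right
      exact ⟨rfl, p4_two_quat c hc1 hcp M hMcard hMnc hcM hMZ e hQ⟩
    · left
      push Not at hQ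
      obtain ⟨u, huZ, hu2⟩ := hQ
      exact p4_two_chain hcard hnc hZ c hc1 hcZ hcp hKchar hKcard hK hpK hZp u huZ hu2
  · by_cases hexp : ∀ g : G, g ^ p = 1
    · right; left
      exact p4_odd_exp hp2 M hMcard hMnc e hexp
    · left
      exact p4_odd_case hp2 hcard hZ c hcZ hcp hKchar hKcard hK hpK hZp hexp

/-- the case of a centre of order `p²`. -/
theorem p4_center_sq [Finite G] {p : ℕ} [Fact p.Prime] (hcard : Nat.card G = p ^ 4)
    (hnc : ¬ ∀ a b : G, a * b = b * a) (hZ : Nat.card (Subgroup.center G) = p ^ 2) :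
    P4Chain G p ∨
    (Odd p ∧ ∃ (E : Type) (_ : Group E) (_ : Finite E), IsExtraspecial p E ∧
      Nat.card E = p ^ 3 ∧ (∀ x : E, x ^ p = 1) ∧
      Nonempty (G ≃* E × Multiplicative (ZMod p))) ∨
    (p = 2 ∧ Nonempty (G ≃* QuaternionGroup 2 × Multiplicative (ZMod 2))) ∨
    ((∀ x : G, x ^ (p ^ 2) = 1) ∧ IsCyclic (Subgroup.center G)) := by
  classical
  have hpp : p.Prime := Fact.out
  have hG : IsPGroup p G := IsPGroup.of_card hcard
  obtain ⟨hpow, hcc⟩ := p4_sq_basic hcard hnc hZ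
  obtain ⟨c, ⟨x, w, hcxw⟩, hc1, hcZ, hcp, hKchar, hKcard, hK⟩ := p4_sq_derived hcard hnc hZ
  have hKZ : Subgroup.zpowers c ≤ Subgroup.center G := by
    rw [Subgroup.zpowers_le]; exact hcZ
  have hcF : c ∈ frattini G := by
    rw [hcxw, ← commutatorElement_def]
    exact p3_commutator_mem_frattini hG x w
  obtain ⟨T, hT, hTidx, hZT⟩ := p4_pow_ker hZ hpow c hcZ hKcard hK
  rcases hTidx with hT1 | hTp
  · have hTtop : T = ⊤ := Subgroup.index_eq_one.mp hT1
    have hpK : ∀ g : G, g ^ p ∈ Subgroup.zpowers c := fun g =>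
      (hT g).mp (by rw [hTtop]; exact Subgroup.mem_top g)
    have hKp : ∀ k ∈ Subgroup.zpowers c, k ^ p = 1 := by
      intro k hk
      obtain ⟨n, rfl⟩ := Subgroup.mem_zpowers_iff.mp hk
      rw [← zpow_natCast, ← zpow_mul, mul_comm, zpow_mul, zpow_natCast, hcp, one_zpow]
    have hexp2 : ∀ g : G, g ^ (p ^ 2) = 1 := fun g => by
      rw [pow_two, pow_mul]; exact hKp _ (hpK g)
    by_cases hcyc : IsCyclic (Subgroup.center G)
    · exact Or.inr (Or.inr (Or.inr ⟨hexp2, hcyc⟩))
    · have hZp : ∀ z ∈ Subgroup.center G, z ^ p = 1 := by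
        intro z hz
        have hdvd : orderOf (⟨z, hz⟩ : ↥(Subgroup.center G)) ∣ p ^ 2 := by
          rw [← hZ]; exact orderOf_dvd_natCard _
        obtain ⟨j, hj, hj'⟩ := (Nat.dvd_prime_pow hpp).mp hdvd
        have hj2 : j ≠ 2 := by
          intro h2
          apply hcyc
          exact isCyclic_of_orderOf_eq_card _ (by rw [hj', h2, hZ])
        have hj1 : j ≤ 1 := by omega
        have hz1 : (⟨z, hz⟩ : ↥(Subgroup.center G)) ^ p = 1 := by
          apply orderOf_dvd_iff_pow_eq_one.mp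
          rw [hj']
          have h3 := pow_dvd_pow p hj1
          rwa [pow_one] at h3
        exact congrArg Subtype.val hz1
      rcases p4_noncyclic_center hcard hnc hZ c hc1 hcZ hcp hcF hKchar hKcard hK hpK hZp with
        h | h | h
      · exact Or.inl h
      · exact Or.inr (Or.inl h)
      · exact Or.inr (Or.inr (Or.inl h))
  · left
    have hTcard : Nat.card T = p ^ 3 := by
      have h := Subgroup.card_mul_index T
      rw [hTp, hcard] at h
      exact Nat.eq_of_mul_eq_mul_right hpp.pos (by rw [h]; ring)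
    refine ⟨Subgroup.zpowers c, Subgroup.center G, T, hKchar, p4_char_center, ?_, hKZ, ?_,
      hKcard, hZ, hTcard⟩
    · intro β g hg
      rw [hT] at hg ⊢
      rw [← map_pow]
      exact hKchar β _ hg
    · intro z hz
      rw [hT]; exact hZT z hz

/-- nonabelian groups of order `p⁴`: a characteristic chain or one of three shapes. -/
theorem p4_nonabelian [Finite G] {p : ℕ} [Fact p.Prime] (hcard : Nat.card G = p ^ 4)
    (hnc : ¬ ∀ a b : G, a * b = b * a) :
    P4Chain G p ∨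
    (Odd p ∧ ∃ (E : Type) (_ : Group E) (_ : Finite E), IsExtraspecial p E ∧
      Nat.card E = p ^ 3 ∧ (∀ x : E, x ^ p = 1) ∧
      Nonempty (G ≃* E × Multiplicative (ZMod p))) ∨
    (p = 2 ∧ Nonempty (G ≃* QuaternionGroup 2 × Multiplicative (ZMod 2))) ∨
    ((∀ x : G, x ^ (p ^ 2) = 1) ∧ IsCyclic (Subgroup.center G) ∧
      Nat.card (Subgroup.center G) = p ^ 2) := by
  have hpp : p.Prime := Fact.out
  have hG : IsPGroup p G := IsPGroup.of_card hcard
  haveI : Nontrivial G := (Finite.one_lt_card_iff_nontrivial).mp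
    (by rw [hcard]; exact Nat.one_lt_pow (by norm_num) hpp.one_lt)
  obtain ⟨j, hj4, hj⟩ := (Nat.dvd_prime_pow hpp).mp
    (show Nat.card (Subgroup.center G) ∣ p ^ 4 by
      rw [← hcard]; exact Subgroup.card_subgroup_dvd_card _)
  have hlt := hG.bot_lt_center
  have hj0 : j ≠ 0 := by
    intro h
    have h1 : Subgroup.center G = ⊥ := Subgroup.card_eq_one.mp (by rw [hj, h, pow_zero])
    exact hlt.ne' h1
  have hj4' : j ≠ 4 := by
    intro h
    have h1 : Subgroup.center G = ⊤ := Subgroup.eq_top_of_card_eq _ (by rw [hj, h, hcard])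
    exact hnc (fun a b => by
      have ha : a ∈ Subgroup.center G := by rw [h1]; trivial
      exact (Subgroup.mem_center_iff.mp ha b).symm)
  have hj3 : j ≠ 3 := by
    intro h
    have hidx : (Subgroup.center G).index = p := by
      have h' := Subgroup.card_mul_index (Subgroup.center G)
      rw [hj, h, hcard] at h'
      exact Nat.eq_of_mul_eq_mul_left (pow_pos hpp.pos 3) (by rw [h']; ring)
    haveI : IsCyclic (G ⧸ Subgroup.center G) :=
      isCyclic_of_prime_card (p := p) (by rw [← Subgroup.index_eq_card]; exact hidx)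
    exact hnc (commutative_of_cyclic_center_quotient (QuotientGroup.mk' (Subgroup.center G))
      (by rw [QuotientGroup.ker_mk']))
  have hj12 : j = 1 ∨ j = 2 := by omega
  rcases hj12 with h | h
  · left
    exact p4_center_p_chain hcard (by rw [hj, h, pow_one])
  · have hZ : Nat.card (Subgroup.center G) = p ^ 2 := by rw [hj, h]
    rcases p4_center_sq hcard hnc hZ with h1 | h1 | h1 | ⟨h1, h2⟩
    · exact Or.inl h1
    · exact Or.inr (Or.inl h1)
    · exact Or.inr (Or.inr (Or.inl h1))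
    · exact Or.inr (Or.inr (Or.inr ⟨h1, h2, hZ⟩))

end OrderP4b

section Ab

variable {G : Type*} [CommGroup G] {p : ℕ} [Fact p.Prime]

theorem p4_mul6 (A A' B B' C C' : G) :
    (A * A') * (B * B') * (C * C') = (A * B * C) * (A' * B' * C') := by
  rw [mul_mul_mul_comm A A' B B', mul_mul_mul_comm]

/-- abelian of order `p⁴` with `Ω₁` of order `p³` is `C_{p²} × C_p × C_p`. -/
theorem p4_ab_rank3 [Finite G] (hcard : Nat.card G = p ^ 4)
    (hKc : Nat.card (hcKer G p) = p ^ 3) :
    Nonempty (G ≃* Multiplicative (ZMod (p ^ 2) × ZMod p × ZMod p)) := by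
  classical
  have hpp : p.Prime := Fact.out
  haveI : NeZero p := ⟨hpp.ne_zero⟩
  haveI : NeZero (p ^ 2) := ⟨pow_ne_zero 2 hpp.ne_zero⟩
  haveI : Fact (1 < p) := ⟨hpp.one_lt⟩
  have hr : Nat.card (powMonoidHom p : G →* G).range = p := by
    have h : Nat.card (hcKer G p) * Nat.card (powMonoidHom p : G →* G).range = p ^ 4 := by
      rw [← Subgroup.index_ker]
      show Nat.card (hcKer G p) * (hcKer G p).index = p ^ 4
      rw [Subgroup.card_mul_index, hcard]
    rw [hKc] at h
    exact Nat.eq_of_mul_eq_mul_left (pow_pos hpp.pos 3) (by rw [h]; ring)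
  have hp2 : ∀ g : G, g ^ (p ^ 2) = 1 := by
    intro g
    have h1 := pow_card_eq_one' (G := ↥(powMonoidHom p : G →* G).range)
      (x := ⟨g ^ p, ⟨g, rfl⟩⟩)
    rw [hr] at h1
    have h2 := congrArg Subtype.val h1
    rw [pow_two, pow_mul]
    exact h2
  obtain ⟨x₀, hx₀⟩ : ∃ x₀ : G, x₀ ^ p ≠ 1 := by
    by_contra hall
    push Not at hall
    have htop : hcKer G p = ⊤ := by
      rw [eq_top_iff]; intro g _; exact mem_hcKer.mpr (hall g)
    rw [htop, Subgroup.card_top, hcard] at hKc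
    have := Nat.pow_right_injective hpp.two_le hKc
    omega
  obtain ⟨c, hcdef⟩ : ∃ c : G, c = x₀ ^ p := ⟨_, rfl⟩
  have hc1 : c ≠ 1 := by rw [hcdef]; exact hx₀
  have hcp : c ^ p = 1 := by rw [hcdef, ← pow_mul, ← pow_two]; exact hp2 x₀
  have hoc : orderOf c = p := orderOf_eq_prime hcp hc1
  obtain ⟨y, hyK, hyc⟩ : ∃ y ∈ hcKer G p, y ∉ Subgroup.zpowers c := by
    by_contra hall
    push Not at hall
    have hle : hcKer G p ≤ Subgroup.zpowers c := hall
    have := Subgroup.card_le_of_le hle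
    rw [hKc, Nat.card_zpowers, hoc] at this
    have h3 : p ^ 1 < p ^ 3 := Nat.pow_lt_pow_right hpp.one_lt (by norm_num)
    rw [pow_one] at h3
    omega
  have hyp : y ^ p = 1 := mem_hcKer.mp hyK
  let φ : Multiplicative (ZMod p × ZMod p) →* G :=
    { toFun := fun t => c ^ (Multiplicative.toAdd t).1.val * y ^ (Multiplicative.toAdd t).2.val
      map_one' := by
        show c ^ ((0 : ZMod p × ZMod p)).1.val * y ^ ((0 : ZMod p × ZMod p)).2.val = 1
        rw [Prod.fst_zero, Prod.snd_zero, ZMod.val_zero, pow_zero, pow_zero, mul_one]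
      map_mul' := fun s t => by
        show c ^ ((Multiplicative.toAdd s).1 + (Multiplicative.toAdd t).1).val *
            y ^ ((Multiplicative.toAdd s).2 + (Multiplicative.toAdd t).2).val =
          c ^ (Multiplicative.toAdd s).1.val * y ^ (Multiplicative.toAdd s).2.val *
            (c ^ (Multiplicative.toAdd t).1.val * y ^ (Multiplicative.toAdd t).2.val)
        rw [ZMod.val_add, ZMod.val_add, hc_pow_mod hcp, hc_pow_mod hyp, pow_add, pow_add]
        exact mul_mul_mul_comm _ _ _ _ }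
  have hφ : ∀ t, φ t =
      c ^ (Multiplicative.toAdd t).1.val * y ^ (Multiplicative.toAdd t).2.val := fun t => rfl
  have hφc : Nat.card φ.range ≤ p ^ 2 := by
    have h := Subgroup.card_range_dvd φ
    rw [Nat.card_congr Multiplicative.toAdd, Nat.card_prod, Nat.card_zmod] at h
    have h2 := Nat.le_of_dvd (Nat.mul_pos hpp.pos hpp.pos) h
    rw [pow_two]; exact h2
  have hcr : c ∈ φ.range := ⟨Multiplicative.ofAdd ((1 : ZMod p), (0 : ZMod p)), by
    rw [hφ]
    show c ^ ((1 : ZMod p)).val * y ^ ((0 : ZMod p)).val = c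
    rw [ZMod.val_one p, ZMod.val_zero, pow_one, pow_zero, mul_one]⟩
  have hyr : y ∈ φ.range := ⟨Multiplicative.ofAdd ((0 : ZMod p), (1 : ZMod p)), by
    rw [hφ]
    show c ^ ((0 : ZMod p)).val * y ^ ((1 : ZMod p)).val = y
    rw [ZMod.val_one p, ZMod.val_zero, pow_one, pow_zero, one_mul]⟩
  obtain ⟨z, hzK, hzr⟩ : ∃ z ∈ hcKer G p, z ∉ φ.range := by
    by_contra hall
    push Not at hall
    have hle : hcKer G p ≤ φ.range := hall
    have := Subgroup.card_le_of_le hle
    rw [hKc] at this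
    have h3 : p ^ 2 < p ^ 3 := Nat.pow_lt_pow_right hpp.one_lt (by norm_num)
    omega
  have hzp : z ^ p = 1 := mem_hcKer.mp hzK
  have hroot : ∀ (g : G) (n : ℕ), g ^ p = 1 → ¬ p ∣ n → ∃ j : ℕ, g = (g ^ n) ^ j := by
    intro g n hg hn
    have hcop : Nat.Coprime n p := Nat.Coprime.symm ((Nat.Prime.coprime_iff_not_dvd hpp).mpr hn)
    obtain ⟨j, -, hj⟩ := Nat.exists_mul_mod_eq_one_of_coprime hcop hpp.one_lt
    exact ⟨j, by rw [← pow_mul, ← hc_pow_mod hg (n * j), hj, pow_one]⟩
  have hind : ∀ a b e : ℕ, c ^ a * y ^ b * z ^ e = 1 → p ∣ a ∧ p ∣ b ∧ p ∣ e := by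
    intro a b e h
    have he : p ∣ e := by
      by_contra hne
      obtain ⟨j, hj⟩ := hroot z e hzp hne
      apply hzr
      have h1 : z ^ e = (c ^ a * y ^ b)⁻¹ := eq_inv_of_mul_eq_one_right h
      rw [hj, h1]
      exact Subgroup.pow_mem _ (Subgroup.inv_mem _
        (Subgroup.mul_mem _ (Subgroup.pow_mem _ hcr a) (Subgroup.pow_mem _ hyr b))) j
    have hze : z ^ e = 1 := by
      obtain ⟨e', rfl⟩ := he
      rw [pow_mul, hzp, one_pow]
    rw [hze, mul_one] at h
    have hb : p ∣ b := by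
      by_contra hne
      obtain ⟨j, hj⟩ := hroot y b hyp hne
      apply hyc
      have h1 : y ^ b = (c ^ a)⁻¹ := eq_inv_of_mul_eq_one_right h
      rw [hj, h1]
      exact Subgroup.pow_mem _ (Subgroup.inv_mem _
        (Subgroup.pow_mem _ (Subgroup.mem_zpowers c) a)) j
    have hyb : y ^ b = 1 := by
      obtain ⟨b', rfl⟩ := hb
      rw [pow_mul, hyp, one_pow]
    rw [hyb, mul_one] at h
    refine ⟨?_, hb, he⟩
    have h8 := orderOf_dvd_of_pow_eq_one h
    rwa [hoc] at h8
  let ψ : Multiplicative (ZMod (p ^ 2) × ZMod p × ZMod p) →* G :=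
    { toFun := fun t => x₀ ^ (Multiplicative.toAdd t).1.val *
        y ^ (Multiplicative.toAdd t).2.1.val * z ^ (Multiplicative.toAdd t).2.2.val
      map_one' := by
        show x₀ ^ ((0 : ZMod (p ^ 2) × ZMod p × ZMod p)).1.val *
          y ^ ((0 : ZMod (p ^ 2) × ZMod p × ZMod p)).2.1.val *
          z ^ ((0 : ZMod (p ^ 2) × ZMod p × ZMod p)).2.2.val = 1
        simp
      map_mul' := fun s t => by
        show x₀ ^ ((Multiplicative.toAdd s).1 + (Multiplicative.toAdd t).1).val *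
            y ^ ((Multiplicative.toAdd s).2.1 + (Multiplicative.toAdd t).2.1).val *
            z ^ ((Multiplicative.toAdd s).2.2 + (Multiplicative.toAdd t).2.2).val =
          x₀ ^ (Multiplicative.toAdd s).1.val * y ^ (Multiplicative.toAdd s).2.1.val *
            z ^ (Multiplicative.toAdd s).2.2.val *
            (x₀ ^ (Multiplicative.toAdd t).1.val * y ^ (Multiplicative.toAdd t).2.1.val *
              z ^ (Multiplicative.toAdd t).2.2.val)
        rw [ZMod.val_add, ZMod.val_add, ZMod.val_add, hc_pow_mod (hp2 x₀), hc_pow_mod hyp,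
          hc_pow_mod hzp, pow_add, pow_add, pow_add]
        exact p4_mul6 _ _ _ _ _ _ }
  have hψ : ∀ t, ψ t = x₀ ^ (Multiplicative.toAdd t).1.val *
      y ^ (Multiplicative.toAdd t).2.1.val * z ^ (Multiplicative.toAdd t).2.2.val :=
    fun t => rfl
  have hinj : Function.Injective ψ := by
    rw [injective_iff_map_eq_one]
    intro t ht
    rw [hψ] at ht
    have h1 : c ^ (Multiplicative.toAdd t).1.val = 1 := by
      have h2 : (x₀ ^ (Multiplicative.toAdd t).1.val * y ^ (Multiplicative.toAdd t).2.1.val *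
          z ^ (Multiplicative.toAdd t).2.2.val) ^ p = 1 := by rw [ht, one_pow]
      rw [mul_pow, mul_pow, pow_right_comm y, pow_right_comm z, pow_right_comm x₀, hyp, hzp,
        one_pow, one_pow, mul_one, mul_one] at h2
      rw [hcdef]; exact h2
    obtain ⟨a', ha'⟩ : p ∣ (Multiplicative.toAdd t).1.val := by
      have h8 := orderOf_dvd_of_pow_eq_one h1
      rwa [hoc] at h8
    rw [ha', pow_mul, ← hcdef] at ht
    obtain ⟨h3, h4, h5⟩ := hind _ _ _ ht
    have hlt : (Multiplicative.toAdd t).1.val < p ^ 2 := ZMod.val_lt _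
    have ha0 : a' = 0 := by
      have h6 : p * a' < p * p := by rw [← ha', ← pow_two]; exact hlt
      have h7 : a' < p := lt_of_mul_lt_mul_left h6 (Nat.zero_le _)
      exact Nat.eq_zero_of_dvd_of_lt h3 h7
    have e1 : (Multiplicative.toAdd t).1 = 0 :=
      (ZMod.val_eq_zero _).mp (by rw [ha', ha0, mul_zero])
    have e2 : (Multiplicative.toAdd t).2.1 = 0 :=
      (ZMod.val_eq_zero _).mp (Nat.eq_zero_of_dvd_of_lt h4 (ZMod.val_lt _))
    have e3 : (Multiplicative.toAdd t).2.2 = 0 :=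
      (ZMod.val_eq_zero _).mp (Nat.eq_zero_of_dvd_of_lt h5 (ZMod.val_lt _))
    exact Multiplicative.toAdd.injective (Prod.ext e1 (Prod.ext e2 e3))
  have hcd : Nat.card (Multiplicative (ZMod (p ^ 2) × ZMod p × ZMod p)) = p ^ 4 := by
    rw [Nat.card_congr Multiplicative.toAdd, Nat.card_prod, Nat.card_prod, Nat.card_zmod,
      Nat.card_zmod]
    ring
  have hbij : Function.Bijective ψ :=
    hinj.bijective_of_nat_card_le (le_of_eq (by rw [hcd, hcard]))
  exact ⟨(MulEquiv.ofBijective ψ hbij).symm⟩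

theorem p4_ab_main [Finite G] (hcard : Nat.card G = p ^ 4) (A : Subgroup (MulAut G))
    (hA1 : ∀ R : Subgroup (MulAut G), R ≤ A → IsPGroup p R →
      (∀ a ∈ A, ∀ q ∈ R, a * q * a⁻¹ ∈ R) → R = ⊥)
    (x : MulAut G) (hxA : x ∈ A) (hx1 : x ≠ 1) (hxp : x ^ p = 1) :
    (∀ y : G, y ^ p = 1) ∨ Nonempty (G ≃* Multiplicative (ZMod (p ^ 2) × ZMod p × ZMod p)) ∨
      ((p = 2 ∨ p = 3) ∧ Nonempty (G ≃* Multiplicative (ZMod (p ^ 2) × ZMod (p ^ 2)))) := by
  have hpp : p.Prime := Fact.out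
  have hG : IsPGroup p G := IsPGroup.of_card hcard
  obtain ⟨i, hi4, hi⟩ := (Nat.dvd_prime_pow hpp).mp
    (show Nat.card (hcKer G p) ∣ p ^ 4 by
      rw [← hcard]; exact Subgroup.card_subgroup_dvd_card _)
  by_cases hi2 : i ≤ 2
  · right; right
    have hrk : ∀ K : Subgroup G, (∀ y ∈ K, y ^ p = 1) → Nat.card K ≤ p ^ 2 := by
      intro K hK
      have hle : K ≤ hcKer G p := fun y hy => mem_hcKer.mpr (hK y hy)
      calc Nat.card K ≤ Nat.card (hcKer G p) := Subgroup.card_le_of_le hle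
        _ = p ^ i := hi
        _ ≤ p ^ 2 := Nat.pow_le_pow_right hpp.pos hi2
    rcases hc_main hG A hA1 x hxA hx1 hxp hrk with ⟨-, h2⟩ | ⟨h3, k, ⟨e⟩⟩
    · exfalso
      rw [hcard] at h2
      have := Nat.pow_right_injective hpp.two_le h2
      omega
    · have hk : k = 2 := by
        have h1 : Nat.card G = Nat.card (Multiplicative (ZMod (p ^ k) × ZMod (p ^ k))) :=
          Nat.card_congr e.toEquiv
        rw [hcard, Nat.card_congr Multiplicative.toAdd, Nat.card_prod, Nat.card_zmod,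
          ← pow_add] at h1
        have := Nat.pow_right_injective hpp.two_le h1
        omega
      subst hk
      refine ⟨?_, ⟨e⟩⟩
      have h2 := hpp.two_le
      omega
  · by_cases hi3 : i = 3
    · right; left
      exact p4_ab_rank3 hcard (by rw [hi, hi3])
    · left
      have hi4' : i = 4 := by omega
      have htop : hcKer G p = ⊤ := Subgroup.eq_top_of_card_eq _ (by rw [hi, hi4', hcard])
      intro y
      exact mem_hcKer.mp (by rw [htop]; exact Subgroup.mem_top y)

end Ab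

/-- abelian groups of order `p⁴` with an automorphism group without normal `p`-subgroups but
with an element of order `p`. -/
theorem p4_abelian {G : Type*} [Group G] [Finite G] (hcomm : ∀ a b : G, a * b = b * a)
    {p : ℕ} [Fact p.Prime] (hcard : Nat.card G = p ^ 4) (A : Subgroup (MulAut G))
    (hA1 : ∀ R : Subgroup (MulAut G), R ≤ A → IsPGroup p R →
      (∀ a ∈ A, ∀ q ∈ R, a * q * a⁻¹ ∈ R) → R = ⊥)
    (x : MulAut G) (hxA : x ∈ A) (hx1 : x ≠ 1) (hxp : x ^ p = 1) :
    (∀ y : G, y ^ p = 1) ∨ Nonempty (G ≃* Multiplicative (ZMod (p ^ 2) × ZMod p × ZMod p)) ∨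
      ((p = 2 ∨ p = 3) ∧ Nonempty (G ≃* Multiplicative (ZMod (p ^ 2) × ZMod (p ^ 2)))) := by
  letI : CommGroup G := { (inferInstance : Group G) with mul_comm := hcomm }
  exact p4_ab_main hcard A hA1 x hxA hx1 hxp

end Cfsg.Agent.Helper26
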