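import Mathlib
import Cfsg.Agent.Helper2.SylU

set_option autoImplicit false

namespace Cfsg.Agent.Helper26.S4349m

open Cfsg.Agent.Helper2.SylU

variable {α : Type*} [Fintype α] [DecidableEq α]

theorem no_odd_norm
    (hAR : ∀ (D : Subgroup (Equiv.Perm α)), IsPGroup 2 D → ∀ O : Finset α, IsOrb D O →
      ∀ y ∈ D, Good y O → TransOrFix y O)
    (hT : ∀ (D : Subgroup (Equiv.Perm α)), IsPGroup 2 D → ∀ O : Finset α, IsOrb D O →
      ∀ y ∈ D, Good y O → ∀ g : Equiv.Perm α, (∀ d, d ∈ D ↔ g * d * g⁻¹ ∈ D) →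
      (∀ a, a ∈ O ↔ g a ∈ O) → Odd (orderOf g) → ∀ a ∈ O, g a = a)
    (x : Equiv.Perm α) (hgood : Good x Finset.univ) (D : Subgroup (Equiv.Perm α))
    (hD : IsPGroup 2 D) (hxD : x ∈ D) (g : Equiv.Perm α) (hgD : ∀ d ∈ D, g * d * g⁻¹ ∈ D)
    (hodd : Odd (orderOf g)) : g = 1 := by
  classical
  have hn : 0 < orderOf g := Odd.pos hodd
  have hpow : ∀ k : ℕ, ∀ d ∈ D, g ^ k * d * (g ^ k)⁻¹ ∈ D := by
    intro k
    induction k with
    | zero =>
      intro d hd
      simpa using hd
    | succ k ih =>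
      intro d hd
      have h := hgD _ (ih d hd)
      have e : g ^ (k + 1) * d * (g ^ (k + 1))⁻¹ = g * (g ^ k * d * (g ^ k)⁻¹) * g⁻¹ := by
        rw [pow_succ']
        group
      rw [e]
      exact h
  have hginv : ∀ d ∈ D, g⁻¹ * d * g ∈ D := by
    intro d hd
    have e : g ^ (orderOf g - 1) = g⁻¹ := by
      rw [eq_inv_iff_mul_eq_one, ← pow_succ, Nat.sub_add_cancel hn, pow_orderOf_eq_one]
    have h := hpow (orderOf g - 1) d hd
    rw [e, inv_inv] at h
    exact h
  have hiff : ∀ d, d ∈ D ↔ g * d * g⁻¹ ∈ D := by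
    intro d
    constructor
    · exact hgD d
    · intro h
      have h2 := hginv _ h
      have e : g⁻¹ * (g * d * g⁻¹) * g = d := by group
      rwa [e] at h2
  obtain ⟨orb, horb⟩ : ∃ orb : α → Finset α, ∀ a c, c ∈ orb a ↔ ∃ d ∈ D, d a = c :=
    ⟨fun a => Finset.univ.filter (fun c => ∃ d ∈ D, d a = c), fun a c => by simp⟩
  have hself : ∀ a, a ∈ orb a := fun a => (horb a a).mpr ⟨1, D.one_mem, rfl⟩
  have hIsOrb : ∀ a, IsOrb D (orb a) := by
    intro a
    constructor
    · intro d hd c hc
      rw [horb] at hc ⊢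
      obtain ⟨d0, hd0, rfl⟩ := hc
      exact ⟨d * d0, D.mul_mem hd hd0, rfl⟩
    · intro c hc c' hc'
      rw [horb] at hc hc'
      obtain ⟨d0, hd0, rfl⟩ := hc
      obtain ⟨d1, hd1, rfl⟩ := hc'
      refine ⟨d1 * d0⁻¹, D.mul_mem hd1 (D.inv_mem hd0), ?_⟩
      rw [Equiv.Perm.mul_apply, Equiv.Perm.inv_def, Equiv.symm_apply_apply]
  have hGood : ∀ O : Finset α, Good x O := fun O =>
    ⟨fun p _ q _ => hgood.1 p (Finset.mem_univ p) q (Finset.mem_univ q),
     fun p _ q _ r _ =>
      hgood.2 p (Finset.mem_univ p) q (Finset.mem_univ q) r (Finset.mem_univ r)⟩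
  have hxinv : ∀ a c, c ∈ orb a → ∀ i : ℤ, (x ^ i) c ∈ orb a := fun a c hc i =>
    (hIsOrb a).1 _ (D.zpow_mem hxD i) c hc
  have himg : ∀ b c, c ∈ orb (g b) ↔ ∃ c' ∈ orb b, g c' = c := by
    intro b c
    constructor
    · intro hc
      rw [horb] at hc
      obtain ⟨d, hd, rfl⟩ := hc
      refine ⟨(g⁻¹ * d * g) b, (horb _ _).mpr ⟨_, hginv d hd, rfl⟩, ?_⟩
      simp [Equiv.Perm.mul_apply]
    · rintro ⟨c', hc', rfl⟩
      rw [horb] at hc' ⊢
      obtain ⟨d, hd, rfl⟩ := hc'
      refine ⟨g * d * g⁻¹, hgD d hd, ?_⟩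
      simp [Equiv.Perm.mul_apply]
  have hmeet : ∀ u v c, c ∈ orb u → c ∈ orb v → v ∈ orb u := by
    intro u v c hcu hcv
    rw [horb] at hcv
    obtain ⟨d, hd, rfl⟩ := hcv
    have h := (hIsOrb u).1 d⁻¹ (D.inv_mem hd) _ hcu
    simpa using h
  have hcardg : ∀ b, (orb (g b)).card = (orb b).card := by
    intro b
    have h : orb (g b) = (orb b).image g := by
      ext c
      rw [himg, Finset.mem_image]
    rw [h, Finset.card_image_of_injective _ g.injective]
  have hfix : ∀ u, (orb u).card = 1 → x u = u := by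
    intro u hu
    obtain ⟨w, hw⟩ := Finset.card_eq_one.mp hu
    have h1 := hself u
    have h2 := (hIsOrb u).1 x hxD u (hself u)
    rw [hw, Finset.mem_singleton] at h1 h2
    rw [h2]
    exact h1.symm
  apply Equiv.Perm.ext
  intro a
  rw [Equiv.Perm.one_apply]
  by_cases hga : g a ∈ orb a
  · have hgk : ∀ k : ℕ, ∀ c ∈ orb a, (g ^ k) c ∈ orb a := by
      intro k
      induction k with
      | zero =>
        intro c hc
        simpa using hc
      | succ k ih =>
        intro c hc
        have h1 := ih c hc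
        rw [pow_succ', Equiv.Perm.mul_apply]
        rw [horb] at h1
        obtain ⟨d, hd, hd'⟩ := h1
        rw [← hd']
        have h2 : g (d a) = (g * d * g⁻¹) (g a) := by simp [Equiv.Perm.mul_apply]
        rw [h2]
        exact (hIsOrb a).1 _ (hgD d hd) _ hga
    have hgO : ∀ c, c ∈ orb a ↔ g c ∈ orb a := by
      intro c
      constructor
      · intro hc
        have h := hgk 1 c hc
        simpa using h
      · intro hc
        have h1 := hgk (orderOf g - 1) (g c) hc
        have e : (g ^ (orderOf g - 1)) (g c) = c := by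
          rw [← Equiv.Perm.mul_apply, ← pow_succ, Nat.sub_add_cancel hn, pow_orderOf_eq_one,
            Equiv.Perm.one_apply]
        rwa [e] at h1
    exact hT D hD (orb a) (hIsOrb a) x hxD (hGood _) g hiff hgO hodd a (hself a)
  · exfalso
    have hgg : g (g a) ∉ orb a := by
      intro h
      have hk : ∀ k : ℕ, ((g * g) ^ k) a ∈ orb a := by
        intro k
        induction k with
        | zero => simpa using hself a
        | succ k ih =>
          rw [pow_succ', Equiv.Perm.mul_apply]
          rw [horb] at ih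
          obtain ⟨d, hd, hd'⟩ := ih
          rw [← hd']
          have h2 : (g * g) (d a) = (g * (g * d * g⁻¹) * g⁻¹) ((g * g) a) := by
            simp [Equiv.Perm.mul_apply]
          rw [h2]
          exact (hIsOrb a).1 _ (hgD _ (hgD d hd)) _ (by rw [Equiv.Perm.mul_apply]; exact h)
      obtain ⟨m, hm⟩ := hodd
      have e : (g * g) ^ (m + 1) = g := by
        rw [← pow_two, ← pow_mul, show 2 * (m + 1) = orderOf g + 1 by omega, pow_succ,
          pow_orderOf_eq_one, one_mul]
      have h3 := hk (m + 1)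
      rw [e] at h3
      exact hga h3
    have d12 : ∀ c, c ∈ orb a → c ∉ orb (g a) := fun c h1 h2 =>
      hga (hmeet a (g a) c h1 h2)
    have d13 : ∀ c, c ∈ orb a → c ∉ orb (g (g a)) := fun c h1 h2 =>
      hgg (hmeet a (g (g a)) c h1 h2)
    have d23 : ∀ c, c ∈ orb (g a) → c ∉ orb (g (g a)) := by
      intro c h1 h2
      have h3 := hmeet (g a) (g (g a)) c h1 h2
      rw [himg] at h3
      obtain ⟨c', hc', hc'e⟩ := h3
      have h4 : c' = g a := g.injective hc'e
      rw [h4] at hc'
      exact hga hc'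
    by_cases hs : (orb a).card = 1
    · have f1 := hfix a hs
      have f2 := hfix (g a) (by rw [hcardg, hs])
      have f3 := hfix (g (g a)) (by rw [hcardg, hcardg, hs])
      have n12 : a ≠ g a := fun h => hga (by rw [← h]; exact hself a)
      have n13 : a ≠ g (g a) := fun h => hgg (by rw [← h]; exact hself a)
      have n23 : g a ≠ g (g a) := fun h => n12 (g.injective h)
      rcases hgood.2 a (Finset.mem_univ _) (g a) (Finset.mem_univ _) (g (g a))
        (Finset.mem_univ _) f1 f2 f3 with h | h | h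
      · exact n12 h
      · exact n13 h
      · exact n23 h
    · have hs2 : 2 ≤ (orb a).card := by
        have h0 : 0 < (orb a).card := Finset.card_pos.mpr ⟨a, hself a⟩
        omega
      have key : ∀ w, (orb w).card = (orb a).card →
          (∀ p ∈ orb w, ∀ q ∈ orb w, x.SameCycle p q) →
          x w ≠ w ∧ (x.cycleOf w).support.card = (orb a).card := by
        intro w hw Tw
        have hmoved : x w ≠ w := by
          intro hfixw
          obtain ⟨q, hq, hqw⟩ : ∃ q ∈ orb w, q ≠ w := by
            have h1 : 1 < (orb w).card := by rw [hw]; exact hs2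
            obtain ⟨p, hp, q, hq, hpq⟩ := Finset.one_lt_card.mp h1
            by_cases h : p = w
            · exact ⟨q, hq, fun h' => hpq (h.trans h'.symm)⟩
            · exact ⟨p, hp, h⟩
          obtain ⟨i, hi⟩ := Tw w (hself w) q hq
          rw [Equiv.Perm.zpow_apply_eq_self_of_apply_eq_self hfixw] at hi
          exact hqw hi.symm
        refine ⟨hmoved, ?_⟩
        have hsupp : (x.cycleOf w).support = orb w := by
          ext c
          rw [Equiv.Perm.mem_support_cycleOf_iff]
          constructor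
          · rintro ⟨⟨i, hi⟩, _⟩
            rw [← hi]
            exact hxinv w w (hself w) i
          · intro hc
            exact ⟨Tw w (hself w) c hc, Equiv.Perm.mem_support.mpr hmoved⟩
        rw [hsupp, hw]
      have TT : ∀ u v, (orb u).card = (orb a).card → (orb v).card = (orb a).card →
          (∀ c, c ∈ orb u → c ∉ orb v) →
          (∀ p ∈ orb u, ∀ q ∈ orb u, x.SameCycle p q) →
          (∀ p ∈ orb v, ∀ q ∈ orb v, x.SameCycle p q) → False := by
        intro u v hu hv hdis Tu Tv
        obtain ⟨mu, cu⟩ := key u hu Tu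
        obtain ⟨mv, cv⟩ := key v hv Tv
        obtain ⟨i, hi⟩ := hgood.1 u (Finset.mem_univ _) v (Finset.mem_univ _) mu mv
          (by rw [cu, cv])
        have h1 : v ∈ orb u := by
          rw [← hi]
          exact hxinv u u (hself u) i
        exact hdis v h1 (hself v)
      have FF : ∀ u v, (∀ c, c ∈ orb u → c ∉ orb v) →
          (∃ p ∈ orb u, ∃ q ∈ orb u, p ≠ q ∧ x p = p ∧ x q = q) →
          (∃ p ∈ orb v, ∃ q ∈ orb v, p ≠ q ∧ x p = p ∧ x q = q) → False := by
        rintro u v hdis ⟨p, hp, q, hq, hpq, fp, fq⟩ ⟨p', hp', q', hq', _, fp', _⟩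
        rcases hgood.2 p (Finset.mem_univ _) q (Finset.mem_univ _) p' (Finset.mem_univ _)
          fp fq fp' with h | h | h
        · exact hpq h
        · exact hdis p hp (by rw [h]; exact hp')
        · exact hdis q hq (by rw [h]; exact hp')
      have tof : ∀ w, (∀ p ∈ orb w, ∀ q ∈ orb w, x.SameCycle p q) ∨
          (∃ p ∈ orb w, ∃ q ∈ orb w, p ≠ q ∧ x p = p ∧ x q = q) := by
        intro w
        rcases hAR D hD (orb w) (hIsOrb w) x hxD (hGood _) with h | ⟨p, hp, q, hq, hpq, fp, fq, _⟩
        · exact Or.inl h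
        · exact Or.inr ⟨p, hp, q, hq, hpq, fp, fq⟩
      have c2 : (orb (g a)).card = (orb a).card := hcardg a
      have c3 : (orb (g (g a))).card = (orb a).card := by rw [hcardg, hcardg]
      rcases tof a with T1 | F1 <;> rcases tof (g a) with T2 | F2 <;>
        rcases tof (g (g a)) with T3 | F3
      · exact TT a (g a) rfl c2 d12 T1 T2
      · exact TT a (g a) rfl c2 d12 T1 T2
      · exact TT a (g (g a)) rfl c3 d13 T1 T3
      · exact FF (g a) (g (g a)) d23 F2 F3
      · exact TT (g a) (g (g a)) c2 c3 d23 T2 T3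
      · exact FF a (g (g a)) d13 F1 F3
      · exact FF a (g a) d12 F1 F2
      · exact FF a (g a) d12 F1 F2

end Cfsg.Agent.Helper26.S4349m
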