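import Mathlib
import Cfsg.Agent.Helper26.LargeXS

/-!
Singular subgroups in the large extraspecial setting (helper26).

`Q x = O_2(C_G(x))` (in `G`), `Q z` extraspecial and self-centralizing.  A subgroup `U` is
singular when it is elementary abelian, consists of conjugates of `z`, and its non-identity
elements are pairwise orthogonal.  Main tools: `data_Qconj` (each `Q (g z g⁻¹)` is extraspecial
with centre `g z g⁻¹`), `exists_comm` (an element of an extraspecial 2-group commuting with a given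
finite set and moving a given element outside the subgroup they generate with the centre),
`LU_props`, `aut_induced`, `mem_Q_mul`.
-/

set_option autoImplicit false

namespace Cfsg.Agent.Helper26.Singular

open Cfsg Cfsg.Agent.Helper14.XS Cfsg.Agent.Helper26.LargeXS

variable {G : Type*} [Group G]

/-- A 2-subgroup of `H` normalized by `H` lies in the image of `O_2(H)`. -/
theorem le_pc {H N : Subgroup G} (hNH : N ≤ H) (hN2 : IsPGroup 2 N)
    (hnorm : ∀ c ∈ H, ∀ a ∈ N, c * a * c⁻¹ ∈ N) : N ≤ (pCore 2 ↥H).map H.subtype := by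
  have hn : (N.subgroupOf H).Normal := by
    constructor
    intro a ha c
    rw [Subgroup.mem_subgroupOf] at ha ⊢
    exact hnorm c c.2 a ha
  have h2 : IsPGroup 2 (N.subgroupOf H) :=
    hN2.comap_of_injective _ (Subgroup.subtype_injective _)
  have hle : N.subgroupOf H ≤ pCore 2 ↥H := le_sSup ⟨hn, h2⟩
  intro a ha
  exact Subgroup.mem_map.mpr ⟨⟨a, hNH ha⟩, hle (Subgroup.mem_subgroupOf.mpr ha), rfl⟩

theorem pc_le (H : Subgroup G) : (pCore 2 ↥H).map H.subtype ≤ H := by
  rintro _ ⟨b, _, rfl⟩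
  exact b.2

theorem pc_isPGroup [Finite G] (H : Subgroup G) :
    IsPGroup 2 ((pCore 2 ↥H).map H.subtype : Subgroup G) :=
  (Sylow.sSup_of_normal _ (fun _ hH => hH.2) (fun _ hH => hH.1)).map _

theorem pc_conj (H : Subgroup G) {c a : G} (hc : c ∈ H)
    (ha : a ∈ (pCore 2 ↥H).map H.subtype) : c * a * c⁻¹ ∈ (pCore 2 ↥H).map H.subtype := by
  obtain ⟨b, hb, rfl⟩ := Subgroup.mem_map.mp ha
  have hnormal : (pCore 2 ↥H).Normal := Subgroup.sSup_normal _ (fun _ hH => hH.1)
  exact Subgroup.mem_map.mpr ⟨⟨c, hc⟩ * b * ⟨c, hc⟩⁻¹, hnormal.conj_mem b hb ⟨c, hc⟩, rfl⟩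

/-- `x ↦ O_2(C_G(x))` is conjugation-equivariant. -/
theorem conj_mem_Q [Finite G] (Q : G → Subgroup G)
    (hQ : ∀ x : G, Q x = (pCore 2 ↥(Subgroup.centralizer ({x} : Set G))).map
      (Subgroup.centralizer ({x} : Set G)).subtype)
    (g x : G) {a : G} (ha : a ∈ Q x) : g * a * g⁻¹ ∈ Q (g * x * g⁻¹) := by
  have hle : (Q x).map (MulAut.conj g).toMonoidHom ≤ Q (g * x * g⁻¹) := by
    rw [hQ (g * x * g⁻¹)]
    apply le_pc
    · rintro _ ⟨b, hb, rfl⟩
      rw [hQ x] at hb
      have hb' := pc_le _ hb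
      rw [Subgroup.mem_centralizer_iff] at hb' ⊢
      intro y hy
      rw [Set.mem_singleton_iff] at hy
      have h1 : x * b = b * x := hb' x (Set.mem_singleton x)
      rw [hy]
      show g * x * g⁻¹ * (g * b * g⁻¹) = g * b * g⁻¹ * (g * x * g⁻¹)
      calc g * x * g⁻¹ * (g * b * g⁻¹) = g * (x * b) * g⁻¹ := by group
        _ = g * (b * x) * g⁻¹ := by rw [h1]
        _ = g * b * g⁻¹ * (g * x * g⁻¹) := by group
    · have h2 : IsPGroup 2 (Q x) := by rw [hQ x]; exact pc_isPGroup _
      exact h2.map _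
    · intro c hc a' ha'
      obtain ⟨b, hb, rfl⟩ := Subgroup.mem_map.mp ha'
      have hc' : g⁻¹ * c * g ∈ Subgroup.centralizer ({x} : Set G) := by
        rw [Subgroup.mem_centralizer_iff] at hc ⊢
        intro y hy
        rw [Set.mem_singleton_iff] at hy
        have h1 : g * x * g⁻¹ * c = c * (g * x * g⁻¹) := hc _ (Set.mem_singleton _)
        rw [hy]
        calc x * (g⁻¹ * c * g) = g⁻¹ * (g * x * g⁻¹ * c) * g := by group
          _ = g⁻¹ * (c * (g * x * g⁻¹)) * g := by rw [h1]
          _ = g⁻¹ * c * g * x := by group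
      have h3 : g⁻¹ * c * g * b * (g⁻¹ * c * g)⁻¹ ∈ Q x := by
        rw [hQ x] at hb ⊢
        exact pc_conj _ hc' hb
      refine Subgroup.mem_map.mpr ⟨g⁻¹ * c * g * b * (g⁻¹ * c * g)⁻¹, h3, ?_⟩
      show g * (g⁻¹ * c * g * b * (g⁻¹ * c * g)⁻¹) * g⁻¹ = c * (g * b * g⁻¹) * c⁻¹
      group
  exact hle (Subgroup.mem_map.mpr ⟨a, ha, rfl⟩)

/-- In the large extraspecial setting, `Q z` is extraspecial with centre `⟨z⟩`. -/
theorem data_Qz (Q : G → Subgroup G)
    (hQ : ∀ x : G, Q x = (pCore 2 ↥(Subgroup.centralizer ({x} : Set G))).map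
      (Subgroup.centralizer ({x} : Set G)).subtype)
    (z : G) (hz : orderOf z = 2) (hE : IsExtraspecial 2 ↥(Q z))
    (hC : Subgroup.centralizer ((Q z : Subgroup G) : Set G) ≤ Q z) : Data (Q z) z := by
  have hQle : ∀ b ∈ Q z, b * z = z * b := by
    intro b hb
    rw [hQ z] at hb
    obtain ⟨b', _, rfl⟩ := Subgroup.mem_map.mp hb
    exact (Subgroup.mem_centralizer_iff.mp b'.2 z (Set.mem_singleton z)).symm
  have hz1 : z ≠ 1 := by
    intro h
    rw [h, orderOf_one] at hz
    exact absurd hz (by norm_num)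
  have hzQ : z ∈ Q z := by
    apply hC
    rw [Subgroup.mem_centralizer_iff]
    intro b hb
    exact hQle b hb
  obtain ⟨z0, d, hcenter⟩ := of_extraspecial (Q z) hE
  have hz0 : z0 = z := by
    obtain ⟨-, -, -, -, -, -, hrad⟩ := id d
    rcases hrad z hzQ (fun b hb => hQle b hb) with h | h
    · exact absurd h hz1
    · exact h.symm
  rw [hz0] at d
  exact d

/-- Transport of `Data` along conjugation. -/
theorem data_of_conj {Q Q' : Subgroup G} {z : G} (d : Data Q z) (g : G)
    (h1 : ∀ a ∈ Q, g * a * g⁻¹ ∈ Q') (h2 : ∀ a ∈ Q', g⁻¹ * a * g ∈ Q) :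
    Data Q' (g * z * g⁻¹) := by
  obtain ⟨hzQ, hz1, hzz, hcen, hcomm, hsqr, hrad⟩ := d
  refine ⟨h1 z hzQ, ?_, ?_, ?_, ?_, ?_, ?_⟩
  · intro h
    apply hz1
    calc z = g⁻¹ * (g * z * g⁻¹) * g := by group
      _ = 1 := by rw [h, mul_one, inv_mul_cancel]
  · calc g * z * g⁻¹ * (g * z * g⁻¹) = g * (z * z) * g⁻¹ := by group
      _ = 1 := by rw [hzz, mul_one, mul_inv_cancel]
  · intro x hx
    have h3 := hcen _ (h2 x hx)
    calc x * (g * z * g⁻¹) = g * ((g⁻¹ * x * g) * z) * g⁻¹ := by group
      _ = g * (z * (g⁻¹ * x * g)) * g⁻¹ := by rw [h3]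
      _ = g * z * g⁻¹ * x := by group
  · intro a ha x hx
    have e : a * x * a⁻¹ * x⁻¹ = g * ((g⁻¹ * a * g) * (g⁻¹ * x * g) * (g⁻¹ * a * g)⁻¹ *
        (g⁻¹ * x * g)⁻¹) * g⁻¹ := by group
    rcases hcomm _ (h2 a ha) _ (h2 x hx) with h | h
    · left; rw [e, h, mul_one, mul_inv_cancel]
    · right; rw [e, h]
  · intro x hx
    have e : x * x = g * ((g⁻¹ * x * g) * (g⁻¹ * x * g)) * g⁻¹ := by group
    rcases hsqr _ (h2 x hx) with h | h
    · left; rw [e, h, mul_one, mul_inv_cancel]
    · right; rw [e, h]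
  · intro w hw hcw
    have h3 : g⁻¹ * w * g = 1 ∨ g⁻¹ * w * g = z := by
      apply hrad _ (h2 w hw)
      intro y hy
      have h4 := hcw _ (h1 y hy)
      calc y * (g⁻¹ * w * g) = g⁻¹ * ((g * y * g⁻¹) * w) * g := by group
        _ = g⁻¹ * (w * (g * y * g⁻¹)) * g := by rw [h4]
        _ = g⁻¹ * w * g * y := by group
    rcases h3 with h | h
    · left
      calc w = g * (g⁻¹ * w * g) * g⁻¹ := by group
        _ = 1 := by rw [h, mul_one, mul_inv_cancel]
    · right
      calc w = g * (g⁻¹ * w * g) * g⁻¹ := by group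
        _ = g * z * g⁻¹ := by rw [h]

/-- Each `Q (g z g⁻¹)` is extraspecial with centre `⟨g z g⁻¹⟩`. -/
theorem data_Qconj [Finite G] (Q : G → Subgroup G)
    (hQ : ∀ x : G, Q x = (pCore 2 ↥(Subgroup.centralizer ({x} : Set G))).map
      (Subgroup.centralizer ({x} : Set G)).subtype)
    (z : G) (hz : orderOf z = 2) (hE : IsExtraspecial 2 ↥(Q z))
    (hC : Subgroup.centralizer ((Q z : Subgroup G) : Set G) ≤ Q z) (g : G) :
    Data (Q (g * z * g⁻¹)) (g * z * g⁻¹) := by
  apply data_of_conj (data_Qz Q hQ z hz hE hC) g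
  · intro a ha; exact conj_mem_Q Q hQ g z ha
  · intro a ha
    have h := conj_mem_Q Q hQ g⁻¹ (g * z * g⁻¹) ha
    have e : g⁻¹ * (g * z * g⁻¹) * g⁻¹⁻¹ = z := by group
    rw [e, inv_inv] at h
    exact h

/-- In an extraspecial 2-group: an element commuting with a given finite set and moving a
given element outside the subgroup generated by the set and the centre. -/
theorem exists_comm {Q : Subgroup G} {z : G} (d : Data Q z) (s : Finset G) :
    (∀ a ∈ s, a ∈ Q) → ∀ x ∈ Q, x ∉ Subgroup.closure (insert z (s : Set G)) →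
      ∃ g ∈ Q, (∀ a ∈ s, g * a = a * g) ∧ SemiconjBy g x (z * x) := by
  classical
  have d' := d
  obtain ⟨hzQ, hz1, hzz, hcen, hcomm, hsqr, hrad⟩ := d'
  induction s using Finset.induction_on with
  | empty =>
    intro _ x hxQ hx
    have hx1 : x ≠ 1 := fun h => hx (by rw [h]; exact Subgroup.one_mem _)
    have hxz : x ≠ z :=
      fun h => hx (by rw [h]; exact Subgroup.subset_closure (Set.mem_insert _ _))
    obtain ⟨q, hqQ, hq⟩ := exists_moving d hxQ hx1 hxz
    exact ⟨q, hqQ, fun a ha => absurd ha (Finset.notMem_empty a), hq⟩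
  | insert a s has IH =>
    intro hs x hxQ hx
    have haQ : a ∈ Q := hs a (Finset.mem_insert_self a s)
    have hsQ : ∀ b ∈ s, b ∈ Q := fun b hb => hs b (Finset.mem_insert_of_mem hb)
    have hsub : Subgroup.closure (insert z (s : Set G)) ≤
        Subgroup.closure (insert z ((insert a s : Finset G) : Set G)) := by
      apply Subgroup.closure_mono
      intro y hy
      rcases hy with rfl | hy
      · exact Set.mem_insert _ _
      · exact Set.mem_insert_of_mem _
          (Finset.mem_coe.mpr (Finset.mem_insert_of_mem (Finset.mem_coe.mp hy)))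
    have haC : a ∈ Subgroup.closure (insert z ((insert a s : Finset G) : Set G)) :=
      Subgroup.subset_closure
        (Set.mem_insert_of_mem _ (Finset.mem_coe.mpr (Finset.mem_insert_self a s)))
    obtain ⟨g₀, hg₀Q, hg₀s, hg₀x⟩ := IH hsQ x hxQ (fun h => hx (hsub h))
    rcases sb_of_comm d hg₀Q haQ with h0 | h0
    · refine ⟨g₀, hg₀Q, ?_, hg₀x⟩
      intro b hb
      rcases Finset.mem_insert.mp hb with hb | hb
      · rw [hb]; exact h0.eq
      · exact hg₀s b hb
    · have hax : a * x ∉ Subgroup.closure (insert z (s : Set G)) := by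
        intro h
        apply hx
        have h1 := Subgroup.mul_mem _ (Subgroup.inv_mem _ haC) (hsub h)
        rw [inv_mul_cancel_left] at h1
        exact h1
      obtain ⟨g₁, hg₁Q, hg₁s, hg₁x⟩ := IH hsQ (a * x) (Q.mul_mem haQ hxQ) hax
      rcases sb_of_comm d hg₁Q haQ with h1 | h1
      · refine ⟨g₁, hg₁Q, ?_, ?_⟩
        · intro b hb
          rcases Finset.mem_insert.mp hb with hb | hb
          · rw [hb]; exact h1.eq
          · exact hg₁s b hb
        · have h2 : SemiconjBy g₁ (a⁻¹ * (a * x)) (a⁻¹ * (z * (a * x))) :=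
            h1.inv_right.mul_right hg₁x
          have e1 : a⁻¹ * (a * x) = x := inv_mul_cancel_left a x
          have e2 : a⁻¹ * (z * (a * x)) = z * x := by
            have h3 : a⁻¹ * z = z * a⁻¹ := hcen _ (Q.inv_mem haQ)
            calc a⁻¹ * (z * (a * x)) = (a⁻¹ * z) * (a * x) := (mul_assoc _ _ _).symm
              _ = (z * a⁻¹) * (a * x) := by rw [h3]
              _ = z * x := by group
          rw [e1, e2] at h2
          exact h2
      · have h2 : SemiconjBy g₁ x x := by
          have h3 : SemiconjBy g₁ (a⁻¹ * (a * x)) ((z * a)⁻¹ * (z * (a * x))) :=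
            h1.inv_right.mul_right hg₁x
          have e1 : a⁻¹ * (a * x) = x := inv_mul_cancel_left a x
          have e2 : (z * a)⁻¹ * (z * (a * x)) = x := by group
          rw [e1, e2] at h3
          exact h3
        have hg₀z : SemiconjBy g₀ z z := hcen g₀ hg₀Q
        have h4 : SemiconjBy g₀ (z * a) a := by
          have h5 : SemiconjBy g₀ (z * a) (z * (z * a)) := hg₀z.mul_right h0
          have e : z * (z * a) = a := by rw [← mul_assoc, hzz, one_mul]
          rw [e] at h5
          exact h5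
        refine ⟨g₀ * g₁, Q.mul_mem hg₀Q hg₁Q, ?_, SemiconjBy.mul_left hg₀x h2⟩
        intro b hb
        rcases Finset.mem_insert.mp hb with hb | hb
        · rw [hb]; exact (SemiconjBy.mul_left h4 h1).eq
        · have h6 : SemiconjBy g₀ b b := hg₀s b hb
          have h7 : SemiconjBy g₁ b b := hg₁s b hb
          exact (SemiconjBy.mul_left h6 h7).eq

theorem biSup_induction {ι : Type*} (s : Set ι) (S : ι → Subgroup G) {C : G → Prop} {x : G}
    (hx : x ∈ ⨆ i ∈ s, S i) (mem : ∀ i ∈ s, ∀ x ∈ S i, C x) (one : C 1)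
    (mul : ∀ x y, C x → C y → C (x * y)) : C x := by
  refine Subgroup.iSup_induction (fun i => ⨆ (_ : i ∈ s), S i) (C := C) hx ?_ one mul
  intro i y hy
  refine Subgroup.iSup_induction (fun (_ : i ∈ s) => S i) (C := C) hy ?_ one mul
  intro hi w hw
  exact mem i hi w hw

theorem comm_of_sq {U : Subgroup G} (hU2 : ∀ u ∈ U, u * u = 1) {a b : G} (ha : a ∈ U)
    (hb : b ∈ U) : a * b = b * a := by
  have h1 := hU2 _ (U.mul_mem ha hb)
  have h2 := hU2 a ha
  have h3 := hU2 b hb
  calc a * b = a * ((a * b) * (a * b)) * b := by rw [h1, mul_one]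
    _ = (a * a) * (b * a) * (b * b) := by group
    _ = b * a := by rw [h2, h3, one_mul, mul_one]

theorem singular_mem {Q : G → Subgroup G} {U : Subgroup G}
    (hO : ∀ u ∈ U, ∀ v ∈ U, u ≠ 1 → v ≠ 1 → v ∈ Q u) {u v : G} (hu : u ∈ U) (hu1 : u ≠ 1)
    (hv : v ∈ U) : v ∈ Q u := by
  by_cases hv1 : v = 1
  · rw [hv1]; exact (Q u).one_mem
  · exact hO u hu v hv hu1 hv1

/-- `LU` normalizes `U` and acts trivially on `QU / U`. -/
theorem LU_props {Q : G → Subgroup G} {U : Subgroup G}
    (hD : ∀ u ∈ U, u ≠ 1 → Data (Q u) u)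
    (hO : ∀ u ∈ U, ∀ v ∈ U, u ≠ 1 → v ≠ 1 → v ∈ Q u)
    {g : G} (hg : g ∈ ⨆ u ∈ ((U : Set G) \ {1}), Q u) :
    (∀ v ∈ U, g * v * g⁻¹ ∈ U) ∧
      (∀ x ∈ ⨅ u ∈ ((U : Set G) \ {1}), Q u, g * x * g⁻¹ * x⁻¹ ∈ U) := by
  refine biSup_induction ((U : Set G) \ {1}) Q
    (C := fun g => (∀ v ∈ U, g * v * g⁻¹ ∈ U) ∧
      (∀ x ∈ ⨅ u ∈ ((U : Set G) \ {1}), Q u, g * x * g⁻¹ * x⁻¹ ∈ U)) hg ?_ ?_ ?_
  · intro u hu g hg
    have hu' : u ∈ U := hu.1
    have hu1 : u ≠ 1 := fun h => hu.2 (Set.mem_singleton_iff.mpr h)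
    have d := hD u hu' hu1
    constructor
    · intro v hv
      rcases sb_of_comm d hg (singular_mem hO hu' hu1 hv) with h | h
      · have e : g * v * g⁻¹ = v := by rw [h.eq, mul_inv_cancel_right]
        rw [e]; exact hv
      · have e : g * v * g⁻¹ = u * v := by rw [h.eq, mul_inv_cancel_right]
        rw [e]; exact U.mul_mem hu' hv
    · intro x hx
      have hxu : x ∈ Q u := by
        simp only [Subgroup.mem_iInf] at hx
        exact hx u hu
      obtain ⟨-, -, -, -, hcomm, -, -⟩ := id d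
      rcases hcomm g hg x hxu with h | h
      · rw [h]; exact U.one_mem
      · rw [h]; exact hu'
  · constructor
    · intro v hv
      rw [one_mul, inv_one, mul_one]; exact hv
    · intro x _
      rw [one_mul, inv_one, mul_one, mul_inv_cancel]; exact U.one_mem
  · rintro g₁ g₂ ⟨h1a, h1b⟩ ⟨h2a, h2b⟩
    constructor
    · intro v hv
      have e : g₁ * g₂ * v * (g₁ * g₂)⁻¹ = g₁ * (g₂ * v * g₂⁻¹) * g₁⁻¹ := by group
      rw [e]; exact h1a _ (h2a v hv)
    · intro x hx
      have e : g₁ * g₂ * x * (g₁ * g₂)⁻¹ * x⁻¹ =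
          g₁ * (g₂ * x * g₂⁻¹ * x⁻¹) * g₁⁻¹ * (g₁ * x * g₁⁻¹ * x⁻¹) := by group
      rw [e]; exact U.mul_mem (h1a _ (h2b x hx)) (h1b x hx)

/-- `Q a ∩ Q b ≤ Q (a b)` for orthogonal `a ≠ b`. -/
theorem mem_Q_mul [Finite G] (Q : G → Subgroup G)
    (hQ : ∀ x : G, Q x = (pCore 2 ↥(Subgroup.centralizer ({x} : Set G))).map
      (Subgroup.centralizer ({x} : Set G)).subtype)
    {a b y : G} (d : Data (Q a) a) (hb : b ∈ Q a) (ha : a ∈ Q b) (hb1 : b ≠ 1) (hba : b ≠ a)
    (hya : y ∈ Q a) (hyb : y ∈ Q b) : y ∈ Q (a * b) := by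
  obtain ⟨τ, hτQ, hτ⟩ := exists_moving d hb hb1 hba
  have e1 : τ * b * τ⁻¹ = a * b := by rw [hτ.eq, mul_inv_cancel_right]
  rcases sb_of_comm d hτQ hya with h | h
  · have h1 := conj_mem_Q Q hQ τ b hyb
    have e2 : τ * y * τ⁻¹ = y := by rw [h.eq, mul_inv_cancel_right]
    rw [e1, e2] at h1
    exact h1
  · have h1 := conj_mem_Q Q hQ τ b ((Q b).mul_mem ha hyb)
    obtain ⟨-, -, hzz, hcen, -, -, -⟩ := id d
    have hτa : SemiconjBy τ a a := hcen τ hτQ
    have h2 : SemiconjBy τ (a * y) (a * (a * y)) := hτa.mul_right h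
    have e3 : a * (a * y) = y := by rw [← mul_assoc, hzz, one_mul]
    rw [e3] at h2
    have e2 : τ * (a * y) * τ⁻¹ = y := by rw [h2.eq, mul_inv_cancel_right]
    rw [e1, e2] at h1
    exact h1

/-- Every automorphism of a singular subgroup is induced by `LU` (inductive form). -/
theorem aut_induced {Q : G → Subgroup G} {U : Subgroup G}
    (hU2 : ∀ u ∈ U, u * u = 1)
    (hD : ∀ u ∈ U, u ≠ 1 → Data (Q u) u)
    (hO : ∀ u ∈ U, ∀ v ∈ U, u ≠ 1 → v ≠ 1 → v ∈ Q u)
    (φ : ↥U ≃* ↥U) (s : Finset G) :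
    (∀ a ∈ s, a ∈ U) → ∃ g ∈ ⨆ u ∈ ((U : Set G) \ {1}), Q u,
      ∀ w (hw : w ∈ U), w ∈ Subgroup.closure (s : Set G) →
        g * w * g⁻¹ = ((φ ⟨w, hw⟩ : ↥U) : G) := by
  classical
  induction s using Finset.induction_on with
  | empty =>
    intro _
    refine ⟨1, Subgroup.one_mem _, ?_⟩
    intro w hw hwc
    rw [Finset.coe_empty, Subgroup.closure_empty, Subgroup.mem_bot] at hwc
    subst hwc
    have e : (⟨1, hw⟩ : ↥U) = 1 := rfl
    rw [e, map_one, one_mul, inv_one, mul_one]
    rfl
  | insert a s has IH =>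
    intro hs
    have haU : a ∈ U := hs a (Finset.mem_insert_self a s)
    have hsU : ∀ b ∈ s, b ∈ U := fun b hb => hs b (Finset.mem_insert_of_mem hb)
    obtain ⟨g₀, hg₀L, hg₀⟩ := IH hsU
    have hcU' : Subgroup.closure ((insert a s : Finset G) : Set G) ≤ U :=
      (Subgroup.closure_le U).mpr (fun b hb => hs b (Finset.mem_coe.mp hb))
    have hext : ∀ g₁ : G, g₁ ∈ (⨆ u ∈ ((U : Set G) \ {1}), Q u) →
        (∀ b ∈ s, g₁ * b = b * g₁) →
        g₀ * (g₁ * a * g₁⁻¹) * g₀⁻¹ = ((φ ⟨a, haU⟩ : ↥U) : G) →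
        ∃ g ∈ ⨆ u ∈ ((U : Set G) \ {1}), Q u, ∀ w (hw : w ∈ U),
          w ∈ Subgroup.closure ((insert a s : Finset G) : Set G) →
            g * w * g⁻¹ = ((φ ⟨w, hw⟩ : ↥U) : G) := by
      intro g₁ hg₁L hg₁s hg₁a
      refine ⟨g₀ * g₁, Subgroup.mul_mem _ hg₀L hg₁L, ?_⟩
      intro w hw hwc
      have key : ∀ w, w ∈ Subgroup.closure ((insert a s : Finset G) : Set G) →
          ∀ hw : w ∈ U, g₀ * g₁ * w * (g₀ * g₁)⁻¹ = ((φ ⟨w, hw⟩ : ↥U) : G) := by
        intro w hwc
        induction hwc using Subgroup.closure_induction with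
        | mem y hy =>
          intro hyU
          rw [Finset.coe_insert] at hy
          have e : g₀ * g₁ * y * (g₀ * g₁)⁻¹ = g₀ * (g₁ * y * g₁⁻¹) * g₀⁻¹ := by group
          rcases hy with hy | hy
          · subst hy
            rw [e]; exact hg₁a
          · have hys : y ∈ s := Finset.mem_coe.mp hy
            have e2 : g₁ * y * g₁⁻¹ = y := by rw [hg₁s y hys, mul_inv_cancel_right]
            rw [e, e2]
            exact hg₀ y hyU (Subgroup.subset_closure hy)
        | one =>
          intro h1U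
          have e : (⟨1, h1U⟩ : ↥U) = 1 := rfl
          rw [e, map_one, mul_one, mul_inv_cancel]
          rfl
        | mul x y hx hy ihx ihy =>
          intro hxyU
          have hxU : x ∈ U := hcU' hx
          have hyU : y ∈ U := hcU' hy
          have e : g₀ * g₁ * (x * y) * (g₀ * g₁)⁻¹ =
              (g₀ * g₁ * x * (g₀ * g₁)⁻¹) * (g₀ * g₁ * y * (g₀ * g₁)⁻¹) := by group
          rw [e, ihx hxU, ihy hyU]
          have e2 : (⟨x * y, hxyU⟩ : ↥U) = ⟨x, hxU⟩ * ⟨y, hyU⟩ := rfl
          rw [e2, map_mul]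
          rfl
        | inv x hx ihx =>
          intro hxiU
          have hxU : x ∈ U := hcU' hx
          have e : g₀ * g₁ * x⁻¹ * (g₀ * g₁)⁻¹ = (g₀ * g₁ * x * (g₀ * g₁)⁻¹)⁻¹ := by group
          rw [e, ihx hxU]
          have e2 : (⟨x⁻¹, hxiU⟩ : ↥U) = (⟨x, hxU⟩ : ↥U)⁻¹ := rfl
          rw [e2, map_inv]
          rfl
      exact key w hwc hw
    by_cases haW : a ∈ Subgroup.closure (s : Set G)
    · refine ⟨g₀, hg₀L, ?_⟩
      intro w hw hwc
      apply hg₀ w hw
      have hle : Subgroup.closure ((insert a s : Finset G) : Set G) ≤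
          Subgroup.closure (s : Set G) := by
        rw [Subgroup.closure_le]
        intro y hy
        rw [Finset.coe_insert] at hy
        rcases hy with hy | hy
        · rw [hy]; exact haW
        · exact Subgroup.subset_closure hy
      exact hle hwc
    · obtain ⟨b, hbdef⟩ : ∃ b : G, b = g₀⁻¹ * ((φ ⟨a, haU⟩ : ↥U) : G) * g₀ := ⟨_, rfl⟩
      have hbU : b ∈ U := by
        have h1 := (LU_props hD hO (Subgroup.inv_mem _ hg₀L)).1 _ (φ ⟨a, haU⟩).2
        rw [inv_inv] at h1
        rw [hbdef]; exact h1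
      have hgb : g₀ * b * g₀⁻¹ = ((φ ⟨a, haU⟩ : ↥U) : G) := by
        rw [hbdef]; group
      have hbW : b ∉ Subgroup.closure (s : Set G) := by
        intro h
        have h1 := hg₀ b hbU h
        have h2 : φ ⟨b, hbU⟩ = φ ⟨a, haU⟩ := Subtype.ext (h1.symm.trans hgb)
        have h3 : (⟨b, hbU⟩ : ↥U) = ⟨a, haU⟩ := φ.injective h2
        have h4 : b = a := congrArg (fun t : ↥U => (t : G)) h3
        apply haW
        rw [← h4]; exact h
      by_cases hba : b = a
      · apply hext 1 (Subgroup.one_mem _) (fun b _ => by rw [one_mul, mul_one])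
        rw [hba] at hgb
        rw [one_mul, inv_one, mul_one]
        exact hgb
      · have hab : a * b = b * a := comm_of_sq hU2 haU hbU
        have hcU : a * b ∈ U := U.mul_mem haU hbU
        have haa := hU2 a haU
        have haba : a * b * a = b := by
          calc a * b * a = b * a * a := by rw [hab]
            _ = b * (a * a) := mul_assoc _ _ _
            _ = b := by rw [haa, mul_one]
        have hc1 : a * b ≠ 1 := by
          intro h
          apply hba
          calc b = (a * a) * b := by rw [haa, one_mul]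
            _ = a * (a * b) := mul_assoc _ _ _
            _ = a := by rw [h, mul_one]
        have d := hD (a * b) hcU hc1
        have haQ : a ∈ Q (a * b) := singular_mem hO hcU hc1 haU
        have hsQ : ∀ w ∈ s, w ∈ Q (a * b) := fun w hw => singular_mem hO hcU hc1 (hsU w hw)
        have hnot : a ∉ Subgroup.closure (insert (a * b) (s : Set G)) := by
          intro h
          have key : ∀ w, w ∈ Subgroup.closure (insert (a * b) (s : Set G)) →
              w ∈ U ∧ (w ∈ Subgroup.closure (s : Set G) ∨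
                (a * b) * w ∈ Subgroup.closure (s : Set G)) := by
            intro w hw
            induction hw using Subgroup.closure_induction with
            | mem y hy =>
              rcases hy with hy | hy
              · subst hy
                refine ⟨hcU, Or.inr ?_⟩
                rw [hU2 _ hcU]; exact Subgroup.one_mem _
              · exact ⟨hsU y (Finset.mem_coe.mp hy), Or.inl (Subgroup.subset_closure hy)⟩
            | one => exact ⟨U.one_mem, Or.inl (Subgroup.one_mem _)⟩
            | mul x y _ _ ihx ihy =>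
              obtain ⟨hxU, hx⟩ := ihx
              obtain ⟨hyU, hy⟩ := ihy
              refine ⟨U.mul_mem hxU hyU, ?_⟩
              have hcx : (a * b) * x = x * (a * b) := comm_of_sq hU2 hcU hxU
              rcases hx with hx | hx <;> rcases hy with hy | hy
              · exact Or.inl (Subgroup.mul_mem _ hx hy)
              · right
                have e : a * b * (x * y) = x * (a * b * y) := by
                  calc a * b * (x * y) = (a * b * x) * y := (mul_assoc _ _ _).symm
                    _ = (x * (a * b)) * y := by rw [hcx]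
                    _ = x * (a * b * y) := mul_assoc _ _ _
                rw [e]; exact Subgroup.mul_mem _ hx hy
              · right
                have e : a * b * (x * y) = (a * b * x) * y := (mul_assoc _ _ _).symm
                rw [e]; exact Subgroup.mul_mem _ hx hy
              · left
                have e : x * y = (a * b * x) * (a * b * y) := by
                  have hcc := hU2 _ hcU
                  calc x * y = x * ((a * b) * (a * b)) * y := by rw [hcc, mul_one]
                    _ = (x * (a * b)) * (a * b * y) := by group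
                    _ = (a * b * x) * (a * b * y) := by rw [hcx]
                rw [e]; exact Subgroup.mul_mem _ hx hy
            | inv x _ ihx =>
              obtain ⟨hxU, hx⟩ := ihx
              have e : x⁻¹ = x := inv_eq_of_mul_eq_one_left (hU2 x hxU)
              rw [e]; exact ⟨hxU, hx⟩
          rcases (key a h).2 with h1 | h1
          · exact haW h1
          · apply hbW
            rw [haba] at h1; exact h1
        obtain ⟨g₁, hg₁Q, hg₁s, hg₁a⟩ := exists_comm d s hsQ a haQ hnot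
        have hg₁L : g₁ ∈ ⨆ u ∈ ((U : Set G) \ {1}), Q u := by
          have hle : Q (a * b) ≤ ⨆ u ∈ ((U : Set G) \ {1}), Q u :=
            le_iSup₂ (f := fun u (_ : u ∈ (U : Set G) \ {1}) => Q u) (a * b)
              ⟨hcU, fun h => hc1 (Set.mem_singleton_iff.mp h)⟩
          exact hle hg₁Q
        apply hext g₁ hg₁L hg₁s
        have e : g₁ * a * g₁⁻¹ = b := by
          rw [hg₁a.eq, mul_inv_cancel_right]
          exact haba
        rw [e]; exact hgb

end Cfsg.Agent.Helper26.Singular
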