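import Mathlib
import Cfsg.Agent.S1782
import Cfsg.Agent.S1265
import Cfsg.Agent.Helper14.Basic
import Cfsg.Agent.Helper14.PElem
import Cfsg.Agent.Helper23.FixedLift
import Cfsg.Agent.Helper26.D8Cent

/-!
helper26: abelian TI 2-subgroups `A` of a group `X` with `F*(X) = O_2(X) = Q`.
`ti_comm`: relative form of S1782 (a family of TI subgroups of a 2-subgroup `P` of `X`, closed under
`P`-conjugation, each with an element of order at least 4, commute pairwise).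
`two_group_of_frat`: a subgroup acting trivially on `Q/Φ(Q)` is a 2-group when `C_X(Q) ≤ Q`.
`sq_mem_of_quadratic`: squares of elements of `A` lie in `Q`.
`normalClosure_comm`: conjugates of a TI subgroup `B ≤ Q` with an element of order 4 commute.
-/

set_option autoImplicit false

namespace Cfsg.Agent.Helper26.TISq

open Cfsg

theorem map_conj_mul {X : Type*} [Group X] (D : Subgroup X) (g h : X) :
    (D.map (MulAut.conj h).toMonoidHom).map (MulAut.conj g).toMonoidHom =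
      D.map (MulAut.conj (g * h)).toMonoidHom := by
  rw [Subgroup.map_map]
  congr 1
  ext x
  simp [mul_assoc]

theorem mem_map_conj {X : Type*} [Group X] (D : Subgroup X) (g x : X) :
    x ∈ D.map (MulAut.conj g).toMonoidHom ↔ ∃ d ∈ D, g * d * g⁻¹ = x := by
  constructor
  · rintro ⟨d, hd, rfl⟩
    exact ⟨d, hd, rfl⟩
  · rintro ⟨d, hd, rfl⟩
    exact ⟨d, hd, rfl⟩

theorem ti_comm {X : Type*} [Group X] [Finite X] (P : Subgroup X) (hP : IsPGroup 2 ↥P)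
    (𝒟 : Set (Subgroup X)) (hle : ∀ D ∈ 𝒟, D ≤ P)
    (hinv : ∀ p ∈ P, ∀ D ∈ 𝒟, D.map (MulAut.conj p).toMonoidHom ∈ 𝒟)
    (hsq : ∀ D ∈ 𝒟, ∃ x ∈ D, x * x ≠ 1)
    (hord : ∀ D ∈ 𝒟, ∀ E ∈ 𝒟, Nat.card ↥D = Nat.card ↥E)
    (hti : ∀ D ∈ 𝒟, ∀ E ∈ 𝒟, D = E ∨ D ⊓ E = ⊥) :
    ∀ D ∈ 𝒟, ∀ E ∈ 𝒟, D ≠ E → ∀ x ∈ D, ∀ y ∈ E, x * y = y * x := by
  have hmain : ∀ R ∈ {R : Subgroup ↥P | R.map P.subtype ∈ 𝒟},
      ∀ T ∈ {R : Subgroup ↥P | R.map P.subtype ∈ 𝒟}, R ≠ T → ⁅R, T⁆ = ⊥ := by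
    apply Cfsg.Agent.S1782.result hP
    · intro s R hR
      show (R.map (MulAut.conj s).toMonoidHom).map P.subtype ∈ 𝒟
      have e : (R.map (MulAut.conj s).toMonoidHom).map P.subtype =
          (R.map P.subtype).map (MulAut.conj (s : X)).toMonoidHom := by
        rw [Subgroup.map_map, Subgroup.map_map]
        exact congrArg (fun f => R.map f) (MonoidHom.ext fun r => by simp)
      rw [e]
      exact hinv s s.2 _ hR
    · intro R hR hbot
      obtain ⟨x, hx, hx2⟩ := hsq _ hR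
      obtain ⟨r, hr, rfl⟩ := hx
      have h1 := (Cfsg.Agent.Helper26.D8Cent.sq_comm_mem_frattini (hP.to_subgroup R)
        (⟨r, hr⟩ : ↥R) 1).1
      rw [hbot, Subgroup.mem_bot] at h1
      apply hx2
      have h2 := congrArg (fun t : ↥R => ((t : ↥P) : X)) h1
      simpa using h2
    · intro R hR T hT
      have h1 := hord _ hR _ hT
      rw [Subgroup.card_map_of_injective P.subtype_injective,
        Subgroup.card_map_of_injective P.subtype_injective] at h1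
      exact h1
    · intro R hR T hT
      rcases hti _ hR _ hT with h | h
      · left
        exact Subgroup.map_injective P.subtype_injective h
      · right
        rw [Subgroup.eq_bot_iff_forall]
        intro y hy
        have hy' : (y : X) ∈ R.map P.subtype ⊓ T.map P.subtype :=
          Subgroup.mem_inf.mpr ⟨Subgroup.mem_map_of_mem _ (Subgroup.mem_inf.mp hy).1,
            Subgroup.mem_map_of_mem _ (Subgroup.mem_inf.mp hy).2⟩
        rw [h, Subgroup.mem_bot] at hy'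
        exact Subtype.ext hy'
  intro D hD E hE hne x hx y hy
  have hDm : (D.subgroupOf P).map P.subtype = D := Subgroup.map_subgroupOf_eq_of_le (hle D hD)
  have hEm : (E.subgroupOf P).map P.subtype = E := Subgroup.map_subgroupOf_eq_of_le (hle E hE)
  have h1 := hmain (D.subgroupOf P) (by show _ ∈ 𝒟; rw [hDm]; exact hD) (E.subgroupOf P)
    (by show _ ∈ 𝒟; rw [hEm]; exact hE) (by
      intro h
      apply hne
      rw [← hDm, ← hEm, h])
  have h2 := Subgroup.commutator_eq_bot_iff_le_centralizer.mp h1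
  have hxP : x ∈ P := hle D hD hx
  have hyP : y ∈ P := hle E hE hy
  have h3 : (⟨x, hxP⟩ : ↥P) ∈ D.subgroupOf P := by rw [Subgroup.mem_subgroupOf]; exact hx
  have h4 : (⟨y, hyP⟩ : ↥P) ∈ E.subgroupOf P := by rw [Subgroup.mem_subgroupOf]; exact hy
  have h5 := Subgroup.mem_centralizer_iff.mp (h2 h3) ⟨y, hyP⟩ h4
  have h6 := congrArg Subtype.val h5
  exact h6.symm

theorem ti_conj {X : Type*} [Group X] (A : Subgroup X)
    (hti : ∀ h : X, A.map (MulAut.conj h).toMonoidHom = A ∨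
      A.map (MulAut.conj h).toMonoidHom ⊓ A = ⊥)
    (h h' : X) : A.map (MulAut.conj h).toMonoidHom = A.map (MulAut.conj h').toMonoidHom ∨
      A.map (MulAut.conj h).toMonoidHom ⊓ A.map (MulAut.conj h').toMonoidHom = ⊥ := by
  have e : A.map (MulAut.conj h).toMonoidHom =
      (A.map (MulAut.conj (h'⁻¹ * h)).toMonoidHom).map (MulAut.conj h').toMonoidHom := by
    rw [map_conj_mul, mul_inv_cancel_left]
  rcases hti (h'⁻¹ * h) with h1 | h1
  · left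
    rw [e, h1]
  · right
    rw [e, ← Subgroup.map_inf_eq _ _ _ (MulAut.conj h').injective, h1, Subgroup.map_bot]

theorem sq_ti {X : Type*} [Group X] (A : Subgroup X)
    (hti : ∀ h : X, A.map (MulAut.conj h).toMonoidHom = A ∨
      A.map (MulAut.conj h).toMonoidHom ⊓ A = ⊥) (h : X) :
    (Subgroup.closure ((fun a : X => a ^ 2) '' (A : Set X))).map (MulAut.conj h).toMonoidHom =
        Subgroup.closure ((fun a : X => a ^ 2) '' (A : Set X)) ∨
      (Subgroup.closure ((fun a : X => a ^ 2) '' (A : Set X))).map (MulAut.conj h).toMonoidHom ⊓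
        Subgroup.closure ((fun a : X => a ^ 2) '' (A : Set X)) = ⊥ := by
  have hBA : Subgroup.closure ((fun a : X => a ^ 2) '' (A : Set X)) ≤ A := by
    rw [Subgroup.closure_le]
    rintro _ ⟨a, ha, rfl⟩
    exact A.pow_mem ha 2
  rcases hti h with h1 | h1
  · left
    rw [MonoidHom.map_closure]
    congr 1
    ext x
    constructor
    · rintro ⟨_, ⟨a, ha, rfl⟩, rfl⟩
      refine ⟨(MulAut.conj h).toMonoidHom a, ?_, ?_⟩
      · have : (MulAut.conj h).toMonoidHom a ∈ A.map (MulAut.conj h).toMonoidHom :=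
          Subgroup.mem_map_of_mem _ ha
        rw [h1] at this
        exact this
      · exact (map_pow (MulAut.conj h).toMonoidHom a 2).symm
    · rintro ⟨a, ha, rfl⟩
      have ha' : a ∈ A.map (MulAut.conj h).toMonoidHom := by rw [h1]; exact ha
      obtain ⟨a0, ha0, rfl⟩ := ha'
      exact ⟨a0 ^ 2, ⟨a0, ha0, rfl⟩, map_pow (MulAut.conj h).toMonoidHom a0 2⟩
  · right
    rw [eq_bot_iff]
    refine le_trans ?_ (le_of_eq h1)
    exact inf_le_inf (Subgroup.map_mono hBA) hBA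

theorem frat_normal {X : Type*} [Group X] (Q : Subgroup X) [hQn : Q.Normal] :
    ((frattini ↥Q).map Q.subtype).Normal := by
  constructor
  rintro _ ⟨n, hn, rfl⟩ g
  refine ⟨MulAut.conjNormal g n, ?_, ?_⟩
  · have h := Subgroup.characteristic_iff_map_eq.mp
      (inferInstance : (frattini ↥Q).Characteristic) (MulAut.conjNormal g)
    rw [← h]
    exact Subgroup.mem_map_of_mem _ hn
  · simp

theorem two_group_of_frat {X : Type*} [Group X] [Finite X] (Q : Subgroup X) [hQn : Q.Normal]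
    (hQ2 : IsPGroup 2 ↥Q) (hCQ : Subgroup.centralizer (Q : Set X) ≤ Q)
    (K : Subgroup X)
    (hK : ∀ x ∈ K, ∀ v ∈ Q, v⁻¹ * x * v * x⁻¹ ∈ (frattini ↥Q).map Q.subtype) :
    IsPGroup 2 ↥K := by
  classical
  have hΦn := frat_normal Q
  have hΦQ : (frattini ↥Q).map Q.subtype ≤ Q := by
    rintro _ ⟨n, _, rfl⟩
    exact n.2
  have hΦ2 : IsPGroup 2 ↥((frattini ↥Q).map Q.subtype) := hQ2.to_le hΦQ
  by_contra hcon
  have hex : ∃ r : ℕ, r.Prime ∧ r ∣ Nat.card ↥K ∧ r ≠ 2 := by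
    by_contra hno
    push Not at hno
    apply hcon
    have hpos : Nat.card ↥K ≠ 0 := Nat.card_pos.ne'
    have := Nat.eq_prime_pow_of_unique_prime_dvd hpos (fun {d} hd hdvd => hno d hd hdvd)
    exact IsPGroup.of_card this
  obtain ⟨r, hr, hrK, hr2⟩ := hex
  haveI : Fact r.Prime := ⟨hr⟩
  obtain ⟨y, hy⟩ := exists_prime_orderOf_dvd_card' r hrK
  have hord : orderOf (y : X) = r := by
    rw [← hy]; exact (Subgroup.orderOf_coe y)
  have hyr : (y : X) ^ r = 1 := by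
    rw [← hord]; exact pow_orderOf_eq_one _
  have hP : IsPGroup r ↥(Subgroup.zpowers (y : X)) :=
    Cfsg.Agent.Helper14.isPGroup_zpowers_of_pow (y : X) 1 (by rw [pow_one]; exact hyr)
  have hPK : Subgroup.zpowers (y : X) ≤ K := Subgroup.zpowers_le.mpr y.2
  have hNr : ¬ r ∣ Nat.card ↥((frattini ↥Q).map Q.subtype) := by
    obtain ⟨n, hn⟩ := IsPGroup.iff_card.mp hΦ2
    rw [hn]
    intro hdvd
    have h1 := hr.dvd_of_dvd_pow hdvd
    exact hr2 ((Nat.prime_dvd_prime_iff_eq hr Nat.prime_two).mp h1)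
  have hlift : ∀ v ∈ Q, ∃ n ∈ (frattini ↥Q).map Q.subtype,
      (y : X) * (v * n) = (v * n) * (y : X) := by
    intro v hv
    obtain ⟨n, hn, hc⟩ := Cfsg.Agent.Helper23.exists_fixed_lift_gen
      ((frattini ↥Q).map Q.subtype) hNr
      (Subgroup.zpowers (y : X)) hP (fun c _ n hn => hΦn.conj_mem n hn c) v
      (fun c hc => hK c (hPK hc) v hv)
    exact ⟨n, hn, hc _ (Subgroup.mem_zpowers _)⟩
  obtain ⟨K', hK'⟩ : ∃ K' : Subgroup ↥Q,
      K' = (Subgroup.centralizer ({(y : X)} : Set X)).subgroupOf Q := ⟨_, rfl⟩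
  have hsup : K' ⊔ frattini ↥Q = ⊤ := by
    rw [eq_top_iff]
    intro a _
    obtain ⟨n, hn, hc⟩ := hlift a.1 a.2
    obtain ⟨n', hn', hn'e⟩ := hn
    have h1 : a * n' ∈ K' := by
      rw [hK', Subgroup.mem_subgroupOf, Subgroup.mem_centralizer_iff]
      intro g hg
      rw [Set.mem_singleton_iff] at hg
      rw [hg]
      show (y : X) * ((a : X) * (n' : X)) = (a : X) * (n' : X) * (y : X)
      have : (n' : X) = n := hn'e
      rw [this]
      exact hc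
    have h3 : a = (a * n') * n'⁻¹ := by group
    rw [h3]
    exact Subgroup.mul_mem _ (Subgroup.mem_sup_left h1)
      (Subgroup.mem_sup_right (Subgroup.inv_mem _ hn'))
  have hKtop : K' = ⊤ := frattini_nongenerating hsup
  have hyC : (y : X) ∈ Subgroup.centralizer (Q : Set X) := by
    rw [Subgroup.mem_centralizer_iff]
    intro q hq
    have h1 : (⟨q, hq⟩ : ↥Q) ∈ K' := by rw [hKtop]; exact Subgroup.mem_top _
    rw [hK', Subgroup.mem_subgroupOf, Subgroup.mem_centralizer_iff] at h1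
    exact (h1 (y : X) (Set.mem_singleton _)).symm
  have hyQ : (y : X) ∈ Q := hCQ hyC
  obtain ⟨k, hk⟩ := hQ2 ⟨(y : X), hyQ⟩
  have hk' : (y : X) ^ (2 ^ k) = 1 := by
    have h2 := congrArg Subtype.val hk
    simpa using h2
  have hdvd : r ∣ 2 ^ k := by
    rw [← hord]; exact orderOf_dvd_of_pow_eq_one hk'
  have h1 := hr.dvd_of_dvd_pow hdvd
  exact hr2 ((Nat.prime_dvd_prime_iff_eq hr Nat.prime_two).mp h1)

/-- The subgroup of elements of `X` acting trivially on `Q/Φ(Q)`. -/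
def fratCent {X : Type*} [Group X] (Q : Subgroup X) [Q.Normal] : Subgroup X where
  carrier := {x | ∀ v ∈ Q, v⁻¹ * x * v * x⁻¹ ∈ (frattini ↥Q).map Q.subtype}
  one_mem' := by
    intro v _
    simp
  mul_mem' := by
    intro x y hx hy v hv
    have hΦn := frat_normal Q
    have e : v⁻¹ * (x * y) * v * (x * y)⁻¹ =
        (v⁻¹ * x * v * x⁻¹) * (x * (v⁻¹ * y * v * y⁻¹) * x⁻¹) := by group
    rw [e]
    exact Subgroup.mul_mem _ (hx v hv) (hΦn.conj_mem _ (hy v hv) x)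
  inv_mem' := by
    intro x hx v hv
    have hΦn := frat_normal Q
    have e : v⁻¹ * x⁻¹ * v * x⁻¹⁻¹ = x⁻¹ * (v⁻¹ * x * v * x⁻¹)⁻¹ * x⁻¹⁻¹ := by group
    rw [e]
    exact hΦn.conj_mem _ (Subgroup.inv_mem _ (hx v hv)) x⁻¹

theorem mem_fratCent {X : Type*} [Group X] (Q : Subgroup X) [Q.Normal] (x : X) :
    x ∈ fratCent Q ↔ ∀ v ∈ Q, v⁻¹ * x * v * x⁻¹ ∈ (frattini ↥Q).map Q.subtype := Iff.rfl

theorem fratCent_normal {X : Type*} [Group X] (Q : Subgroup X) [hQn : Q.Normal] :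
    (fratCent Q).Normal := by
  constructor
  intro x hx g
  rw [mem_fratCent] at hx ⊢
  intro v hv
  have hΦn := frat_normal Q
  have hv' : g⁻¹ * v * g ∈ Q := by
    have := hQn.conj_mem v hv g⁻¹
    simpa using this
  have e : v⁻¹ * (g * x * g⁻¹) * v * (g * x * g⁻¹)⁻¹ =
      g * ((g⁻¹ * v * g)⁻¹ * x * (g⁻¹ * v * g) * x⁻¹) * g⁻¹ := by group
  rw [e]
  exact hΦn.conj_mem _ (hx _ hv') g

theorem sq_mem_of_quadratic {X : Type*} [Group X] [Finite X] (Q : Subgroup X) [hQn : Q.Normal]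
    (hQ2 : IsPGroup 2 ↥Q) (hCQ : Subgroup.centralizer (Q : Set X) ≤ Q)
    (hmax : ∀ N : Subgroup X, N.Normal → IsPGroup 2 ↥N → N ≤ Q)
    (A : Subgroup X) (hA2 : IsPGroup 2 ↥A)
    (hAa : ∀ x ∈ A, ∀ y ∈ A, x * y = y * x)
    (hti : ∀ h : X, A.map (MulAut.conj h).toMonoidHom = A ∨
      A.map (MulAut.conj h).toMonoidHom ⊓ A = ⊥)
    (a : X) (ha : a ∈ A) : a * a ∈ Q := by
  classical
  by_cases ha2 : a * a = 1
  · rw [ha2]; exact Subgroup.one_mem _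
  have hP2 : IsPGroup 2 ↥(A ⊔ Q) := IsPGroup.to_sup_of_normal_right hA2 hQ2
  obtain ⟨𝒟, h𝒟⟩ : ∃ 𝒟 : Set (Subgroup X),
      𝒟 = {D | ∃ h : X, D = A.map (MulAut.conj h).toMonoidHom ∧ D ≤ A ⊔ Q} := ⟨_, rfl⟩
  have h1 : ∀ D ∈ 𝒟, D ≤ A ⊔ Q := by
    intro D hD
    rw [h𝒟] at hD
    obtain ⟨h, -, hle⟩ := hD
    exact hle
  have h2 : ∀ p ∈ A ⊔ Q, ∀ D ∈ 𝒟, D.map (MulAut.conj p).toMonoidHom ∈ 𝒟 := by
    intro p hp D hD
    rw [h𝒟] at hD ⊢
    obtain ⟨h, rfl, hle⟩ := hD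
    refine ⟨p * h, map_conj_mul A p h, ?_⟩
    rintro _ ⟨d, hd, rfl⟩
    show p * d * p⁻¹ ∈ A ⊔ Q
    exact Subgroup.mul_mem _ (Subgroup.mul_mem _ hp (hle hd)) (Subgroup.inv_mem _ hp)
  have h3 : ∀ D ∈ 𝒟, ∃ x ∈ D, x * x ≠ 1 := by
    intro D hD
    rw [h𝒟] at hD
    obtain ⟨h, rfl, -⟩ := hD
    refine ⟨h * a * h⁻¹, (mem_map_conj A h _).mpr ⟨a, ha, rfl⟩, ?_⟩
    intro hc
    apply ha2
    calc a * a = h⁻¹ * ((h * a * h⁻¹) * (h * a * h⁻¹)) * h := by group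
      _ = 1 := by rw [hc]; group
  have h4 : ∀ D ∈ 𝒟, ∀ E ∈ 𝒟, Nat.card ↥D = Nat.card ↥E := by
    intro D hD E hE
    rw [h𝒟] at hD hE
    obtain ⟨h, rfl, -⟩ := hD
    obtain ⟨h', rfl, -⟩ := hE
    rw [Subgroup.card_map_of_injective (MulAut.conj h).injective,
      Subgroup.card_map_of_injective (MulAut.conj h').injective]
  have h5 : ∀ D ∈ 𝒟, ∀ E ∈ 𝒟, D = E ∨ D ⊓ E = ⊥ := by
    intro D hD E hE
    rw [h𝒟] at hD hE
    obtain ⟨h, rfl, -⟩ := hD
    obtain ⟨h', rfl, -⟩ := hE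
    exact ti_conj A hti h h'
  have hcomm := ti_comm (A ⊔ Q) hP2 𝒟 h1 h2 h3 h4 h5
  have hA𝒟 : A ∈ 𝒟 := by
    rw [h𝒟]
    refine ⟨1, ?_, le_sup_left⟩
    ext t
    rw [mem_map_conj]
    constructor
    · intro ht
      exact ⟨t, ht, by group⟩
    · rintro ⟨d, hd, rfl⟩
      simpa using hd
  have hquad : ∀ q ∈ Q, ∀ x ∈ A, ∀ y ∈ A, x * (q * y * q⁻¹) = (q * y * q⁻¹) * x := by
    intro q hq x hx y hy
    have hAq : A.map (MulAut.conj q).toMonoidHom ∈ 𝒟 :=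
      h2 q (Subgroup.mem_sup_right hq) A hA𝒟
    have hyq : q * y * q⁻¹ ∈ A.map (MulAut.conj q).toMonoidHom :=
      (mem_map_conj A q _).mpr ⟨y, hy, rfl⟩
    by_cases hne : A = A.map (MulAut.conj q).toMonoidHom
    · rw [← hne] at hyq
      exact hAa x hx _ hyq
    · exact hcomm A hA𝒟 _ hAq hne x hx _ hyq
  have hb : a * a ∈ fratCent Q := by
    rw [mem_fratCent]
    intro v hv
    have hw : a * (v⁻¹ * a * v) = (v⁻¹ * a * v) * a := by
      have := hquad v⁻¹ (Q.inv_mem hv) a ha a ha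
      rw [inv_inv] at this
      exact this
    have hw' : a⁻¹ * (v⁻¹ * a * v) = (v⁻¹ * a * v) * a⁻¹ := by
      calc a⁻¹ * (v⁻¹ * a * v) = a⁻¹ * ((v⁻¹ * a * v) * a) * a⁻¹ := by group
        _ = a⁻¹ * (a * (v⁻¹ * a * v)) * a⁻¹ := by rw [hw]
        _ = (v⁻¹ * a * v) * a⁻¹ := by group
    have e : v⁻¹ * (a * a) * v * (a * a)⁻¹ =
        (v⁻¹ * a * v * a⁻¹) * (v⁻¹ * a * v * a⁻¹) := by
      calc v⁻¹ * (a * a) * v * (a * a)⁻¹
          = (v⁻¹ * a * v) * ((v⁻¹ * a * v) * a⁻¹) * a⁻¹ := by group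
        _ = (v⁻¹ * a * v) * (a⁻¹ * (v⁻¹ * a * v)) * a⁻¹ := by rw [← hw']
        _ = (v⁻¹ * a * v * a⁻¹) * (v⁻¹ * a * v * a⁻¹) := by group
    rw [e]
    have hc : v⁻¹ * a * v * a⁻¹ ∈ Q := by
      have h6 := hQn.conj_mem v hv a
      have e2 : v⁻¹ * a * v * a⁻¹ = v⁻¹ * (a * v * a⁻¹) := by group
      rw [e2]
      exact Q.mul_mem (Q.inv_mem hv) h6
    have h7 := (Cfsg.Agent.Helper26.D8Cent.sq_comm_mem_frattini hQ2 (⟨_, hc⟩ : ↥Q) 1).1
    exact ⟨_, h7, rfl⟩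
  have hK2 : IsPGroup 2 ↥(fratCent Q) :=
    two_group_of_frat Q hQ2 hCQ (fratCent Q) (fun x hx v hv => (mem_fratCent Q x).mp hx v hv)
  exact hmax _ (fratCent_normal Q) hK2 hb

theorem normalClosure_comm {X : Type*} [Group X] [Finite X] (Q : Subgroup X) [hQn : Q.Normal]
    (hQ2 : IsPGroup 2 ↥Q) (A B : Subgroup X) (hBA : B ≤ A) (hBQ : B ≤ Q)
    (hAa : ∀ x ∈ A, ∀ y ∈ A, x * y = y * x)
    (hBsq : ∃ x ∈ B, x * x ≠ 1)
    (hBti : ∀ h h' : X, B.map (MulAut.conj h).toMonoidHom = B.map (MulAut.conj h').toMonoidHom ∨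
      B.map (MulAut.conj h).toMonoidHom ⊓ B.map (MulAut.conj h').toMonoidHom = ⊥) :
    ∀ g g' : X, ∀ x ∈ B, ∀ y ∈ B,
      (g * x * g⁻¹) * (g' * y * g'⁻¹) = (g' * y * g'⁻¹) * (g * x * g⁻¹) := by
  classical
  obtain ⟨𝒟, h𝒟⟩ : ∃ 𝒟 : Set (Subgroup X),
      𝒟 = {D | ∃ h : X, D = B.map (MulAut.conj h).toMonoidHom} := ⟨_, rfl⟩
  have h1 : ∀ D ∈ 𝒟, D ≤ Q := by
    intro D hD
    rw [h𝒟] at hD
    obtain ⟨h, rfl⟩ := hD
    rintro _ ⟨d, hd, rfl⟩
    show h * d * h⁻¹ ∈ Q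
    exact hQn.conj_mem d (hBQ hd) h
  have h2 : ∀ p ∈ Q, ∀ D ∈ 𝒟, D.map (MulAut.conj p).toMonoidHom ∈ 𝒟 := by
    intro p _ D hD
    rw [h𝒟] at hD ⊢
    obtain ⟨h, rfl⟩ := hD
    exact ⟨p * h, map_conj_mul B p h⟩
  have h3 : ∀ D ∈ 𝒟, ∃ x ∈ D, x * x ≠ 1 := by
    intro D hD
    rw [h𝒟] at hD
    obtain ⟨h, rfl⟩ := hD
    obtain ⟨b, hb, hb2⟩ := hBsq
    refine ⟨h * b * h⁻¹, (mem_map_conj B h _).mpr ⟨b, hb, rfl⟩, ?_⟩
    intro hc
    apply hb2
    calc b * b = h⁻¹ * ((h * b * h⁻¹) * (h * b * h⁻¹)) * h := by group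
      _ = 1 := by rw [hc]; group
  have h4 : ∀ D ∈ 𝒟, ∀ E ∈ 𝒟, Nat.card ↥D = Nat.card ↥E := by
    intro D hD E hE
    rw [h𝒟] at hD hE
    obtain ⟨h, rfl⟩ := hD
    obtain ⟨h', rfl⟩ := hE
    rw [Subgroup.card_map_of_injective (MulAut.conj h).injective,
      Subgroup.card_map_of_injective (MulAut.conj h').injective]
  have h5 : ∀ D ∈ 𝒟, ∀ E ∈ 𝒟, D = E ∨ D ⊓ E = ⊥ := by
    intro D hD E hE
    rw [h𝒟] at hD hE
    obtain ⟨h, rfl⟩ := hD
    obtain ⟨h', rfl⟩ := hE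
    exact hBti h h'
  have hcomm := ti_comm Q hQ2 𝒟 h1 h2 h3 h4 h5
  intro g g' x hx y hy
  have hD : B.map (MulAut.conj g).toMonoidHom ∈ 𝒟 := by rw [h𝒟]; exact ⟨g, rfl⟩
  have hE : B.map (MulAut.conj g').toMonoidHom ∈ 𝒟 := by rw [h𝒟]; exact ⟨g', rfl⟩
  have hxD : g * x * g⁻¹ ∈ B.map (MulAut.conj g).toMonoidHom :=
    (mem_map_conj B g _).mpr ⟨x, hx, rfl⟩
  have hyE : g' * y * g'⁻¹ ∈ B.map (MulAut.conj g').toMonoidHom :=
    (mem_map_conj B g' _).mpr ⟨y, hy, rfl⟩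
  by_cases hne : B.map (MulAut.conj g).toMonoidHom = B.map (MulAut.conj g').toMonoidHom
  · rw [← hne] at hyE
    obtain ⟨y', hy', hy'e⟩ := (mem_map_conj B g _).mp hyE
    rw [← hy'e]
    have := hAa x (hBA hx) y' (hBA hy')
    calc g * x * g⁻¹ * (g * y' * g⁻¹) = g * (x * y') * g⁻¹ := by group
      _ = g * (y' * x) * g⁻¹ := by rw [this]
      _ = g * y' * g⁻¹ * (g * x * g⁻¹) := by group
  · exact hcomm _ hD _ hE hne _ hxD _ hyE

end Cfsg.Agent.Helper26.TISq
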