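import Mathlib
import Cfsg.Prelude.Def_ClassificationK
import Cfsg.Agent.Helper26.Symp
import Cfsg.Agent.Helper26.TISq
import Cfsg.Agent.Helper26.LargeXS2
import Cfsg.Agent.Helper26.LargeXS
import Cfsg.Agent.Helper26.FrobLift
import Cfsg.Agent.Helper9.Layer
import Cfsg.Agent.S1265
import Cfsg.Agent.Helper23.FixedLift

/-!
helper26: `F*(C_G(z)) = Q` a 2-group of symplectic type and exponent dividing 4, and a conjugate
`z₂ = g z g⁻¹ ≠ z` of `z` inside `Q`.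

`Pk z Q`: the package of elementwise facts about `(z, Q)` (`Q ⊴ C(z)`, `C_{C(z)}(Q) ≤ Q`,
commutators and squares of `Q` in `{1, z}`, `z` the only central involution of `Q`, elements of
`C(z)` acting trivially on `Q/⟨z⟩` lie in `Q`).  `pk_of_hyp`, `Pk.conj`.
`conj_main`: some element of `Q₂` conjugates `z₁` to `z₁ z₂`.  `final`: `z₁ ∈ Q₂` and `⟨Q₁, Q₂⟩`
induces `S₃` on `⟨z₁, z₂⟩`.
-/

set_option autoImplicit false

namespace Cfsg.Agent.Helper26.SympConj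

open Cfsg

theorem mcz {G : Type*} [Group G] {x a : G} :
    a ∈ Subgroup.centralizer ({x} : Set G) ↔ a * x = x * a :=
  Cfsg.Agent.Helper26.LargeXS2.mem_cz

structure Pk {G : Type*} [Group G] (z : G) (Q : Subgroup G) : Prop where
  zz : z * z = 1
  z1 : z ≠ 1
  zQ : z ∈ Q
  cen : ∀ q ∈ Q, q * z = z * q
  nor : ∀ c : G, c * z = z * c → ∀ q ∈ Q, c * q * c⁻¹ ∈ Q
  self : ∀ c : G, c * z = z * c → (∀ q ∈ Q, c * q = q * c) → c ∈ Q
  comm : ∀ x ∈ Q, ∀ y ∈ Q, x * y * x⁻¹ * y⁻¹ = 1 ∨ x * y * x⁻¹ * y⁻¹ = z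
  sq : ∀ x ∈ Q, x * x = 1 ∨ x * x = z
  uniq : ∀ c ∈ Q, (∀ q ∈ Q, q * c = c * q) → c * c = 1 → c = 1 ∨ c = z
  triv : ∀ s : G, s * z = z * s →
    (∀ q ∈ Q, s * q * s⁻¹ * q⁻¹ = 1 ∨ s * q * s⁻¹ * q⁻¹ = z) →
    (∃ a ∈ Q, ∃ b ∈ Q, a * b * a⁻¹ * b⁻¹ = z) → s ∈ Q
  two : IsPGroup 2 ↥Q

theorem pk_of_hyp {G : Type*} [Group G] [Finite G] (z : G) (hz : orderOf z = 2)
    (hQ : Cfsg.IsOfSymplecticType
      ↥(Cfsg.generalizedFittingSubgroup ↥(Subgroup.centralizer ({z} : Set G))))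
    (Q : Subgroup G)
    (hF : (Cfsg.generalizedFittingSubgroup ↥(Subgroup.centralizer ({z} : Set G))).map
      (Subgroup.centralizer ({z} : Set G)).subtype = Q)
    (h4 : ∀ q ∈ Q, q ^ 4 = 1) : Pk z Q := by
  classical
  have hz1 : z ≠ 1 := by
    intro h; rw [h, orderOf_one] at hz; exact absurd hz (by norm_num)
  have hzz : z * z = 1 := by
    have := pow_orderOf_eq_one z
    rw [hz, pow_two] at this
    exact this
  have hzC : z ∈ Subgroup.centralizer ({z} : Set G) := mcz.mpr rfl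
  have hQC : ∀ b ∈ Q, b * z = z * b := by
    intro b hb
    rw [← hF] at hb
    obtain ⟨y, -, hy⟩ := Subgroup.mem_map.mp hb
    rw [← hy]
    exact mcz.mp y.2
  have hmemQ : ∀ (c : G) (hc : c ∈ Subgroup.centralizer ({z} : Set G)),
      c ∈ Q ↔ (⟨c, hc⟩ : Subgroup.centralizer ({z} : Set G)) ∈
        Cfsg.generalizedFittingSubgroup ↥(Subgroup.centralizer ({z} : Set G)) := by
    intro c hc
    rw [← hF]
    constructor
    · intro h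
      obtain ⟨y, hy, hyc⟩ := Subgroup.mem_map.mp h
      have e : y = ⟨c, hc⟩ := Subtype.ext hyc
      rw [← e]; exact hy
    · intro h
      exact Subgroup.mem_map.mpr ⟨_, h, rfl⟩
  have hkey : ∀ (c : G) (hc : c ∈ Subgroup.centralizer ({z} : Set G)),
      (∀ b ∈ Q, c * b = b * c) → c ∈ Q := by
    intro c hc hcb
    rw [hmemQ c hc]
    apply Cfsg.Agent.S1265.result
    rw [Subgroup.mem_centralizer_iff]
    intro y hy
    apply Subtype.ext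
    have hyQ : (y : G) ∈ Q := (hmemQ y y.2).mpr hy
    exact (hcb y hyQ).symm
  have hzQ : z ∈ Q := hkey z hzC (fun b hb => (hQC b hb).symm)
  have hFn := Cfsg.Agent.Helper9.generalizedFittingSubgroup_normal
    ↥(Subgroup.centralizer ({z} : Set G))
  have hN : ∀ c : G, c * z = z * c → ∀ b ∈ Q, c * b * c⁻¹ ∈ Q := by
    intro c hc b hb
    have hcC : c ∈ Subgroup.centralizer ({z} : Set G) := mcz.mpr hc
    have hbC : b ∈ Subgroup.centralizer ({z} : Set G) := mcz.mpr (hQC b hb)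
    have h1 := (hmemQ b hbC).mp hb
    have h2 := hFn.conj_mem _ h1 ⟨c, hcC⟩
    exact (hmemQ _ (Subgroup.mul_mem _ (Subgroup.mul_mem _ hcC hbC)
      (Subgroup.inv_mem _ hcC))).mpr h2
  have hzF : (⟨z, hzC⟩ : ↥(Subgroup.centralizer ({z} : Set G))) ∈
      Cfsg.generalizedFittingSubgroup ↥(Subgroup.centralizer ({z} : Set G)) :=
    (hmemQ z hzC).mp hzQ
  have hT4 : ∀ x : ↥(Cfsg.generalizedFittingSubgroup ↥(Subgroup.centralizer ({z} : Set G))),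
      x ^ 4 = 1 := by
    intro x
    have hx : ((x : ↥(Subgroup.centralizer ({z} : Set G))) : G) ∈ Q := (hmemQ _ x.1.2).mpr x.2
    have h := h4 _ hx
    apply Subtype.ext; apply Subtype.ext
    simpa using h
  obtain ⟨s1, s2, s3⟩ := Cfsg.Agent.Helper26.Symp.main hQ hT4 ⟨⟨z, hzC⟩, hzF⟩
    (by
      intro y
      apply Subtype.ext; apply Subtype.ext
      exact mcz.mp y.1.2)
    (by
      intro h
      apply hz1
      have := congrArg (fun t : ↥(Cfsg.generalizedFittingSubgroup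
        ↥(Subgroup.centralizer ({z} : Set G))) =>
        ((t : ↥(Subgroup.centralizer ({z} : Set G))) : G)) h
      simpa using this)
    (by
      apply Subtype.ext; apply Subtype.ext
      exact hzz)
  have lift : ∀ x ∈ Q, ∃ t : ↥(Cfsg.generalizedFittingSubgroup
      ↥(Subgroup.centralizer ({z} : Set G))),
      ((t : ↥(Subgroup.centralizer ({z} : Set G))) : G) = x := by
    intro x hx
    have hxC : x ∈ Subgroup.centralizer ({z} : Set G) := mcz.mpr (hQC x hx)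
    exact ⟨⟨⟨x, hxC⟩, (hmemQ x hxC).mp hx⟩, rfl⟩
  have hcomm : ∀ x ∈ Q, ∀ y ∈ Q, x * y * x⁻¹ * y⁻¹ = 1 ∨ x * y * x⁻¹ * y⁻¹ = z := by
    intro x hx y hy
    obtain ⟨t, rfl⟩ := lift x hx
    obtain ⟨t', rfl⟩ := lift y hy
    rcases s2 t t' with h | h
    · left
      have := congrArg (fun t : ↥(Cfsg.generalizedFittingSubgroup
        ↥(Subgroup.centralizer ({z} : Set G))) =>
        ((t : ↥(Subgroup.centralizer ({z} : Set G))) : G)) h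
      simpa using this
    · right
      have := congrArg (fun t : ↥(Cfsg.generalizedFittingSubgroup
        ↥(Subgroup.centralizer ({z} : Set G))) =>
        ((t : ↥(Subgroup.centralizer ({z} : Set G))) : G)) h
      simpa using this
  have hsq : ∀ x ∈ Q, x * x = 1 ∨ x * x = z := by
    intro x hx
    obtain ⟨t, rfl⟩ := lift x hx
    rcases s3 t with h | h
    · left
      have := congrArg (fun t : ↥(Cfsg.generalizedFittingSubgroup
        ↥(Subgroup.centralizer ({z} : Set G))) =>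
        ((t : ↥(Subgroup.centralizer ({z} : Set G))) : G)) h
      simpa using this
    · right
      have := congrArg (fun t : ↥(Cfsg.generalizedFittingSubgroup
        ↥(Subgroup.centralizer ({z} : Set G))) =>
        ((t : ↥(Subgroup.centralizer ({z} : Set G))) : G)) h
      simpa using this
  have huniq : ∀ c ∈ Q, (∀ q ∈ Q, q * c = c * q) → c * c = 1 → c = 1 ∨ c = z := by
    intro c hc hcen hcc
    obtain ⟨t, rfl⟩ := lift c hc
    have h1 : ∀ y : ↥(Cfsg.generalizedFittingSubgroup ↥(Subgroup.centralizer ({z} : Set G))),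
        y * t = t * y := by
      intro y
      apply Subtype.ext; apply Subtype.ext
      exact hcen _ ((hmemQ _ y.1.2).mpr y.2)
    have h2 : t * t = 1 := by
      apply Subtype.ext; apply Subtype.ext
      exact hcc
    rcases s1 t h1 h2 with h | h
    · left
      have := congrArg (fun t : ↥(Cfsg.generalizedFittingSubgroup
        ↥(Subgroup.centralizer ({z} : Set G))) =>
        ((t : ↥(Subgroup.centralizer ({z} : Set G))) : G)) h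
      simpa using this
    · right
      have := congrArg (fun t : ↥(Cfsg.generalizedFittingSubgroup
        ↥(Subgroup.centralizer ({z} : Set G))) =>
        ((t : ↥(Subgroup.centralizer ({z} : Set G))) : G)) h
      simpa using this
  have htriv : ∀ s : G, s * z = z * s →
      (∀ q ∈ Q, s * q * s⁻¹ * q⁻¹ = 1 ∨ s * q * s⁻¹ * q⁻¹ = z) →
      (∃ a ∈ Q, ∃ b ∈ Q, a * b * a⁻¹ * b⁻¹ = z) → s ∈ Q := by
    intro s hsz hs ⟨a, ha, b, hb, hab⟩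
    have hsC : s ∈ Subgroup.centralizer ({z} : Set G) := mcz.mpr hsz
    rw [hmemQ s hsC]
    haveI := hFn
    haveI : Fact (Nat.Prime 2) := ⟨Nat.prime_two⟩
    have hCQ' : Subgroup.centralizer
        ((Cfsg.generalizedFittingSubgroup ↥(Subgroup.centralizer ({z} : Set G)) :
          Subgroup ↥(Subgroup.centralizer ({z} : Set G))) :
          Set ↥(Subgroup.centralizer ({z} : Set G))) ≤
        Cfsg.generalizedFittingSubgroup ↥(Subgroup.centralizer ({z} : Set G)) :=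
      Cfsg.Agent.S1265.result
    have hK2 := Cfsg.Agent.Helper26.TISq.two_group_of_frat
      (Cfsg.generalizedFittingSubgroup ↥(Subgroup.centralizer ({z} : Set G))) hQ.1 hCQ'
      (Cfsg.Agent.Helper26.TISq.fratCent
        (Cfsg.generalizedFittingSubgroup ↥(Subgroup.centralizer ({z} : Set G))))
      (fun x hx v hv => (Cfsg.Agent.Helper26.TISq.mem_fratCent _ x).mp hx v hv)
    have hKn := Cfsg.Agent.Helper26.TISq.fratCent_normal
      (Cfsg.generalizedFittingSubgroup ↥(Subgroup.centralizer ({z} : Set G)))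
    have hKfit : Cfsg.Agent.Helper26.TISq.fratCent
        (Cfsg.generalizedFittingSubgroup ↥(Subgroup.centralizer ({z} : Set G))) ≤
        Cfsg.fittingSubgroup ↥(Subgroup.centralizer ({z} : Set G)) := by
      unfold Cfsg.fittingSubgroup
      exact le_sSup ⟨hKn, hK2.isNilpotent⟩
    have hKle : Cfsg.Agent.Helper26.TISq.fratCent
        (Cfsg.generalizedFittingSubgroup ↥(Subgroup.centralizer ({z} : Set G))) ≤
        Cfsg.generalizedFittingSubgroup ↥(Subgroup.centralizer ({z} : Set G)) :=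
      le_trans hKfit (le_sup_right : Cfsg.fittingSubgroup _ ≤ Cfsg.layer _ ⊔ Cfsg.fittingSubgroup _)
    apply hKle
    rw [Cfsg.Agent.Helper26.TISq.mem_fratCent]
    have hzΦ : (⟨z, hzC⟩ : ↥(Subgroup.centralizer ({z} : Set G))) ∈
        (frattini ↥(Cfsg.generalizedFittingSubgroup ↥(Subgroup.centralizer ({z} : Set G)))).map
          (Cfsg.generalizedFittingSubgroup ↥(Subgroup.centralizer ({z} : Set G))).subtype := by
      obtain ⟨ta, hta⟩ := lift a ha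
      obtain ⟨tb, htb⟩ := lift b hb
      refine ⟨ta * tb * ta⁻¹ * tb⁻¹,
        (Cfsg.Agent.Helper26.D8Cent.sq_comm_mem_frattini hQ.1 ta tb).2, ?_⟩
      apply Subtype.ext
      show ((ta : ↥(Subgroup.centralizer ({z} : Set G))) : G) * (tb : G) * (ta : G)⁻¹ * (tb : G)⁻¹ = z
      rw [hta, htb]; exact hab
    intro v hv
    have hvQ : ((v : ↥(Subgroup.centralizer ({z} : Set G))) : G) ∈ Q := (hmemQ _ v.2).mpr hv
    rcases hs _ (Q.inv_mem hvQ) with h | h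
    · have e : v⁻¹ * ⟨s, hsC⟩ * v * (⟨s, hsC⟩ : ↥(Subgroup.centralizer ({z} : Set G)))⁻¹ = 1 := by
        apply Subtype.ext
        show ((v : ↥(Subgroup.centralizer ({z} : Set G))) : G)⁻¹ * s * (v : G) * s⁻¹ = 1
        calc (v : G)⁻¹ * s * (v : G) * s⁻¹ = (s * (v : G)⁻¹ * s⁻¹ * (v : G)⁻¹⁻¹)⁻¹ := by group
          _ = 1 := by rw [h, inv_one]
      rw [e]; exact Subgroup.one_mem _
    · have e : v⁻¹ * ⟨s, hsC⟩ * v * (⟨s, hsC⟩ : ↥(Subgroup.centralizer ({z} : Set G)))⁻¹ =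
          ⟨z, hzC⟩ := by
        apply Subtype.ext
        show ((v : ↥(Subgroup.centralizer ({z} : Set G))) : G)⁻¹ * s * (v : G) * s⁻¹ = z
        calc (v : G)⁻¹ * s * (v : G) * s⁻¹ = (s * (v : G)⁻¹ * s⁻¹ * (v : G)⁻¹⁻¹)⁻¹ := by group
          _ = z := by rw [h]; exact inv_eq_of_mul_eq_one_right hzz
      rw [e]; exact hzΦ
  have h2 : IsPGroup 2 ↥Q := by rw [← hF]; exact hQ.1.map _
  exact ⟨hzz, hz1, hzQ, hQC, hN, fun c hcz hc => hkey c (mcz.mpr hcz) hc, hcomm, hsq, huniq,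
    htriv, h2⟩

theorem Pk.conj {G : Type*} [Group G] {z : G} {Q : Subgroup G} (h : Pk z Q) (g : G) :
    Pk (g * z * g⁻¹) (Q.map (MulAut.conj g).toMonoidHom) := by
  have key : ∀ x : G, x ∈ Q.map (MulAut.conj g).toMonoidHom ↔ g⁻¹ * x * g ∈ Q := by
    intro x
    rw [Cfsg.Agent.Helper26.TISq.mem_map_conj]
    constructor
    · rintro ⟨d, hd, rfl⟩
      have e : g⁻¹ * (g * d * g⁻¹) * g = d := by group
      rw [e]; exact hd
    · intro hx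
      exact ⟨g⁻¹ * x * g, hx, by group⟩
  have hcz : ∀ c : G, c * (g * z * g⁻¹) = (g * z * g⁻¹) * c → (g⁻¹ * c * g) * z = z * (g⁻¹ * c * g) := by
    intro c hc
    calc (g⁻¹ * c * g) * z = g⁻¹ * (c * (g * z * g⁻¹)) * g := by group
      _ = g⁻¹ * ((g * z * g⁻¹) * c) * g := by rw [hc]
      _ = z * (g⁻¹ * c * g) := by group
  refine ⟨?_, ?_, ?_, ?_, ?_, ?_, ?_, ?_, ?_, ?_, h.two.map _⟩
  · calc (g * z * g⁻¹) * (g * z * g⁻¹) = g * (z * z) * g⁻¹ := by group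
      _ = 1 := by rw [h.zz]; group
  · intro hh
    apply h.z1
    calc z = g⁻¹ * (g * z * g⁻¹) * g := by group
      _ = 1 := by rw [hh]; group
  · rw [key]
    have e : g⁻¹ * (g * z * g⁻¹) * g = z := by group
    rw [e]; exact h.zQ
  · intro q hq
    rw [key] at hq
    calc q * (g * z * g⁻¹) = g * ((g⁻¹ * q * g) * z) * g⁻¹ := by group
      _ = g * (z * (g⁻¹ * q * g)) * g⁻¹ := by rw [h.cen _ hq]
      _ = (g * z * g⁻¹) * q := by group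
  · intro c hc q hq
    rw [key] at hq ⊢
    have e : g⁻¹ * (c * q * c⁻¹) * g = (g⁻¹ * c * g) * (g⁻¹ * q * g) * (g⁻¹ * c * g)⁻¹ := by group
    rw [e]
    exact h.nor _ (hcz c hc) _ hq
  · intro c hc hcq
    rw [key]
    apply h.self _ (hcz c hc)
    intro q₀ hq₀
    have hq : g * q₀ * g⁻¹ ∈ Q.map (MulAut.conj g).toMonoidHom := by
      rw [key]
      have e : g⁻¹ * (g * q₀ * g⁻¹) * g = q₀ := by group
      rw [e]; exact hq₀
    have := hcq _ hq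
    calc (g⁻¹ * c * g) * q₀ = g⁻¹ * (c * (g * q₀ * g⁻¹)) * g := by group
      _ = g⁻¹ * ((g * q₀ * g⁻¹) * c) * g := by rw [this]
      _ = q₀ * (g⁻¹ * c * g) := by group
  · intro x hx y hy
    rw [key] at hx hy
    have e : x * y * x⁻¹ * y⁻¹ =
        g * ((g⁻¹ * x * g) * (g⁻¹ * y * g) * (g⁻¹ * x * g)⁻¹ * (g⁻¹ * y * g)⁻¹) * g⁻¹ := by group
    rcases h.comm _ hx _ hy with h1 | h1
    · left; rw [e, h1]; group
    · right; rw [e, h1]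
  · intro x hx
    rw [key] at hx
    have e : x * x = g * ((g⁻¹ * x * g) * (g⁻¹ * x * g)) * g⁻¹ := by group
    rcases h.sq _ hx with h1 | h1
    · left; rw [e, h1]; group
    · right; rw [e, h1]
  · intro c hc hcen hcc
    rw [key] at hc
    have hcen' : ∀ q₀ ∈ Q, q₀ * (g⁻¹ * c * g) = (g⁻¹ * c * g) * q₀ := by
      intro q₀ hq₀
      have hq : g * q₀ * g⁻¹ ∈ Q.map (MulAut.conj g).toMonoidHom := by
        rw [key]
        have e : g⁻¹ * (g * q₀ * g⁻¹) * g = q₀ := by group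
        rw [e]; exact hq₀
      have := hcen _ hq
      calc q₀ * (g⁻¹ * c * g) = g⁻¹ * ((g * q₀ * g⁻¹) * c) * g := by group
        _ = g⁻¹ * (c * (g * q₀ * g⁻¹)) * g := by rw [this]
        _ = (g⁻¹ * c * g) * q₀ := by group
    have hcc' : (g⁻¹ * c * g) * (g⁻¹ * c * g) = 1 := by
      calc (g⁻¹ * c * g) * (g⁻¹ * c * g) = g⁻¹ * (c * c) * g := by group
        _ = 1 := by rw [hcc]; group
    have e : c = g * (g⁻¹ * c * g) * g⁻¹ := by group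
    rcases h.uniq _ hc hcen' hcc' with h1 | h1
    · left; rw [e, h1]; group
    · right; rw [e, h1]
  · intro s hs hsq ⟨a, ha, b, hb, hab⟩
    rw [key] at ha hb ⊢
    apply h.triv _ (hcz s hs)
    · intro q₀ hq₀
      have hq : g * q₀ * g⁻¹ ∈ Q.map (MulAut.conj g).toMonoidHom := by
        rw [key]
        have e : g⁻¹ * (g * q₀ * g⁻¹) * g = q₀ := by group
        rw [e]; exact hq₀
      have e : (g⁻¹ * s * g) * q₀ * (g⁻¹ * s * g)⁻¹ * q₀⁻¹ =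
          g⁻¹ * (s * (g * q₀ * g⁻¹) * s⁻¹ * (g * q₀ * g⁻¹)⁻¹) * g := by group
      rcases hsq _ hq with h1 | h1
      · left; rw [e, h1]; group
      · right; rw [e, h1]; group
    · refine ⟨_, ha, _, hb, ?_⟩
      calc (g⁻¹ * a * g) * (g⁻¹ * b * g) * (g⁻¹ * a * g)⁻¹ * (g⁻¹ * b * g)⁻¹
          = g⁻¹ * (a * b * a⁻¹ * b⁻¹) * g := by group
        _ = z := by rw [hab]; group

theorem ncomm {G : Type*} [Group G] {z : G} {Q : Subgroup G} (h : Pk z Q) {x t : G}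
    (hx : x ∈ Q) (ht : t ∈ Q) (hne : x * t ≠ t * x) : x * t * x⁻¹ * t⁻¹ = z := by
  rcases h.comm x hx t ht with h1 | h1
  · exfalso; apply hne
    calc x * t = (x * t * x⁻¹ * t⁻¹) * (t * x) := by group
      _ = t * x := by rw [h1, one_mul]
  · exact h1

theorem lemA {G : Type*} [Group G] {z : G} {Q : Subgroup G} (h : Pk z Q) (t : G) (ht : t ∈ Q)
    (htt : t * t = 1) (ht1 : t ≠ 1) (htz : t ≠ z) : ∃ q ∈ Q, q * t * q⁻¹ * t⁻¹ = z := by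
  by_contra hcon
  push Not at hcon
  have hcen : ∀ q ∈ Q, q * t = t * q := by
    intro q hq
    by_contra hne
    exact hcon q hq (ncomm h hq ht hne)
  rcases h.uniq t ht hcen htt with h1 | h1
  · exact ht1 h1
  · exact htz h1

theorem zpow_comm {G : Type*} [Group G] {z ζ w : G} (hζ : ζ ∈ Subgroup.zpowers z)
    (hw : w * z = z * w) : w * ζ = ζ * w := by
  have h1 : Subgroup.zpowers z ≤ Subgroup.centralizer ({w} : Set G) := by
    rw [Subgroup.zpowers_le]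
    exact mcz.mpr hw.symm
  exact (mcz.mp (h1 hζ)).symm

theorem two_coset {G : Type*} [Group G] {z : G} {Q : Subgroup G} (h : Pk z Q) {t x₀ x : G}
    (ht : t ∈ Q) (hx₀ : x₀ ∈ Q) (hx : x ∈ Q) (h₀ : x₀ * t ≠ t * x₀) (h₁ : x * t ≠ t * x) :
    (x₀⁻¹ * x) * t = t * (x₀⁻¹ * x) := by
  have c₀ := ncomm h hx₀ ht h₀
  have c₁ := ncomm h hx ht h₁
  calc (x₀⁻¹ * x) * t
      = x₀⁻¹ * (x * t * x⁻¹ * t⁻¹) * (x₀ * t * x₀⁻¹ * t⁻¹)⁻¹ * x₀ * t * (x₀⁻¹ * x) := by group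
    _ = t * (x₀⁻¹ * x) := by rw [c₀, c₁]; group

theorem cent_dich {G : Type*} [Group G] {z₁ : G} {Q₁ : Subgroup G} (h₁ : Pk z₁ Q₁) {z₂ d : G}
    (hz₂ : z₂ ∈ Q₁) (hd : d ∈ Q₁) (hdR : ∀ r ∈ Q₁, r * z₂ = z₂ * r → r * d = d * r) :
    (∀ x ∈ Q₁, x * d = d * x) ∨ (∀ x ∈ Q₁, x * (d * z₂) = (d * z₂) * x) := by
  by_cases hcen : ∀ x ∈ Q₁, x * d = d * x
  · left; exact hcen
  · right
    push Not at hcen
    obtain ⟨x₀, hx₀, hx₀d⟩ := hcen
    have hx₀z : x₀ * z₂ ≠ z₂ * x₀ := fun hh => hx₀d (hdR x₀ hx₀ hh)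
    have hc1 := ncomm h₁ hx₀ hd hx₀d
    have hc2 := ncomm h₁ hx₀ hz₂ hx₀z
    have hx₀c : x₀ * (d * z₂) = (d * z₂) * x₀ := by
      calc x₀ * (d * z₂)
          = (x₀ * d * x₀⁻¹ * d⁻¹) * d * (x₀ * z₂ * x₀⁻¹ * z₂⁻¹) * z₂ * x₀ := by group
        _ = z₁ * d * z₁ * z₂ * x₀ := by rw [hc1, hc2]
        _ = d * (z₁ * z₁) * z₂ * x₀ := by rw [← h₁.cen d hd]; group
        _ = (d * z₂) * x₀ := by rw [h₁.zz]; group
    intro x hx
    by_cases hxz : x * z₂ = z₂ * x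
    · calc x * (d * z₂) = (x * d) * z₂ := by group
        _ = (d * x) * z₂ := by rw [hdR x hx hxz]
        _ = d * (x * z₂) := by group
        _ = d * (z₂ * x) := by rw [hxz]
        _ = (d * z₂) * x := by group
    · have hr := two_coset h₁ hz₂ hx₀ hx hx₀z hxz
      have hrQ : x₀⁻¹ * x ∈ Q₁ := Q₁.mul_mem (Q₁.inv_mem hx₀) hx
      have hrd := hdR _ hrQ hr
      calc x * (d * z₂) = x₀ * (((x₀⁻¹ * x) * d) * z₂) := by group
        _ = x₀ * ((d * (x₀⁻¹ * x)) * z₂) := by rw [hrd]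
        _ = x₀ * (d * ((x₀⁻¹ * x) * z₂)) := by group
        _ = x₀ * (d * (z₂ * (x₀⁻¹ * x))) := by rw [hr]
        _ = (x₀ * (d * z₂)) * (x₀⁻¹ * x) := by group
        _ = ((d * z₂) * x₀) * (x₀⁻¹ * x) := by rw [hx₀c]
        _ = (d * z₂) * x := by group

theorem exists_a {G : Type*} [Group G] [Finite G] {z₁ z₂ : G} {Q₁ Q₂ : Subgroup G}
    (h₁ : Pk z₁ Q₁) (h₂ : Pk z₂ Q₂) (hz12 : z₂ * z₁ = z₁ * z₂) (hz₁Q₂ : z₁ ∉ Q₂) :
    ∃ a ∈ Q₂, a * z₁ ≠ z₁ * a ∧ ∀ r ∈ Q₁, r * z₂ = z₂ * r →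
      (r * a * r⁻¹ * a⁻¹) * z₁ = z₁ * (r * a * r⁻¹ * a⁻¹) := by
  classical
  haveI : Fact (Nat.Prime 2) := ⟨Nat.prime_two⟩
  obtain ⟨R₁, hR₁⟩ : ∃ R₁ : Subgroup G, R₁ = Q₁ ⊓ Subgroup.centralizer ({z₂} : Set G) :=
    ⟨_, rfl⟩
  obtain ⟨R₂, hR₂⟩ : ∃ R₂ : Subgroup G, R₂ = Q₂ ⊓ Subgroup.centralizer ({z₁} : Set G) :=
    ⟨_, rfl⟩
  have mR₁ : ∀ r : G, r ∈ R₁ ↔ (r ∈ Q₁ ∧ r * z₂ = z₂ * r) := by
    intro r; rw [hR₁, Subgroup.mem_inf, mcz]
  have mR₂ : ∀ s : G, s ∈ R₂ ↔ (s ∈ Q₂ ∧ s * z₁ = z₁ * s) := by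
    intro s; rw [hR₂, Subgroup.mem_inf, mcz]
  have hR₁N : R₁ ≤ Subgroup.normalizer (Q₂ : Set G) := by
    intro r hr
    exact Cfsg.Agent.Helper26.mem_normalizer_of_conj_mem_frob Q₂ r
      (fun y hy => h₂.nor r ((mR₁ r).mp hr).2 y hy)
  have hR₁Q : R₁ ≤ Q₁ := by rw [hR₁]; exact inf_le_left
  have hP2 : IsPGroup 2 ↥(Q₂ ⊔ R₁) :=
    IsPGroup.to_sup_of_normal_left' h₂.two (h₁.two.to_le hR₁Q) hR₁N
  obtain ⟨H, hH⟩ : ∃ H : Subgroup G, H = R₁ ⊔ R₂ := ⟨_, rfl⟩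
  have hHP : H ≤ Q₂ ⊔ R₁ := by
    rw [hH]
    exact sup_le le_sup_right (le_trans (by rw [hR₂]; exact inf_le_left) le_sup_left)
  have hHc : H ≤ Subgroup.centralizer ({z₁} : Set G) := by
    rw [hH]
    refine sup_le ?_ (by rw [hR₂]; exact inf_le_right)
    intro r hr
    exact mcz.mpr (h₁.cen r ((mR₁ r).mp hr).1)
  have hHne : H.subgroupOf (Q₂ ⊔ R₁) ≠ ⊤ := by
    intro htop
    rw [Subgroup.subgroupOf_eq_top] at htop
    apply hz₁Q₂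
    apply h₂.self z₁ hz12.symm
    intro q hq
    have : q ∈ H := htop (Subgroup.mem_sup_left hq)
    exact (mcz.mp (hHc this)).symm
  haveI : Group.IsNilpotent ↥(Q₂ ⊔ R₁) := hP2.isNilpotent
  have hnc : NormalizerCondition ↥(Q₂ ⊔ R₁) := normalizerCondition_of_isNilpotent
  have hlt := hnc (H.subgroupOf (Q₂ ⊔ R₁)) (lt_top_iff_ne_top.mpr hHne)
  obtain ⟨y, hyN, hyH⟩ := SetLike.exists_of_lt hlt
  obtain ⟨a, haQ, r, hrR, har⟩ := Cfsg.Agent.Helper23.exists_mul_of_mem_sup hR₁N y.2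
  have hrH : r ∈ H := by rw [hH]; exact Subgroup.mem_sup_left hrR
  have hyconj : ∀ h ∈ H, (y : G) * h * (y : G)⁻¹ ∈ H := by
    intro h hh
    have h1 := (Subgroup.mem_normalizer_iff.mp hyN ⟨h, hHP hh⟩).mp
      (by rw [Subgroup.mem_subgroupOf]; exact hh)
    rw [Subgroup.mem_subgroupOf] at h1
    exact h1
  have haconj : ∀ h ∈ H, a * h * a⁻¹ ∈ H := by
    intro h hh
    have e : a * h * a⁻¹ = (y : G) * (r⁻¹ * h * r) * (y : G)⁻¹ := by rw [← har]; group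
    rw [e]
    exact hyconj _ (H.mul_mem (H.mul_mem (H.inv_mem hrH) hh) hrH)
  have haH : a ∉ H := by
    intro haH
    apply hyH
    rw [Subgroup.mem_subgroupOf, ← har]
    exact H.mul_mem haH hrH
  refine ⟨a, haQ, ?_, ?_⟩
  · intro hcomm
    apply haH
    rw [hH]
    exact Subgroup.mem_sup_right ((mR₂ a).mpr ⟨haQ, hcomm⟩)
  · intro r' hr' hr'z
    have hr'H : r' ∈ H := by
      rw [hH]; exact Subgroup.mem_sup_left ((mR₁ r').mpr ⟨hr', hr'z⟩)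
    have e : r' * a * r'⁻¹ * a⁻¹ = r' * (a * r'⁻¹ * a⁻¹) := by group
    have hmem : r' * a * r'⁻¹ * a⁻¹ ∈ H := by
      rw [e]; exact H.mul_mem hr'H (haconj _ (H.inv_mem hr'H))
    exact mcz.mp (hHc hmem)

theorem conj_main {G : Type*} [Group G] [Finite G] {z₁ z₂ : G} {Q₁ Q₂ : Subgroup G}
    (h₁ : Pk z₁ Q₁) (h₂ : Pk z₂ Q₂) (hz₂ : z₂ ∈ Q₁) (hne : z₂ ≠ z₁)
    (hnc₂ : ∃ a ∈ Q₂, ∃ b ∈ Q₂, a * b * a⁻¹ * b⁻¹ = z₂) :
    ∃ q ∈ Q₂, q * z₁ * q⁻¹ = z₁ * z₂ := by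
  classical
  by_contra hbad
  push Not at hbad
  have hz12 : z₂ * z₁ = z₁ * z₂ := h₁.cen z₂ hz₂
  have hz2i : z₂⁻¹ = z₂ := inv_eq_of_mul_eq_one_right h₂.zz
  have hz1i : z₁⁻¹ = z₁ := inv_eq_of_mul_eq_one_right h₁.zz
  have hZ₂ : ∀ ε : G, ε ∈ Subgroup.zpowers z₂ ↔ (ε = 1 ∨ ε = z₂) :=
    fun ε => Cfsg.Agent.Helper26.XSQuot.mem_zpowers_two h₂.zz
  have hb1 : ∀ q ∈ Q₂, z₁ * q * z₁⁻¹ * q⁻¹ ∈ Subgroup.zpowers z₂ → q * z₁ = z₁ * q := by
    intro q hq hmem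
    rcases (hZ₂ _).mp hmem with h | h
    · calc q * z₁ = (z₁ * q * z₁⁻¹ * q⁻¹)⁻¹ * (z₁ * q) := by group
        _ = z₁ * q := by rw [h, inv_one, one_mul]
    · exfalso
      apply hbad q hq
      calc q * z₁ * q⁻¹ = (z₁ * q * z₁⁻¹ * q⁻¹)⁻¹ * z₁ := by group
        _ = z₂ * z₁ := by rw [h, hz2i]
        _ = z₁ * z₂ := hz12
  have hz₁Q₂ : z₁ ∉ Q₂ := by
    intro hmem
    obtain ⟨q, hq, hqz⟩ := lemA h₂ z₁ hmem h₁.zz h₁.z1 (fun hh => hne hh.symm)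
    apply hbad q hq
    calc q * z₁ * q⁻¹ = (q * z₁ * q⁻¹ * z₁⁻¹) * z₁ := by group
      _ = z₂ * z₁ := by rw [hqz]
      _ = z₁ * z₂ := hz12
  have hD : ∀ d ∈ Q₁, d ∈ Q₂ → d = 1 ∨ d = z₂ := by
    intro d hd1 hd2
    have hdR : ∀ r ∈ Q₁, r * z₂ = z₂ * r → r * d = d * r := by
      intro r hr hrz
      have h2 : r * d * r⁻¹ * d⁻¹ ∈ Q₂ :=
        Q₂.mul_mem (h₂.nor r hrz d hd2) (Q₂.inv_mem hd2)
      by_contra hne'
      rw [ncomm h₁ hr hd1 hne'] at h2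
      exact hz₁Q₂ h2
    have hfin : ∀ c ∈ Q₁, c ∈ Q₂ → (∀ x ∈ Q₁, x * c = c * x) → c = 1 := by
      intro c hc1 hc2 hcen
      rcases h₁.sq c hc1 with h | h
      · rcases h₁.uniq c hc1 hcen h with h' | h'
        · exact h'
        · exfalso; rw [h'] at hc2; exact hz₁Q₂ hc2
      · exfalso; apply hz₁Q₂; rw [← h]; exact Q₂.mul_mem hc2 hc2
    rcases cent_dich h₁ hz₂ hd1 hdR with hcen | hcen
    · left; exact hfin d hd1 hd2 hcen
    · right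
      have := hfin (d * z₂) (Q₁.mul_mem hd1 hz₂) (Q₂.mul_mem hd2 h₂.zQ) hcen
      calc d = (d * z₂) * z₂⁻¹ := by group
        _ = z₂ := by rw [this, one_mul, hz2i]
  have hRR : ∀ r ∈ Q₁, r * z₂ = z₂ * r → ∀ s ∈ Q₂, s * z₁ = z₁ * s →
      r * s * r⁻¹ * s⁻¹ ∈ Subgroup.zpowers z₂ := by
    intro r hr hrz s hs hsz
    rw [hZ₂]
    apply hD
    · have e : r * s * r⁻¹ * s⁻¹ = r * (s * r⁻¹ * s⁻¹) := by group
      rw [e]; exact Q₁.mul_mem hr (h₁.nor s hsz r⁻¹ (Q₁.inv_mem hr))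
    · exact Q₂.mul_mem (h₂.nor r hrz s hs) (Q₂.inv_mem hs)
  by_cases hI : ∃ x ∈ Q₁, x * z₂ = z₂ * x ∧ ∃ y ∈ Q₁, y * z₂ = z₂ * y ∧
      (x * x = z₁ ∨ x * y * x⁻¹ * y⁻¹ = z₁)
  · obtain ⟨x, hx, hxz, y, hy, hyz, hxy⟩ := hI
    obtain ⟨a, haQ, haz, hφ⟩ := exists_a h₁ h₂ hz12 hz₁Q₂
    apply haz
    apply hb1 a haQ
    have hφQ : ∀ r ∈ Q₁, r * z₂ = z₂ * r → r * a * r⁻¹ * a⁻¹ ∈ Q₂ :=
      fun r hr hrz => Q₂.mul_mem (h₂.nor r hrz a haQ) (Q₂.inv_mem haQ)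
    rcases hxy with hsq | hcm
    · obtain ⟨u, hu⟩ : ∃ u : G, u = x * a * x⁻¹ * a⁻¹ := ⟨_, rfl⟩
      have huQ : u ∈ Q₂ := by rw [hu]; exact hφQ x hx hxz
      have huz : u * z₁ = z₁ * u := by rw [hu]; exact hφ x hx hxz
      have e : z₁ * a * z₁⁻¹ * a⁻¹ = (x * u * x⁻¹ * u⁻¹) * (u * u) := by
        rw [← hsq, hu]; group
      rw [e]
      refine Subgroup.mul_mem _ (hRR x hx hxz u huQ huz) ?_
      rw [hZ₂]; exact h₂.sq u huQ
    · obtain ⟨p, hp⟩ : ∃ p : G, p = x⁻¹ * a * x⁻¹⁻¹ * a⁻¹ := ⟨_, rfl⟩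
      obtain ⟨q, hq⟩ : ∃ q : G, q = y⁻¹ * a * y⁻¹⁻¹ * a⁻¹ := ⟨_, rfl⟩
      have hxi : x⁻¹ ∈ Q₁ := Q₁.inv_mem hx
      have hyi : y⁻¹ ∈ Q₁ := Q₁.inv_mem hy
      have hxiz : x⁻¹ * z₂ = z₂ * x⁻¹ := by
        calc x⁻¹ * z₂ = x⁻¹ * (z₂ * x) * x⁻¹ := by group
          _ = x⁻¹ * (x * z₂) * x⁻¹ := by rw [hxz]
          _ = z₂ * x⁻¹ := by group
      have hyiz : y⁻¹ * z₂ = z₂ * y⁻¹ := by
        calc y⁻¹ * z₂ = y⁻¹ * (z₂ * y) * y⁻¹ := by group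
          _ = y⁻¹ * (y * z₂) * y⁻¹ := by rw [hyz]
          _ = z₂ * y⁻¹ := by group
      have hpQ : p ∈ Q₂ := by rw [hp]; exact hφQ x⁻¹ hxi hxiz
      have hqQ : q ∈ Q₂ := by rw [hq]; exact hφQ y⁻¹ hyi hyiz
      have hpz : p * z₁ = z₁ * p := by rw [hp]; exact hφ x⁻¹ hxi hxiz
      have hqz : q * z₁ = z₁ * q := by rw [hq]; exact hφ y⁻¹ hyi hyiz
      obtain ⟨ζ, hζ⟩ : ∃ ζ : G, ζ = (x⁻¹ * q * x⁻¹⁻¹ * q⁻¹) * (q * p * q⁻¹ * p⁻¹) *
          (y⁻¹ * p * y⁻¹⁻¹ * p⁻¹)⁻¹ := ⟨_, rfl⟩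
      have hζZ : ζ ∈ Subgroup.zpowers z₂ := by
        rw [hζ]
        refine Subgroup.mul_mem _ (Subgroup.mul_mem _ (hRR x⁻¹ hxi hxiz q hqQ hqz) ?_)
          (Subgroup.inv_mem _ (hRR y⁻¹ hyi hyiz p hpQ hpz))
        rw [hZ₂]; exact h₂.comm q hqQ p hpQ
      have e : z₁ * a * z₁⁻¹ * a⁻¹ = (y⁻¹ * x⁻¹)⁻¹ * ζ * (y⁻¹ * x⁻¹) := by
        rw [← hcm, hζ, hp, hq]; group
      have hw : (y⁻¹ * x⁻¹) * z₂ = z₂ * (y⁻¹ * x⁻¹) := by
        calc (y⁻¹ * x⁻¹) * z₂ = y⁻¹ * (x⁻¹ * z₂) := by group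
          _ = y⁻¹ * (z₂ * x⁻¹) := by rw [hxiz]
          _ = (y⁻¹ * z₂) * x⁻¹ := by group
          _ = (z₂ * y⁻¹) * x⁻¹ := by rw [hyiz]
          _ = z₂ * (y⁻¹ * x⁻¹) := by group
      have hc := zpow_comm hζZ hw
      rw [e]
      have e2 : (y⁻¹ * x⁻¹)⁻¹ * ζ * (y⁻¹ * x⁻¹) = ζ := by
        calc (y⁻¹ * x⁻¹)⁻¹ * ζ * (y⁻¹ * x⁻¹) = (y⁻¹ * x⁻¹)⁻¹ * (ζ * (y⁻¹ * x⁻¹)) := by group
          _ = (y⁻¹ * x⁻¹)⁻¹ * ((y⁻¹ * x⁻¹) * ζ) := by rw [hc]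
          _ = ζ := by group
      rw [e2]; exact hζZ
  · push Not at hI
    have hRsq : ∀ x ∈ Q₁, x * z₂ = z₂ * x → x * x = 1 := by
      intro x hx hxz
      rcases h₁.sq x hx with h | h
      · exact h
      · exact absurd h (hI x hx hxz x hx hxz).1
    have hRab : ∀ x ∈ Q₁, x * z₂ = z₂ * x → ∀ y ∈ Q₁, y * z₂ = z₂ * y → x * y = y * x := by
      intro x hx hxz y hy hyz
      by_contra hne'
      exact (hI x hx hxz y hy hyz).2 (ncomm h₁ hx hy hne')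
    have hV : ∀ r ∈ Q₁, r * z₂ = z₂ * r → r = 1 ∨ r = z₁ ∨ r = z₂ ∨ r = z₁ * z₂ := by
      intro r hr hrz
      rcases cent_dich h₁ hz₂ hr (fun r' hr' hr'z => hRab r' hr' hr'z r hr hrz) with hcen | hcen
      · rcases h₁.uniq r hr hcen (hRsq r hr hrz) with h | h
        · left; exact h
        · right; left; exact h
      · have hrz2 : (r * z₂) * (r * z₂) = 1 := by
          calc (r * z₂) * (r * z₂) = r * (z₂ * r) * z₂ := by group
            _ = r * (r * z₂) * z₂ := by rw [← hrz]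
            _ = (r * r) * (z₂ * z₂) := by group
            _ = 1 := by rw [hRsq r hr hrz, h₂.zz, one_mul]
        rcases h₁.uniq (r * z₂) (Q₁.mul_mem hr hz₂) hcen hrz2 with h | h
        · right; right; left
          calc r = (r * z₂) * z₂⁻¹ := by group
            _ = z₂ := by rw [h, one_mul, hz2i]
        · right; right; right
          calc r = (r * z₂) * z₂⁻¹ := by group
            _ = z₁ * z₂ := by rw [h, hz2i]
    obtain ⟨a, ha, b, hb, hab⟩ := hnc₂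
    have ha1 : a ≠ 1 := by
      intro h; rw [h] at hab
      apply h₂.z1; rw [← hab]; group
    have haz₂ : a ≠ z₂ := by
      intro h; rw [h] at hab
      apply h₂.z1
      have := h₂.cen b hb
      calc z₂ = z₂ * b * z₂⁻¹ * b⁻¹ := hab.symm
        _ = (b * z₂) * z₂⁻¹ * b⁻¹ := by rw [this]
        _ = 1 := by group
    have hsex : ∃ s ∈ Q₂, s * z₁ = z₁ * s ∧ s ≠ 1 ∧ s ≠ z₂ := by
      obtain ⟨u, hu⟩ : ∃ u : G, u = a * (z₁ * a * z₁⁻¹) := ⟨_, rfl⟩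
      have hq' : z₁ * a * z₁⁻¹ ∈ Q₂ := h₂.nor z₁ hz12.symm a ha
      have huQ : u ∈ Q₂ := by rw [hu]; exact Q₂.mul_mem ha hq'
      have huz : u * z₁ = z₁ * u := by
        apply hb1 u huQ
        have e : z₁ * u * z₁⁻¹ * u⁻¹ = (z₁ * a * z₁⁻¹) * ((z₁ * z₁) * a * (z₁ * z₁)⁻¹) *
            (z₁ * a * z₁⁻¹)⁻¹ * a⁻¹ := by rw [hu]; group
        rw [e, h₁.zz, one_mul, inv_one, mul_one, hZ₂]
        exact h₂.comm _ hq' a ha
      by_cases hu1 : u = 1 ∨ u = z₂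
      · refine ⟨a, ha, ?_, ha1, haz₂⟩
        apply hb1 a ha
        have e : z₁ * a * z₁⁻¹ * a⁻¹ = (a⁻¹ * u * a) * (a * a)⁻¹ := by rw [hu]; group
        rw [e]
        have huZ : u ∈ Subgroup.zpowers z₂ := (hZ₂ u).mpr hu1
        have hc := zpow_comm huZ (h₂.cen a ha)
        have e2 : a⁻¹ * u * a = u := by
          calc a⁻¹ * u * a = a⁻¹ * (u * a) := by group
            _ = a⁻¹ * (a * u) := by rw [hc]
            _ = u := by group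
        rw [e2]
        exact Subgroup.mul_mem _ huZ (Subgroup.inv_mem _ ((hZ₂ _).mpr (h₂.sq a ha)))
      · push Not at hu1
        exact ⟨u, huQ, huz, hu1.1, hu1.2⟩
    obtain ⟨s, hsQ, hsz, hs1, hsz₂⟩ := hsex
    have hsQ₁ : s ∉ Q₁ := by
      intro h
      rcases hD s h hsQ with h' | h'
      · exact hs1 h'
      · exact hsz₂ h'
    apply hsQ₁
    have hsz2 : s * z₂ = z₂ * s := h₂.cen s hsQ
    obtain ⟨q₁, hq₁, hq₁z⟩ := lemA h₁ z₂ hz₂ h₂.zz h₂.z1 hne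
    apply h₁.triv s hsz ?_ ⟨q₁, hq₁, z₂, hz₂, hq₁z⟩
    intro x hx
    by_cases hxz : x * z₂ = z₂ * x
    · left
      have hsx : s * x = x * s := by
        rcases hV x hx hxz with h | h | h | h
        · rw [h, mul_one, one_mul]
        · rw [h]; exact hsz
        · rw [h]; exact hsz2
        · rw [h]
          calc s * (z₁ * z₂) = (s * z₁) * z₂ := by group
            _ = (z₁ * s) * z₂ := by rw [hsz]
            _ = z₁ * (s * z₂) := by group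
            _ = z₁ * (z₂ * s) := by rw [hsz2]
            _ = z₁ * z₂ * s := by group
      calc s * x * s⁻¹ * x⁻¹ = (s * x) * s⁻¹ * x⁻¹ := by group
        _ = (x * s) * s⁻¹ * x⁻¹ := by rw [hsx]
        _ = 1 := by group
    · obtain ⟨x', hx'⟩ : ∃ x' : G, x' = s * x * s⁻¹ := ⟨_, rfl⟩
      have hx'Q : x' ∈ Q₁ := by rw [hx']; exact h₁.nor s hsz x hx
      have hsz2' : s * z₂ * s⁻¹ = z₂ := by rw [hsz2]; group
      have hsz2'' : s⁻¹ * z₂ * s = z₂ := by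
        calc s⁻¹ * z₂ * s = s⁻¹ * (z₂ * s) := by group
          _ = s⁻¹ * (s * z₂) := by rw [hsz2]
          _ = z₂ := by group
      have hx'z : x' * z₂ ≠ z₂ * x' := by
        intro hh
        apply hxz
        rw [hx'] at hh
        calc x * z₂ = s⁻¹ * ((s * x * s⁻¹) * (s * z₂ * s⁻¹)) * s := by group
          _ = s⁻¹ * ((s * x * s⁻¹) * z₂) * s := by rw [hsz2']
          _ = s⁻¹ * (z₂ * (s * x * s⁻¹)) * s := by rw [hh]
          _ = (s⁻¹ * z₂ * s) * x := by group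
          _ = z₂ * x := by rw [hsz2'']
      have hcR := two_coset h₁ hz₂ hx hx'Q hxz hx'z
      have hcQ : x⁻¹ * x' ∈ Q₁ := Q₁.mul_mem (Q₁.inv_mem hx) hx'Q
      have hxx : s * (x * x) = (x * x) * s := by
        rcases h₁.sq x hx with h | h
        · rw [h, mul_one, one_mul]
        · rw [h]; exact hsz
      have hsq' : x' * x' = x * x := by
        rw [hx']
        calc (s * x * s⁻¹) * (s * x * s⁻¹) = (s * (x * x)) * s⁻¹ := by group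
          _ = ((x * x) * s) * s⁻¹ := by rw [hxx]
          _ = x * x := by group
      have hxc : x * z₂ * x⁻¹ * z₂⁻¹ = z₁ := ncomm h₁ hx hz₂ hxz
      have hbadsq : (x * z₂) * (x * z₂) ≠ x * x := by
        intro hh
        have e : (x * z₂) * (x * z₂) = (x * z₂ * x⁻¹ * z₂⁻¹) * z₂ * (x * x) * z₂ := by group
        rw [e, hxc] at hh
        rcases h₁.sq x hx with h | h
        · rw [h, mul_one] at hh
          apply h₁.z1
          calc z₁ = (z₁ * z₂ * z₂) * (z₂ * z₂)⁻¹ := by group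
            _ = 1 := by rw [hh, h₂.zz]; group
        · rw [h] at hh
          apply h₁.z1
          calc z₁ = z₁ * z₂ * z₁ * z₂ := hh.symm
            _ = z₁ * (z₂ * z₁) * z₂ := by group
            _ = z₁ * (z₁ * z₂) * z₂ := by rw [hz12]
            _ = (z₁ * z₁) * (z₂ * z₂) := by group
            _ = 1 := by rw [h₁.zz, h₂.zz, one_mul]
      have hx'eq : x' = x * (x⁻¹ * x') := by group
      rcases hV _ hcQ hcR with h | h | h | h
      · left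
        rw [← hx', hx'eq, h]; group
      · right
        rw [← hx', hx'eq, h]
        calc x * z₁ * x⁻¹ = (x * z₁) * x⁻¹ := by group
          _ = (z₁ * x) * x⁻¹ := by rw [h₁.cen x hx]
          _ = z₁ := by group
      · exfalso
        apply hbadsq
        rw [← hsq', hx'eq, h]
      · exfalso
        apply hbadsq
        rw [← hsq', hx'eq, h]
        symm
        calc (x * (z₁ * z₂)) * (x * (z₁ * z₂)) = (x * z₁) * (z₂ * x) * z₁ * z₂ := by group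
          _ = (z₁ * x) * (z₂ * x) * z₁ * z₂ := by rw [h₁.cen x hx]
          _ = z₁ * ((x * z₂ * x) * z₁) * z₂ := by group
          _ = z₁ * (z₁ * (x * z₂ * x)) * z₂ := by
              rw [h₁.cen (x * z₂ * x) (Q₁.mul_mem (Q₁.mul_mem hx hz₂) hx)]
          _ = (z₁ * z₁) * ((x * z₂) * (x * z₂)) := by group
          _ = (x * z₂) * (x * z₂) := by rw [h₁.zz, one_mul]

theorem final {G : Type*} [Group G] [Finite G] {z₁ : G} {Q₁ : Subgroup G} (h₁ : Pk z₁ Q₁)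
    (g : G) (hne : g * z₁ * g⁻¹ ≠ z₁) (hin : g * z₁ * g⁻¹ ∈ Q₁) :
    z₁ ∈ Q₁.map (MulAut.conj g).toMonoidHom ∧
      ∀ u ∈ Subgroup.closure ({z₁, g * z₁ * g⁻¹} : Set G),
        ∀ v ∈ Subgroup.closure ({z₁, g * z₁ * g⁻¹} : Set G),
        u ≠ 1 → v ≠ 1 → u ≠ v →
          ∃ x ∈ Q₁ ⊔ Q₁.map (MulAut.conj g).toMonoidHom,
            x * z₁ * x⁻¹ = u ∧ x * (g * z₁ * g⁻¹) * x⁻¹ = v := by
  classical
  obtain ⟨z₂, hz₂def⟩ : ∃ z₂ : G, z₂ = g * z₁ * g⁻¹ := ⟨_, rfl⟩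
  obtain ⟨Q₂, hQ₂def⟩ : ∃ Q₂ : Subgroup G, Q₂ = Q₁.map (MulAut.conj g).toMonoidHom := ⟨_, rfl⟩
  rw [← hz₂def] at hne hin ⊢
  rw [← hQ₂def]
  have h₂ : Pk z₂ Q₂ := by rw [hz₂def, hQ₂def]; exact h₁.conj g
  have hz12 : z₂ * z₁ = z₁ * z₂ := h₁.cen z₂ hin
  obtain ⟨q₁, hq₁, hq₁z⟩ := lemA h₁ z₂ hin h₂.zz h₂.z1 hne
  have b₁ : q₁ * z₂ * q₁⁻¹ = z₁ * z₂ := by
    calc q₁ * z₂ * q₁⁻¹ = (q₁ * z₂ * q₁⁻¹ * z₂⁻¹) * z₂ := by group
      _ = z₁ * z₂ := by rw [hq₁z]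
  have a₁ : q₁ * z₁ * q₁⁻¹ = z₁ := by rw [h₁.cen q₁ hq₁]; group
  have hnc₂ : ∃ a ∈ Q₂, ∃ b ∈ Q₂, a * b * a⁻¹ * b⁻¹ = z₂ := by
    refine ⟨g * q₁ * g⁻¹, ?_, g * z₂ * g⁻¹, ?_, ?_⟩
    · rw [hQ₂def]; exact (Cfsg.Agent.Helper26.TISq.mem_map_conj Q₁ g _).mpr ⟨q₁, hq₁, rfl⟩
    · rw [hQ₂def]; exact (Cfsg.Agent.Helper26.TISq.mem_map_conj Q₁ g _).mpr ⟨z₂, hin, rfl⟩
    · calc (g * q₁ * g⁻¹) * (g * z₂ * g⁻¹) * (g * q₁ * g⁻¹)⁻¹ * (g * z₂ * g⁻¹)⁻¹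
          = g * (q₁ * z₂ * q₁⁻¹ * z₂⁻¹) * g⁻¹ := by group
        _ = g * z₁ * g⁻¹ := by rw [hq₁z]
        _ = z₂ := hz₂def.symm
  obtain ⟨q₂, hq₂, a₂⟩ := conj_main h₁ h₂ hin hne hnc₂
  have b₂ : q₂ * z₂ * q₂⁻¹ = z₂ := by rw [h₂.cen q₂ hq₂]; group
  have hq₁X : q₁ ∈ Q₁ ⊔ Q₂ := Subgroup.mem_sup_left hq₁
  have hq₂X : q₂ ∈ Q₁ ⊔ Q₂ := Subgroup.mem_sup_right hq₂
  have a₁' : q₁ * (z₁ * z₂) * q₁⁻¹ = z₂ := by
    calc q₁ * (z₁ * z₂) * q₁⁻¹ = (q₁ * z₁ * q₁⁻¹) * (q₁ * z₂ * q₁⁻¹) := by group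
      _ = z₁ * (z₁ * z₂) := by rw [a₁, b₁]
      _ = z₂ := by rw [← mul_assoc, h₁.zz, one_mul]
  have a₂' : q₂ * (z₁ * z₂) * q₂⁻¹ = z₁ := by
    calc q₂ * (z₁ * z₂) * q₂⁻¹ = (q₂ * z₁ * q₂⁻¹) * (q₂ * z₂ * q₂⁻¹) := by group
      _ = (z₁ * z₂) * z₂ := by rw [a₂, b₂]
      _ = z₁ := by rw [mul_assoc, h₂.zz, mul_one]
  have sw1 : (q₁ * q₂ * q₁) * z₁ * (q₁ * q₂ * q₁)⁻¹ = z₂ := by
    calc (q₁ * q₂ * q₁) * z₁ * (q₁ * q₂ * q₁)⁻¹
        = q₁ * (q₂ * (q₁ * z₁ * q₁⁻¹) * q₂⁻¹) * q₁⁻¹ := by group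
      _ = q₁ * (z₁ * z₂) * q₁⁻¹ := by rw [a₁, a₂]
      _ = z₂ := a₁'
  have sw2 : (q₁ * q₂ * q₁) * z₂ * (q₁ * q₂ * q₁)⁻¹ = z₁ := by
    calc (q₁ * q₂ * q₁) * z₂ * (q₁ * q₂ * q₁)⁻¹
        = q₁ * (q₂ * (q₁ * z₂ * q₁⁻¹) * q₂⁻¹) * q₁⁻¹ := by group
      _ = q₁ * z₁ * q₁⁻¹ := by rw [b₁, a₂']
      _ = z₁ := a₁
  have hB : z₁ ∈ Q₂ := by
    obtain ⟨x, hx⟩ : ∃ x : G, x = q₁ * q₂ * q₁ := ⟨_, rfl⟩
    rw [← hx] at sw1 sw2
    have hc : (g⁻¹ * x) * z₁ = z₁ * (g⁻¹ * x) := by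
      calc (g⁻¹ * x) * z₁ = g⁻¹ * (x * z₁ * x⁻¹) * x := by group
        _ = g⁻¹ * z₂ * x := by rw [sw1]
        _ = g⁻¹ * (g * z₁ * g⁻¹) * x := by rw [hz₂def]
        _ = z₁ * (g⁻¹ * x) := by group
    rw [hQ₂def, Cfsg.Agent.Helper26.TISq.mem_map_conj]
    refine ⟨(g⁻¹ * x) * z₂ * (g⁻¹ * x)⁻¹, h₁.nor _ hc z₂ hin, ?_⟩
    calc g * ((g⁻¹ * x) * z₂ * (g⁻¹ * x)⁻¹) * g⁻¹ = x * z₂ * x⁻¹ := by group
      _ = z₁ := sw2
  refine ⟨hB, ?_⟩
  have hVmem : ∀ u ∈ Subgroup.closure ({z₁, z₂} : Set G),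
      u = 1 ∨ u = z₁ ∨ u = z₂ ∨ u = z₁ * z₂ := by
    intro u hu
    have hle : Subgroup.closure ({z₁, z₂} : Set G) ≤
        Cfsg.Agent.Helper26.LargeXS.four z₁ z₂ h₁.zz h₂.zz hz12 := by
      rw [Subgroup.closure_le]
      intro w hw
      rcases hw with hw | hw
      · rw [hw]; exact Cfsg.Agent.Helper26.LargeXS.mem_four.mpr (Or.inr (Or.inl rfl))
      · rw [Set.mem_singleton_iff] at hw
        rw [hw]; exact Cfsg.Agent.Helper26.LargeXS.mem_four.mpr (Or.inr (Or.inr (Or.inl rfl)))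
    exact Cfsg.Agent.Helper26.LargeXS.mem_four.mp (hle hu)
  intro u hu v hv hu1 hv1 huv
  rcases hVmem u hu with hu' | hu' | hu' | hu'
  · exact absurd hu' hu1
  · rcases hVmem v hv with hv' | hv' | hv' | hv'
    · exact absurd hv' hv1
    · exact absurd (hu'.trans hv'.symm) huv
    · refine ⟨1, Subgroup.one_mem _, ?_, ?_⟩
      · rw [hu']; group
      · rw [hv']; group
    · refine ⟨q₁, hq₁X, ?_, ?_⟩
      · rw [hu']; exact a₁
      · rw [hv']; exact b₁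
  · rcases hVmem v hv with hv' | hv' | hv' | hv'
    · exact absurd hv' hv1
    · refine ⟨q₁ * q₂ * q₁, Subgroup.mul_mem _ (Subgroup.mul_mem _ hq₁X hq₂X) hq₁X, ?_, ?_⟩
      · rw [hu']; exact sw1
      · rw [hv']; exact sw2
    · exact absurd (hu'.trans hv'.symm) huv
    · refine ⟨q₁ * q₂, Subgroup.mul_mem _ hq₁X hq₂X, ?_, ?_⟩
      · rw [hu']
        calc (q₁ * q₂) * z₁ * (q₁ * q₂)⁻¹ = q₁ * (q₂ * z₁ * q₂⁻¹) * q₁⁻¹ := by group
          _ = q₁ * (z₁ * z₂) * q₁⁻¹ := by rw [a₂]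
          _ = z₂ := a₁'
      · rw [hv']
        calc (q₁ * q₂) * z₂ * (q₁ * q₂)⁻¹ = q₁ * (q₂ * z₂ * q₂⁻¹) * q₁⁻¹ := by group
          _ = q₁ * z₂ * q₁⁻¹ := by rw [b₂]
          _ = z₁ * z₂ := b₁
  · rcases hVmem v hv with hv' | hv' | hv' | hv'
    · exact absurd hv' hv1
    · refine ⟨q₂ * q₁, Subgroup.mul_mem _ hq₂X hq₁X, ?_, ?_⟩
      · rw [hu']
        calc (q₂ * q₁) * z₁ * (q₂ * q₁)⁻¹ = q₂ * (q₁ * z₁ * q₁⁻¹) * q₂⁻¹ := by group
          _ = q₂ * z₁ * q₂⁻¹ := by rw [a₁]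
          _ = z₁ * z₂ := a₂
      · rw [hv']
        calc (q₂ * q₁) * z₂ * (q₂ * q₁)⁻¹ = q₂ * (q₁ * z₂ * q₁⁻¹) * q₂⁻¹ := by group
          _ = q₂ * (z₁ * z₂) * q₂⁻¹ := by rw [b₁]
          _ = z₁ := a₂'
    · refine ⟨q₂, hq₂X, ?_, ?_⟩
      · rw [hu']; exact a₂
      · rw [hv']; exact b₂
    · exact absurd (hu'.trans hv'.symm) huv

end Cfsg.Agent.Helper26.SympConj
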